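import Cfsg.Agent.Lib.CovNum.Cls
import Mathlib.LinearAlgebra.Matrix.Trace

/-!
# Covering number of `PSL(n, q)`: one cyclic block

* `Ach x s δ` : some conjugate `y` of `x`, by a matrix of determinant `δ`, makes `y * x` cyclic with roots `s`;
* `base` : companion matrices achieve the admissible orderings of roots, with controlled determinant.
-/

set_option autoImplicit false
set_option linter.unusedSectionVars false

namespace Cfsg.Agent.CovNum

open Matrix Polynomial Cfsg.Agent.SLComm

variable {F : Type*} [Field F] {n m : ℕ}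

/-- Some conjugate of `x` by a matrix of determinant `δ` times `x` is cyclic with roots `s`. -/
def Ach (x : Matrix (Fin n) (Fin n) F) (s : Multiset F) (δ : F) : Prop :=
  δ ≠ 0 ∧ ∃ G1 y : Matrix (Fin n) (Fin n) F, G1.det = δ ∧ G1 * x = y * G1 ∧ Cls (rp s) (y * x)

theorem Ach.gc {x x' : Matrix (Fin n) (Fin n) F} {s : Multiset F} {δ : F} (h : Ach x s δ) (hx : GC x x') :
    Ach x' s δ := by
  obtain ⟨hδ, G1, y, hG, he, hc⟩ := h
  obtain ⟨P, hP, hPe⟩ := hx
  have hu := Ne.isUnit hP
  have hinv : P⁻¹ * x' = x * P⁻¹ := conj_inv_eq hu hPe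
  refine ⟨hδ, P * G1 * P⁻¹, P * y * P⁻¹, ?_, ?_, hc.of_gc ⟨P, hP, ?_⟩⟩
  · rw [det_mul, det_mul, hG, det_nonsing_inv, Ring.inverse_eq_inv']
    field_simp
  · rw [Matrix.mul_assoc (P * G1), hinv, ← Matrix.mul_assoc, Matrix.mul_assoc P, he]
    simp only [Matrix.mul_assoc, nonsing_inv_mul_cancel_left _ _ hu]
  · rw [Matrix.mul_assoc (P * y * P⁻¹), Matrix.mul_assoc (P * y), ← Matrix.mul_assoc P⁻¹, hinv,
      Matrix.mul_assoc x, nonsing_inv_mul _ hu, Matrix.mul_one, Matrix.mul_assoc]

theorem GC.trace_eq {x y : Matrix (Fin n) (Fin n) F} (h : GC x y) : y.trace = x.trace := by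
  obtain ⟨g, hg, he⟩ := h
  rw [show y = g * x * g⁻¹ by rw [he, mul_nonsing_inv_cancel_right _ _ (Ne.isUnit hg)], Matrix.trace_mul_comm,
    ← Matrix.mul_assoc, nonsing_inv_mul _ (Ne.isUnit hg), Matrix.one_mul]

/-- The bidiagonal part. -/
def h0M (d s : Fin (m + 2) → F) : Matrix (Fin (m + 2)) (Fin (m + 2)) F :=
  Matrix.of fun i j =>
    if j = Fin.last (m + 1) then 0 else if i.val = j.val + 1 then d j else if i = j then s j else 0

/-- Its Krylov basis. -/
def kryM (d s : Fin (m + 2) → F) : Matrix (Fin (m + 2)) (Fin (m + 2)) F :=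
  Matrix.of fun i j => (h0M d s ^ j.val *ᵥ Pi.single 0 1) i

theorem kry_spec (d s : Fin (m + 2) → F) :
    (∀ i j : Fin (m + 2), j < i → kryM d s i j = 0) ∧ ∀ j : Fin (m + 2), kryM d s j j = ∏ l ∈ Finset.Iio j, d l := by
  suffices H : ∀ j : Fin (m + 2), (∀ i : Fin (m + 2), j < i → kryM d s i j = 0) ∧
      kryM d s j j = ∏ l ∈ Finset.Iio j, d l from ⟨fun i j h => (H j).1 i h, fun j => (H j).2⟩
  intro j
  induction j using Fin.induction with
  | zero =>
    refine ⟨fun i hi => ?_, ?_⟩
    · simp [kryM, (ne_of_gt hi)]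
    · rw [show Finset.Iio (0 : Fin (m + 2)) = ∅ by ext a; simp, Finset.prod_empty]
      simp [kryM]
  | succ j ih =>
    obtain ⟨ih1, ih2⟩ := ih
    have e : ∀ i, kryM d s i j.succ = ∑ l, h0M d s i l * kryM d s l j.castSucc := fun i => by
      simp only [kryM, Matrix.of_apply, Fin.val_succ, Fin.val_castSucc]
      rw [pow_succ', ← Matrix.mulVec_mulVec]
      rfl
    have hz : ∀ i l : Fin (m + 2), j.succ ≤ i → l ≠ j.castSucc → h0M d s i l * kryM d s l j.castSucc = 0 := by
      intro i l hi hl
      have hi' : j.val + 1 ≤ i.val := hi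
      have hl' : l.val ≠ j.val := fun e0 => hl (Fin.ext (by simpa using e0))
      rcases lt_or_gt_of_ne hl with h | h
      · rw [show h0M d s i l = 0 from ?_, zero_mul]
        have h' : l.val < j.val := h
        simp only [h0M, Matrix.of_apply]
        split_ifs with h1 h2 h3
        · rfl
        · omega
        · rw [h3] at hi'; omega
        · rfl
      · rw [ih1 l h, mul_zero]
    refine ⟨fun i hi => ?_, ?_⟩
    · rw [e, Finset.sum_eq_single j.castSucc (fun l _ hl => hz i l hi.le hl) (by simp)]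
      have hi' : j.val + 1 < i.val := hi
      rw [show h0M d s i j.castSucc = 0 from ?_, zero_mul]
      simp only [h0M, Matrix.of_apply, Fin.val_castSucc]
      split_ifs with h1 h2 h3
      · rfl
      · omega
      · rw [h3, Fin.val_castSucc] at hi'; omega
      · rfl
    · rw [e, Finset.sum_eq_single j.castSucc (fun l _ hl => hz _ l le_rfl hl) (by simp), ih2,
        show h0M d s j.succ j.castSucc = d j.castSucc by
          simp only [h0M, Matrix.of_apply, Fin.val_castSucc, Fin.val_succ, if_true]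
          rw [if_neg (ne_of_lt (Fin.castSucc_lt_last j))],
        show Finset.Iio j.succ = insert j.castSucc (Finset.Iio j.castSucc) by
          ext a
          simp only [Finset.mem_Iio, Finset.mem_insert, Fin.lt_def, Fin.ext_iff, Fin.val_succ, Fin.val_castSucc]
          omega, Finset.prod_insert (by simp)]

/-- A cyclic matrix with prescribed first columns and polynomial `g`. -/
theorem exists_hess (g : F[X]) (d s : Fin (m + 2) → F) (hd : ∀ j : Fin (m + 1), d j.castSucc ≠ 0) :
    ∃ H : Matrix (Fin (m + 2)) (Fin (m + 2)) F, (∀ i, ∀ j, j ≠ Fin.last (m + 1) → H i j = h0M d s i j) ∧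
      (kryM d s).det ≠ 0 ∧ (kryM d s).det = ∏ j : Fin (m + 2), ∏ l ∈ Finset.Iio j, d l ∧
      H * kryM d s = kryM d s * cm g := by
  obtain ⟨hup, hdiag⟩ := kry_spec d s
  set K := kryM d s with hK
  have hKdet : K.det = ∏ j : Fin (m + 2), ∏ l ∈ Finset.Iio j, d l := by
    rw [Matrix.det_of_isUpperTriangular (fun i j h => hup i j h)]
    exact Finset.prod_congr rfl fun j _ => hdiag j
  have hprod : ∀ j : Fin (m + 2), ∏ l ∈ Finset.Iio j, d l ≠ 0 := fun j => by
    refine Finset.prod_ne_zero_iff.2 fun l hl => ?_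
    have hl' : l < j := Finset.mem_Iio.1 hl
    obtain ⟨l', rfl⟩ := Fin.eq_castSucc_of_ne_last (ne_of_lt (lt_of_lt_of_le hl' (Fin.le_last j)))
    exact hd l'
  have hv : K (Fin.last (m + 1)) (Fin.last (m + 1)) ≠ 0 := by rw [hdiag]; exact hprod _
  set w : Fin (m + 2) → F := fun i =>
    ((K *ᵥ fun r => -g.coeff r) i - ∑ l, h0M d s i l * K l (Fin.last (m + 1))) /
      K (Fin.last (m + 1)) (Fin.last (m + 1)) with hw
  set H : Matrix (Fin (m + 2)) (Fin (m + 2)) F :=
    Matrix.of fun i j => if j = Fin.last (m + 1) then w i else h0M d s i j with hH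
  refine ⟨H, fun i j hj => by simp [hH, hj], by rw [hKdet]; exact Finset.prod_ne_zero_iff.2 fun j _ => hprod j,
    hKdet, ?_⟩
  ext i j
  rw [Matrix.mul_apply, Matrix.mul_apply]
  induction j using Fin.lastCases with
  | last =>
    have h1 : ∑ l, K i l * cm g l (Fin.last (m + 1)) = (K *ᵥ fun r => -g.coeff r) i := by
      simp [Matrix.mulVec, dotProduct, cm_last]
    have h2 : h0M d s i (Fin.last (m + 1)) = 0 := by simp [h0M]
    rw [h1, Fin.sum_univ_castSucc]
    have h3 := Fin.sum_univ_castSucc (fun l => h0M d s i l * K l (Fin.last (m + 1)))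
    simp only [h2, zero_mul, add_zero] at h3
    simp only [hH, Matrix.of_apply, if_true, if_neg (ne_of_lt (Fin.castSucc_lt_last _)), ← h3, hw,
      div_mul_cancel₀ _ hv, add_sub_cancel]
  | cast j =>
    rw [Finset.sum_eq_single (a := j.succ) (f := fun l => K i l * cm g l j.castSucc)]
    · rw [cm_castSucc, if_pos rfl, mul_one]
      have : K i j.succ = ∑ l, h0M d s i l * K l j.castSucc := by
        simp only [hK, kryM, Matrix.of_apply, Fin.val_succ, Fin.val_castSucc]
        rw [pow_succ', ← Matrix.mulVec_mulVec]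
        rfl
      rw [this]
      refine Finset.sum_congr rfl fun l _ => ?_
      by_cases hl : l = Fin.last (m + 1)
      · subst hl
        rw [hup _ _ (Fin.castSucc_lt_last j), mul_zero, mul_zero]
      · simp [hH, hl]
    · intro l _ hl
      rw [cm_castSucc, if_neg hl, mul_zero]
    · simp

/-- One cyclic block. -/
theorem base [Fintype F] (h4 : 4 ≤ Fintype.card F) {h : F[X]} (hm : h.Monic) (hdeg : h.natDegree = m + 2)
    (h0 : h.coeff 0 ≠ 0) :
    ∃ δh : F, δh ≠ 0 ∧ ∀ rs : Fin (m + 2) → F, (∀ i, rs i ≠ 0) → ∏ i, rs i = cdet h ^ 2 →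
      ((1 ≤ m ∧ Contig rs) ∨ ∀ i, i ≠ Fin.last (m + 1) → rs i ≠ rs (Fin.last (m + 1))) →
      Ach (cm (m := m + 1) h) (Finset.univ.val.map rs)
        (δh * ∏ j : Fin (m + 2), ∏ l ∈ Finset.Iio j, (rs l)⁻¹) := by
  set C := cm (m := m + 1) h with hC
  set g := invPoly h with hg
  have hgm : g.Monic := invPoly_monic h0
  have hgd : g.natDegree = m + 2 := by rw [hg, invPoly_natDegree h0, hdeg]
  have hCc : Cls h C := cls_cm hm hdeg
  have hCd : C.det = cdet h := hCc.det hm
  have hCd0 : C.det ≠ 0 := by rw [hCd]; exact mul_ne_zero (pow_ne_zero _ (neg_ne_zero.2 one_ne_zero)) h0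
  obtain ⟨S0, hS0, hS0e⟩ := (hCc.inv hm h0).gc (cls_cm hgm hgd)
  refine ⟨S0.det, hS0, fun rs hrs hprod hord => ?_⟩
  set d : Fin (m + 2) → F := fun i => (rs i)⁻¹ with hd
  set X0 := C⁻¹.trace + h.coeff (m + 1) * d (Fin.last (m + 1)) - ((m - 1 : ℕ) : F) with hX0
  obtain ⟨s1, hs10, hs1X, -⟩ := exists_avoid_three h4 0 X0 0
  set s : Fin (m + 2) → F := fun j => if j.val = 0 then 0 else if j.val = 1 then s1 else 1 with hs
  obtain ⟨H, hH, hK0, hKd, hHK⟩ := exists_hess g d s fun j => inv_ne_zero (hrs _)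
  set K := kryM d s
  have hG0 : (K * S0).det ≠ 0 := by rw [det_mul]; exact mul_ne_zero hK0 hS0
  have hHG : H * (K * S0) = (K * S0) * C⁻¹ := by
    rw [← Matrix.mul_assoc, hHK, Matrix.mul_assoc, ← hS0e, Matrix.mul_assoc]
  have hgcH : GC C⁻¹ H := ⟨K * S0, hG0, hHG.symm⟩
  have hHd : H.det = C.det⁻¹ := by rw [hgcH.det_eq, det_nonsing_inv, Ring.inverse_eq_inv']
  have hHd0 : H.det ≠ 0 := by rw [hHd]; exact inv_ne_zero hCd0
  set V := C⁻¹ * H with hV
  have hCV : C * V = H := mul_nonsing_inv_cancel_left _ _ (Ne.isUnit hCd0)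
  have hrow0 : ∀ j, -h.coeff 0 * V (Fin.last (m + 1)) j = H 0 j := fun j => by rw [← hCV, hC, cm_mul_zero]
  have hrow : ∀ (i : Fin (m + 1)) (j), V i.castSucc j + -h.coeff (i.val + 1) * V (Fin.last (m + 1)) j = H i.succ j :=
    fun i j => by rw [← hCV, hC, cm_mul_succ]
  have hlastz : ∀ j, j ≠ Fin.last (m + 1) → V (Fin.last (m + 1)) j = 0 := fun j hj => by
    have := hrow0 j
    rw [hH _ _ hj] at this
    have hz : h0M d s 0 j = 0 := by
      simp only [h0M, Matrix.of_apply, if_neg hj]
      rw [if_neg (show ¬ (0 : Fin (m + 2)).val = j.val + 1 by rw [Fin.val_zero]; omega)]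
      split_ifs with e0
      · simp [hs, ← e0]
      · rfl
    rw [hz, mul_eq_zero] at this
    exact this.resolve_left (neg_ne_zero.2 h0)
  have hVcol : ∀ (i : Fin (m + 1)) (j), j ≠ Fin.last (m + 1) →
      V i.castSucc j = if i.val = j.val then d j else if i.val + 1 = j.val then s j else 0 := fun i j hj => by
    have := hrow i j
    rw [hlastz j hj, mul_zero, add_zero, hH _ _ hj] at this
    rw [this]
    simp only [h0M, Matrix.of_apply, if_neg hj]
    simp only [Fin.val_succ, Fin.ext_iff, Nat.add_right_cancel_iff]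
  have hUp : Upr V := fun i j hij => by
    have hj : j ≠ Fin.last (m + 1) := ne_of_lt (lt_of_lt_of_le hij (Fin.le_last i))
    induction i using Fin.lastCases with
    | last => exact hlastz j hj
    | cast i =>
      have h' : j.val < i.val := hij
      rw [hVcol i j hj, if_neg (by omega), if_neg (by omega)]
  have hVd : ∀ i : Fin (m + 1), V i.castSucc i.castSucc = d i.castSucc := fun i => by
    rw [hVcol i _ (ne_of_lt (Fin.castSucc_lt_last i)), if_pos (Fin.val_castSucc i).symm]
  have hVdet : V.det = (cdet h ^ 2)⁻¹ := by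
    rw [hV, det_mul, det_nonsing_inv, Ring.inverse_eq_inv', hHd, hCd, pow_two, mul_inv]
  have hVlast : V (Fin.last (m + 1)) (Fin.last (m + 1)) = d (Fin.last (m + 1)) := by
    rw [Matrix.det_of_isUpperTriangular (fun i j h => hUp i j h), Fin.prod_univ_castSucc,
      Finset.prod_congr rfl (fun i _ => hVd i), ← hprod, Fin.prod_univ_castSucc (f := rs), mul_inv,
      ← Finset.prod_inv_distrib] at hVdet
    exact mul_left_cancel₀ (Finset.prod_ne_zero_iff.2 fun i _ => inv_ne_zero (hrs _)) hVdet
  have hdiag : ∀ i, V i i = d i := fun i => by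
    induction i using Fin.lastCases with
    | last => exact hVlast
    | cast i => exact hVd i
  have hms : diagMs V = (Finset.univ.val.map rs).map fun a => a⁻¹ := by
    rw [diagMs, Multiset.map_map]; exact Multiset.map_congr rfl fun i _ => hdiag i
  have hcl : Cls (rp (diagMs V)) V := by
    rcases hord with ⟨hm1, hct⟩ | hsimple
    · refine upper_cls hUp (fun i j k hij hjk e0 => ?_) fun i j hij _ => ?_
      · simp only [hdiag, hd, _root_.inv_inj] at e0 ⊢
        exact hct i j k hij hjk e0
      have hi : i ≠ Fin.last (m + 1) := fun e0 => by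
        have := j.isLt
        rw [e0, Fin.val_last] at hij
        omega
      obtain ⟨i, rfl⟩ := Fin.eq_castSucc_of_ne_last hi
      rw [Fin.val_castSucc] at hij
      by_cases hj : j = Fin.last (m + 1)
      · subst hj
        rw [Fin.val_last] at hij
        have hi' : i = Fin.last m := Fin.ext (by rw [Fin.val_last]; omega)
        subst hi'
        have htr : H.trace = C⁻¹.trace := hgcH.trace_eq
        rw [Matrix.trace, Fin.sum_univ_castSucc] at htr
        simp only [Matrix.diag_apply] at htr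
        have hHs : ∀ r : Fin (m + 1), H r.castSucc r.castSucc = s r.castSucc := fun r => by
          rw [hH _ _ (ne_of_lt (Fin.castSucc_lt_last r))]
          simp only [h0M, Matrix.of_apply, if_neg (ne_of_lt (Fin.castSucc_lt_last r))]
          simp
        have hsum : ∑ r : Fin (m + 1), s r.castSucc = s1 + ((m - 1 : ℕ) : F) := by
          obtain ⟨p, rfl⟩ : ∃ p, m = p + 1 := ⟨m - 1, by omega⟩
          simp [hs, Fin.sum_univ_succ]
        rw [Finset.sum_congr rfl (fun r _ => hHs r), hsum] at htr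
        have := hrow (Fin.last m) (Fin.last (m + 1))
        rw [Fin.succ_last, Fin.val_last, hVlast] at this
        intro h00
        rw [h00, zero_add] at this
        refine hs1X ?_
        rw [hX0]
        linear_combination htr + this
      · rw [hVcol i j hj, if_neg (by omega), if_pos (by omega)]
        simp only [hs]
        rw [if_neg (by omega)]
        split_ifs
        · exact hs10
        · exact one_ne_zero
    · refine bidiag_cls hUp (fun i j hj hij => ?_) (fun i j hj hij => ?_) fun i hi => ?_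
      · obtain ⟨i, rfl⟩ := Fin.eq_castSucc_of_ne_last (show i ≠ Fin.last (m + 1) by
          intro e0; have := j.isLt; rw [e0, Fin.val_last] at hij; omega)
        rw [Fin.val_castSucc] at hij
        rw [hVcol i j hj, if_neg (by omega), if_neg (by omega)]
      · obtain ⟨i, rfl⟩ := Fin.eq_castSucc_of_ne_last (show i ≠ Fin.last (m + 1) by
          intro e0; have := j.isLt; rw [e0, Fin.val_last] at hij; omega)
        rw [Fin.val_castSucc] at hij
        rw [hVcol i j hj, if_neg (by omega), if_pos (by omega)]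
        simp only [hs]
        rw [if_neg (by omega)]
        split_ifs
        · exact hs10
        · exact one_ne_zero
      · simp only [hdiag, hd, ne_eq, _root_.inv_inj]
        exact hsimple i hi
  have hne : (0 : F) ∉ (Finset.univ.val.map rs).map fun a => a⁻¹ := fun h1 => by
    rw [Multiset.map_map, Multiset.mem_map] at h1
    obtain ⟨i, -, hi⟩ := h1
    exact inv_ne_zero (hrs i) hi
  have hUc := hcl.inv (rp_monic _) (hms ▸ rp_coeff_zero hne)
  rw [hms, invPoly_rp hne, Multiset.map_map] at hUc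
  simp only [Function.comp_def, inv_inv, Multiset.map_id'] at hUc
  refine ⟨mul_ne_zero hS0 (Finset.prod_ne_zero_iff.2 fun j _ => Finset.prod_ne_zero_iff.2 fun l _ =>
    inv_ne_zero (hrs l)), K * S0, H⁻¹, ?_, ?_, ?_⟩
  · rw [det_mul, hKd, mul_comm]
  · have e : K * S0 = H * (K * S0) * C := by rw [hHG, nonsing_inv_mul_cancel_right _ _ (Ne.isUnit hCd0)]
    calc K * S0 * C = H⁻¹ * (H * (K * S0) * C) := by
          rw [Matrix.mul_assoc H, nonsing_inv_mul_cancel_left _ _ (Ne.isUnit hHd0)]
      _ = H⁻¹ * (K * S0) := by rw [← e]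
  · rw [hV, Matrix.mul_inv_rev, nonsing_inv_nonsing_inv _ (Ne.isUnit hCd0)] at hUc
    exact hUc

end Cfsg.Agent.CovNum
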