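import Cfsg.Agent.EqLemmas
import Mathlib.LinearAlgebra.Matrix.NonsingularInverse
import Mathlib.LinearAlgebra.Matrix.Determinant.Basic
import Mathlib.LinearAlgebra.Matrix.ToLin
import Mathlib.GroupTheory.Perm.Basic
import Mathlib.Tactic.LinearCombination

/-!
# Covering number of `PSL(n, q)`: conjugacy relations and block matrices

* `GC`, `SC` : conjugate under the general, resp. special, linear group;
* `Prd R x k G` : `G` is a product of `k` matrices related to `x` by `R`;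
* `bl β a b D` : the block matrix `[[β, b], [a, D]]`;
* `NC μ l` : the matrices in `l` have no common eigenvector with eigenvalue `μ`.
-/

set_option autoImplicit false
set_option linter.unusedSectionVars false

namespace Cfsg.Agent.CovNum

open Matrix

variable {F : Type*} [Field F] {n m : ℕ}

/-- Conjugate under the general linear group. -/
def GC (x y : Matrix (Fin n) (Fin n) F) : Prop := ∃ g : Matrix (Fin n) (Fin n) F, g.det ≠ 0 ∧ g * x = y * g

/-- Conjugate under the special linear group. -/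
def SC (x y : Matrix (Fin n) (Fin n) F) : Prop := ∃ g : Matrix (Fin n) (Fin n) F, g.det = 1 ∧ g * x = y * g

/-- A product of `k` matrices related to `x`. -/
def Prd (R : Matrix (Fin n) (Fin n) F → Matrix (Fin n) (Fin n) F → Prop) (x : Matrix (Fin n) (Fin n) F) (k : ℕ)
    (G : Matrix (Fin n) (Fin n) F) : Prop :=
  ∃ l : List (Matrix (Fin n) (Fin n) F), l.length = k ∧ (∀ y ∈ l, R x y) ∧ l.prod = G

/-- No common eigenvector for the eigenvalue `μ`. -/
def NC (μ : F) (l : List (Matrix (Fin n) (Fin n) F)) : Prop :=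
  ∀ w : Fin n → F, (∀ y ∈ l, y *ᵥ w = μ • w) → w = 0

theorem SC.gc {x y : Matrix (Fin n) (Fin n) F} (h : SC x y) : GC x y := by
  obtain ⟨g, hg, he⟩ := h
  exact ⟨g, by rw [hg]; exact one_ne_zero, he⟩

theorem GC.refl (x : Matrix (Fin n) (Fin n) F) : GC x x := ⟨1, by simp, by simp⟩

theorem SC.refl (x : Matrix (Fin n) (Fin n) F) : SC x x := ⟨1, by simp, by simp⟩

theorem conj_inv_eq {x y g : Matrix (Fin n) (Fin n) F} (hg : IsUnit g.det) (h : g * x = y * g) :
    g⁻¹ * y = x * g⁻¹ := by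
  calc g⁻¹ * y = g⁻¹ * (y * g * g⁻¹) := by rw [mul_nonsing_inv_cancel_right _ _ hg]
    _ = g⁻¹ * (g * (x * g⁻¹)) := by rw [← h, Matrix.mul_assoc]
    _ = x * g⁻¹ := by rw [← Matrix.mul_assoc, nonsing_inv_mul _ hg, Matrix.one_mul]

theorem GC.symm {x y : Matrix (Fin n) (Fin n) F} (h : GC x y) : GC y x := by
  obtain ⟨g, hg, he⟩ := h
  exact ⟨g⁻¹, by rw [det_nonsing_inv]; simpa using hg, conj_inv_eq (Ne.isUnit hg) he⟩

theorem SC.symm {x y : Matrix (Fin n) (Fin n) F} (h : SC x y) : SC y x := by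
  obtain ⟨g, hg, he⟩ := h
  exact ⟨g⁻¹, by rw [det_nonsing_inv, hg]; simp, conj_inv_eq (by rw [hg]; exact isUnit_one) he⟩

theorem GC.trans {x y z : Matrix (Fin n) (Fin n) F} (h : GC x y) (h' : GC y z) : GC x z := by
  obtain ⟨g, hg, he⟩ := h
  obtain ⟨g', hg', he'⟩ := h'
  refine ⟨g' * g, by rw [det_mul]; exact mul_ne_zero hg' hg, ?_⟩
  rw [Matrix.mul_assoc, he, ← Matrix.mul_assoc, he', Matrix.mul_assoc]

theorem SC.trans {x y z : Matrix (Fin n) (Fin n) F} (h : SC x y) (h' : SC y z) : SC x z := by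
  obtain ⟨g, hg, he⟩ := h
  obtain ⟨g', hg', he'⟩ := h'
  refine ⟨g' * g, by rw [det_mul, hg, hg', one_mul], ?_⟩
  rw [Matrix.mul_assoc, he, ← Matrix.mul_assoc, he', Matrix.mul_assoc]

theorem GC.det_eq {x y : Matrix (Fin n) (Fin n) F} (h : GC x y) : y.det = x.det := by
  obtain ⟨g, hg, he⟩ := h
  have := congrArg Matrix.det he
  rw [det_mul, det_mul] at this
  exact mul_right_cancel₀ hg (by linear_combination -this)

theorem GC.smul {x y : Matrix (Fin n) (Fin n) F} (h : GC x y) (c : F) : GC (c • x) (c • y) := by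
  obtain ⟨g, hg, he⟩ := h
  exact ⟨g, hg, by rw [Matrix.mul_smul, he, Matrix.smul_mul]⟩

theorem SC.smul {x y : Matrix (Fin n) (Fin n) F} (h : SC x y) (c : F) : SC (c • x) (c • y) := by
  obtain ⟨g, hg, he⟩ := h
  exact ⟨g, hg, by rw [Matrix.mul_smul, he, Matrix.smul_mul]⟩

theorem GC.transpose {x y : Matrix (Fin n) (Fin n) F} (h : GC x y) : GC xᵀ yᵀ := by
  obtain ⟨g, hg, he⟩ := h
  refine GC.symm ⟨gᵀ, by rwa [det_transpose], ?_⟩
  rw [← transpose_mul, ← transpose_mul, he]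

theorem SC.transpose {x y : Matrix (Fin n) (Fin n) F} (h : SC x y) : SC xᵀ yᵀ := by
  obtain ⟨g, hg, he⟩ := h
  refine SC.symm ⟨gᵀ, by rwa [det_transpose], ?_⟩
  rw [← transpose_mul, ← transpose_mul, he]

theorem GC.scalar {x y : Matrix (Fin n) (Fin n) F} (h : GC x y) {c : F} (hx : x = c • 1) : y = c • 1 := by
  obtain ⟨g, hg, he⟩ := h
  rw [hx, Matrix.mul_smul, mul_one] at he
  have := congrArg (· * g⁻¹) he.symm
  simp only [mul_nonsing_inv_cancel_right _ _ (Ne.isUnit hg)] at this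
  rw [this, Matrix.smul_mul, mul_nonsing_inv _ (Ne.isUnit hg)]

theorem GC.nonscalar {x y : Matrix (Fin n) (Fin n) F} (h : GC x y) (hx : ∀ c : F, x ≠ c • 1) :
    ∀ c : F, y ≠ c • 1 := fun c hy => hx c (h.symm.scalar hy)

theorem Prd.imp {R R' : Matrix (Fin n) (Fin n) F → Matrix (Fin n) (Fin n) F → Prop}
    {x G : Matrix (Fin n) (Fin n) F} {k : ℕ} (h : Prd R x k G) (hR : ∀ y, R x y → R' x y) : Prd R' x k G := by
  obtain ⟨l, h1, h2, h3⟩ := h
  exact ⟨l, h1, fun y hy => hR y (h2 y hy), h3⟩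

theorem Prd.gc {x G : Matrix (Fin n) (Fin n) F} {k : ℕ} (h : Prd SC x k G) : Prd GC x k G :=
  h.imp fun _ => SC.gc

theorem Prd.mul {R : Matrix (Fin n) (Fin n) F → Matrix (Fin n) (Fin n) F → Prop}
    {x G H : Matrix (Fin n) (Fin n) F} {a b : ℕ} (h : Prd R x a G) (h' : Prd R x b H) :
    Prd R x (a + b) (G * H) := by
  obtain ⟨l, h1, h2, h3⟩ := h
  obtain ⟨l', h1', h2', h3'⟩ := h'
  refine ⟨l ++ l', by simp [h1, h1'], fun y hy => ?_, by rw [List.prod_append, h3, h3']⟩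
  rcases List.mem_append.1 hy with hy | hy
  exacts [h2 y hy, h2' y hy]

theorem Prd.one {R : Matrix (Fin n) (Fin n) F → Matrix (Fin n) (Fin n) F → Prop}
    {x y : Matrix (Fin n) (Fin n) F} (h : R x y) : Prd R x 1 y :=
  ⟨[y], rfl, by simpa using h, by simp⟩

/-- Conjugating each factor. -/
theorem prod_map_conj {g : Matrix (Fin n) (Fin n) F} (hg : IsUnit g.det) :
    ∀ l : List (Matrix (Fin n) (Fin n) F), (l.map fun y => g * y * g⁻¹).prod = g * l.prod * g⁻¹
  | [] => by simp [mul_nonsing_inv _ hg]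
  | y :: l => by
    rw [List.map_cons, List.prod_cons, prod_map_conj hg l, List.prod_cons]
    simp only [Matrix.mul_assoc]
    rw [← Matrix.mul_assoc g⁻¹ g, nonsing_inv_mul _ hg, Matrix.one_mul]

theorem Prd.conj {x G G' : Matrix (Fin n) (Fin n) F} {k : ℕ} (h : Prd GC x k G) (hG : GC G G') :
    Prd GC x k G' := by
  obtain ⟨l, h1, h2, h3⟩ := h
  obtain ⟨g, hg, he⟩ := hG
  refine ⟨l.map fun y => g * y * g⁻¹, by simpa using h1, fun y hy => ?_, ?_⟩
  · obtain ⟨z, hz, rfl⟩ := List.mem_map.1 hy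
    exact (h2 z hz).trans ⟨g, hg, by rw [nonsing_inv_mul_cancel_right _ _ (Ne.isUnit hg)]⟩
  · rw [prod_map_conj (Ne.isUnit hg), h3, he, mul_nonsing_inv_cancel_right _ _ (Ne.isUnit hg)]

theorem Prd.conjS {x G G' : Matrix (Fin n) (Fin n) F} {k : ℕ} (h : Prd SC x k G) (hG : SC G G') :
    Prd SC x k G' := by
  obtain ⟨l, h1, h2, h3⟩ := h
  obtain ⟨g, hg, he⟩ := hG
  have hu : IsUnit g.det := by rw [hg]; exact isUnit_one
  refine ⟨l.map fun y => g * y * g⁻¹, by simpa using h1, fun y hy => ?_, ?_⟩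
  · obtain ⟨z, hz, rfl⟩ := List.mem_map.1 hy
    exact (h2 z hz).trans ⟨g, hg, by rw [nonsing_inv_mul_cancel_right _ _ hu]⟩
  · rw [prod_map_conj hu, h3, he, mul_nonsing_inv_cancel_right _ _ hu]

theorem NC.map {μ : F} {l : List (Matrix (Fin n) (Fin n) F)} (h : NC μ l) {g : Matrix (Fin n) (Fin n) F}
    (hg : IsUnit g.det) : NC μ (l.map fun y => g * y * g⁻¹) := by
  intro w hw
  have h1 : g⁻¹ *ᵥ w = 0 := h _ fun y hy => by
    have := congrArg (g⁻¹ *ᵥ ·) (hw _ (List.mem_map.2 ⟨y, hy, rfl⟩))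
    simp only [mulVec_mulVec, mulVec_smul] at this
    rwa [← Matrix.mul_assoc, ← Matrix.mul_assoc, nonsing_inv_mul _ hg, Matrix.one_mul, ← mulVec_mulVec] at this
  have := congrArg (g *ᵥ ·) h1
  simpa [mulVec_mulVec, mul_nonsing_inv _ hg] using this

/-! ### Block matrices -/

/-- The block matrix `[[β, b], [a, D]]`. -/
def bl (β : F) (a b : Fin m → F) (D : Matrix (Fin m) (Fin m) F) : Matrix (Fin (m + 1)) (Fin (m + 1)) F :=
  Matrix.of (Fin.cases (Fin.cons β b) fun i => Fin.cons (a i) (D i))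

@[simp] theorem bl_zero_zero (β : F) (a b : Fin m → F) (D : Matrix (Fin m) (Fin m) F) : bl β a b D 0 0 = β := rfl
@[simp] theorem bl_zero_succ (β : F) (a b : Fin m → F) (D : Matrix (Fin m) (Fin m) F) (j : Fin m) :
    bl β a b D 0 j.succ = b j := rfl
@[simp] theorem bl_succ_zero (β : F) (a b : Fin m → F) (D : Matrix (Fin m) (Fin m) F) (i : Fin m) :
    bl β a b D i.succ 0 = a i := rfl
@[simp] theorem bl_succ_succ (β : F) (a b : Fin m → F) (D : Matrix (Fin m) (Fin m) F) (i j : Fin m) :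
    bl β a b D i.succ j.succ = D i j := rfl

theorem bl_eta (M : Matrix (Fin (m + 1)) (Fin (m + 1)) F) :
    M = bl (M 0 0) (fun i => M i.succ 0) (fun j => M 0 j.succ) (M.submatrix Fin.succ Fin.succ) := by
  ext i j
  induction i using Fin.cases <;> induction j using Fin.cases <;> simp

theorem bl_inj {β β' : F} {a a' b b' : Fin m → F} {D D' : Matrix (Fin m) (Fin m) F}
    (h : bl β a b D = bl β' a' b' D') : β = β' ∧ a = a' ∧ b = b' ∧ D = D' :=
  ⟨by simpa using congrFun (congrFun h 0) 0, funext fun i => by simpa using congrFun (congrFun h i.succ) 0,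
    funext fun j => by simpa using congrFun (congrFun h 0) j.succ,
    Matrix.ext fun i j => by simpa using congrFun (congrFun h i.succ) j.succ⟩

theorem smul_one_bl (c : F) : (c • 1 : Matrix (Fin (m + 1)) (Fin (m + 1)) F) = bl c 0 0 (c • 1) := by
  ext i j
  induction i using Fin.cases <;> induction j using Fin.cases <;>
    simp [Matrix.one_apply, (Fin.succ_ne_zero _).symm]

theorem one_bl : (1 : Matrix (Fin (m + 1)) (Fin (m + 1)) F) = bl 1 0 0 1 := by
  simpa using smul_one_bl (1 : F) (m := m)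

theorem bl_mul (β β' : F) (a a' b b' : Fin m → F) (D D' : Matrix (Fin m) (Fin m) F) :
    bl β a b D * bl β' a' b' D' =
      bl (β * β' + b ⬝ᵥ a') (β' • a + D *ᵥ a') (β • b' + b ᵥ* D') (vecMulVec a b' + D * D') := by
  ext i j
  induction i using Fin.cases <;> induction j using Fin.cases <;>
    simp [Matrix.mul_apply, Fin.sum_univ_succ, vecMulVec_apply, dotProduct, Matrix.mulVec, Matrix.vecMul,
      mul_comm β']

theorem bl_mulVec (β : F) (a b : Fin m → F) (D : Matrix (Fin m) (Fin m) F) (t : F) (w : Fin m → F) :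
    bl β a b D *ᵥ Fin.cons t w = Fin.cons (β * t + b ⬝ᵥ w) (t • a + D *ᵥ w) := by
  ext i
  induction i using Fin.cases <;>
    simp [Matrix.mulVec, Fin.sum_univ_succ, dotProduct, mul_comm t]

theorem bl_transpose (β : F) (a b : Fin m → F) (D : Matrix (Fin m) (Fin m) F) :
    (bl β a b D)ᵀ = bl β b a Dᵀ := by
  ext i j
  induction i using Fin.cases <;> induction j using Fin.cases <;> simp

theorem det_bl_upper (β : F) (b : Fin m → F) (D : Matrix (Fin m) (Fin m) F) :
    (bl β 0 b D).det = β * D.det := by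
  rw [Matrix.det_succ_column_zero, Fin.sum_univ_succ, Finset.sum_eq_zero, add_zero]
  · simp only [bl_zero_zero, Fin.val_zero, pow_zero, one_mul]
    congr 1
  · intro j _; simp

theorem det_bl_lower (β : F) (a : Fin m → F) (D : Matrix (Fin m) (Fin m) F) :
    (bl β a 0 D).det = β * D.det := by
  rw [← det_transpose, bl_transpose, det_bl_upper, det_transpose]

/-- The Schur complement. -/
def schur (β : F) (a b : Fin m → F) (D : Matrix (Fin m) (Fin m) F) : Matrix (Fin m) (Fin m) F :=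
  D - β⁻¹ • vecMulVec a b

theorem det_bl {β : F} (hβ : β ≠ 0) (a b : Fin m → F) (D : Matrix (Fin m) (Fin m) F) :
    (bl β a b D).det = β * (schur β a b D).det := by
  have h : bl 1 (β⁻¹ • a) 0 1 * bl β 0 b (schur β a b D) = bl β a b D := by
    rw [bl_mul]
    congr 1 <;> simp [schur, smul_smul, hβ, Matrix.smul_vecMulVec]
  rw [← h, det_mul, det_bl_lower, det_one, det_bl_upper]
  ring

theorem diag_mul_bl (t β : F) (g : Matrix (Fin m) (Fin m) F) (a b : Fin m → F) (D : Matrix (Fin m) (Fin m) F) :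
    bl t 0 0 g * bl β a b D = bl (t * β) (g *ᵥ a) (t • b) (g * D) := by
  rw [bl_mul]; simp

theorem bl_mul_diag (t β : F) (g : Matrix (Fin m) (Fin m) F) (a b : Fin m → F) (D : Matrix (Fin m) (Fin m) F) :
    bl β a b D * bl t 0 0 g = bl (β * t) (t • a) (b ᵥ* g) (D * g) := by
  rw [bl_mul]; simp

theorem det_diag (t : F) (g : Matrix (Fin m) (Fin m) F) : (bl t 0 0 g).det = t * g.det := det_bl_upper _ _ _

/-- Conjugation by a block diagonal matrix. -/
theorem sc_diag {β : F} {a b a' b' : Fin m → F} {D D' g : Matrix (Fin m) (Fin m) F} (hg : g.det ≠ 0)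
    (hD : g * D = D' * g) (ha : g.det • (g *ᵥ a) = a') (hb : g.det⁻¹ • b = b' ᵥ* g) :
    SC (bl β a b D) (bl β a' b' D') := by
  refine ⟨bl g.det⁻¹ 0 0 g, by rw [det_diag, inv_mul_cancel₀ hg], ?_⟩
  rw [diag_mul_bl, bl_mul_diag, hD, hb, mul_comm, ← ha, smul_smul, inv_mul_cancel₀ hg, one_smul]

/-- An upper shear. -/
theorem sc_shear (β : F) (a b δ : Fin m → F) (D : Matrix (Fin m) (Fin m) F) :
    SC (bl β a b D) (bl (β + δ ⬝ᵥ a) a (b + δ ᵥ* D - (β + δ ⬝ᵥ a) • δ) (D - vecMulVec a δ)) := by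
  refine ⟨bl 1 0 δ 1, by rw [det_bl_upper]; simp, ?_⟩
  rw [bl_mul, bl_mul]
  congr 1 <;> simp

/-- A lower shear. -/
theorem sc_lshear (β : F) (a z : Fin m → F) (D : Matrix (Fin m) (Fin m) F) :
    SC (bl β a 0 D) (bl β (a + (D *ᵥ z - β • z)) 0 D) := by
  refine ⟨bl 1 (-z) 0 1, by rw [det_bl_lower]; simp, ?_⟩
  rw [bl_mul, bl_mul]
  congr 1
  · simp
  · simp [Matrix.mulVec_neg]
    abel
  · simp
  · simp

theorem gc_diag_scalar {β : F} {a b : Fin m → F} {D : Matrix (Fin m) (Fin m) F} {t : F} (ht : t ≠ 0) :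
    GC (bl β a b D) (bl β (t⁻¹ • a) (t • b) D) := by
  refine ⟨bl t 0 0 1, by rw [det_diag]; simpa using ht, ?_⟩
  rw [diag_mul_bl, bl_mul_diag]
  simp [smul_smul, ht, mul_comm]

/-- A conjugate of a block matrix can be rescaled to a conjugate by a matrix of determinant one. -/
theorem sc_of_gc_bl {x : Matrix (Fin (m + 1)) (Fin (m + 1)) F} {β : F} {a b : Fin m → F}
    {D : Matrix (Fin m) (Fin m) F} (h : GC x (bl β a b D)) :
    ∃ t : F, t ≠ 0 ∧ SC x (bl β (t • a) (t⁻¹ • b) D) := by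
  obtain ⟨g, hg, he⟩ := h
  refine ⟨g.det, hg, bl g.det⁻¹ 0 0 1 * g, ?_, ?_⟩
  · rw [det_mul, det_diag, det_one, mul_one, inv_mul_cancel₀ hg]
  · rw [Matrix.mul_assoc, he, ← Matrix.mul_assoc, ← Matrix.mul_assoc, diag_mul_bl, bl_mul_diag]
    simp [smul_smul, hg, mul_comm]

/-- The general linear group is transitive on nonzero vectors. -/
theorem exists_col {v : Fin (m + 1) → F} (hv : v ≠ 0) :
    ∃ P : Matrix (Fin (m + 1)) (Fin (m + 1)) F, P.det ≠ 0 ∧ P *ᵥ Pi.single 0 1 = v := by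
  obtain ⟨i, hi⟩ : ∃ i, v i ≠ 0 := by
    by_contra! h
    exact hv (funext h)
  refine ⟨((1 : Matrix (Fin (m + 1)) (Fin (m + 1)) F).updateCol i v).submatrix id (Equiv.swap 0 i), ?_, ?_⟩
  · rw [det_permute', ← Matrix.cramer_apply, Matrix.cramer_one]
    exact mul_ne_zero (by rcases Int.units_eq_one_or (Equiv.Perm.sign (Equiv.swap 0 i)) with h | h <;> simp [h])
      (by simpa using hi)
  · ext j
    rw [Matrix.mulVec_single_one]
    simp

/-- The special linear group is transitive on nonzero vectors in dimension at least two. -/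
theorem exists_col_sl {v : Fin (m + 2) → F} (hv : v ≠ 0) :
    ∃ P : Matrix (Fin (m + 2)) (Fin (m + 2)) F, P.det = 1 ∧ P *ᵥ Pi.single 0 1 = v := by
  obtain ⟨P, hP, he⟩ := exists_col hv
  refine ⟨P * bl 1 0 0 (bl P.det⁻¹ 0 0 1), ?_, ?_⟩
  · rw [det_mul, det_diag, det_diag, det_one]
    field_simp
  · rw [← mulVec_mulVec, show (Pi.single 0 1 : Fin (m + 2) → F) = Fin.cons 1 0 by
      ext j; induction j using Fin.cases <;> simp [Fin.succ_ne_zero], bl_mulVec]
    simp only [mul_one, dotProduct_zero, add_zero, smul_zero, mulVec_zero]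
    rw [← he]
    congr 1
    ext j; induction j using Fin.cases <;> simp [Fin.succ_ne_zero]

/-- A block form adapted to a vector and a functional. -/
theorem exists_form (G : Matrix (Fin (m + 1)) (Fin (m + 1)) F) {v r : Fin (m + 1) → F} (hr : r ⬝ᵥ v = 1) :
    ∃ (P : Matrix (Fin (m + 1)) (Fin (m + 1)) F) (a b : Fin m → F) (D : Matrix (Fin m) (Fin m) F),
      P.det ≠ 0 ∧ G * P = P * bl (r ⬝ᵥ (G *ᵥ v)) a b D ∧ P *ᵥ Pi.single 0 1 = v ∧
      r ᵥ* P = Pi.single 0 1 := by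
  have hv : v ≠ 0 := fun h => by simp [h] at hr
  obtain ⟨P, hP, he⟩ := exists_col hv
  have h0 : (r ᵥ* P) 0 = 1 := by
    rw [← hr, ← he, dotProduct_mulVec, dotProduct_single, mul_one]
  have e0 : (Pi.single 0 1 : Fin (m + 1) → F) = Fin.cons 1 0 := by
    ext j; induction j using Fin.cases <;> simp [Fin.succ_ne_zero]
  set Q := P * bl 1 0 (fun j => -(r ᵥ* P) j.succ) 1 with hQd
  have hQ : Q.det ≠ 0 := by rw [hQd, det_mul, det_bl_upper]; simpa using hP
  have hQv : Q *ᵥ Pi.single 0 1 = v := by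
    rw [hQd, ← mulVec_mulVec, ← he]
    congr 1
    rw [e0, bl_mulVec]
    simp
  have hrQ : r ᵥ* Q = Pi.single 0 1 := by
    rw [hQd, ← vecMul_vecMul]
    obtain ⟨u, hu⟩ : ∃ u, u = r ᵥ* P := ⟨_, rfl⟩
    rw [← hu] at h0 ⊢
    ext j
    induction j using Fin.cases with
    | zero => simp [Matrix.vecMul, dotProduct, Fin.sum_univ_succ, h0]
    | succ j => simp [Matrix.vecMul, dotProduct, Fin.sum_univ_succ, h0, Fin.succ_ne_zero, Matrix.one_apply]
  set M := Q⁻¹ * G * Q with hM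
  have hGQ : G * Q = Q * M := by
    rw [hM, Matrix.mul_assoc Q⁻¹, mul_nonsing_inv_cancel_left _ _ (Ne.isUnit hQ)]
  refine ⟨Q, fun i => M i.succ 0, fun j => M 0 j.succ, M.submatrix Fin.succ Fin.succ, hQ, ?_, hQv, hrQ⟩
  have h00 : r ⬝ᵥ (G *ᵥ v) = M 0 0 := by
    rw [← hQv, mulVec_mulVec, hGQ, ← mulVec_mulVec, dotProduct_mulVec, hrQ, single_dotProduct, one_mul,
      Matrix.mulVec_single_one]
    rfl
  rw [h00, ← bl_eta, hGQ]

end Cfsg.Agent.CovNum
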