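import Cfsg.Agent.Lib.CovNum.Lin
import Cfsg.Agent.Lib.SLComm.Large
import Cfsg.Agent.Lib.SLComm.RegPair
import Mathlib.LinearAlgebra.Matrix.Charpoly.Basic
import Mathlib.LinearAlgebra.Matrix.Block

/-!
# Covering number of `PSL(n, q)`: cyclic classes

* `Cls f M` : `M` is cyclic with polynomial `f`;
* `cls_of_eig`, `upper_cls`, `bidiag_cls` : criteria for cyclicity with split polynomial.
-/

set_option autoImplicit false
set_option linter.unusedSectionVars false
set_option linter.style.haveILetI false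

namespace Cfsg.Agent.CovNum

open Matrix Polynomial Cfsg.Agent.SLComm

variable {F : Type*} [Field F] {n m : ℕ}

theorem gc_of_sim {x y : Matrix (Fin n) (Fin n) F} (h : Sim (Matrix.toLin' x) (Matrix.toLin' y)) : GC x y := by
  obtain ⟨e, he⟩ := h
  have h1 : LinearMap.toMatrix' (e : (Fin n → F) →ₗ[F] Fin n → F) *
      LinearMap.toMatrix' (e.symm : (Fin n → F) →ₗ[F] Fin n → F) = 1 := by
    rw [← LinearMap.toMatrix'_comp, e.comp_symm, LinearMap.toMatrix'_id]
  refine ⟨LinearMap.toMatrix' (e : (Fin n → F) →ₗ[F] Fin n → F), fun h0 => ?_, ?_⟩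
  · have := congrArg Matrix.det h1
    rw [det_mul, h0, zero_mul, det_one] at this
    exact zero_ne_one this
  · refine Matrix.toLin'.injective ?_
    rw [Matrix.toLin'_mul, Matrix.toLin'_mul, Matrix.toLin'_toMatrix']
    exact LinearMap.ext he

theorem sim_of_gc {x y : Matrix (Fin n) (Fin n) F} (h : GC x y) : Sim (Matrix.toLin' x) (Matrix.toLin' y) := by
  obtain ⟨g, hg, he⟩ := h
  have hu := Ne.isUnit hg
  refine ⟨Matrix.toLin'OfInv (nonsing_inv_mul g hu) (mul_nonsing_inv g hu), fun v => ?_⟩
  have : Matrix.toLin' g (Matrix.toLin' x v) = Matrix.toLin' y (Matrix.toLin' g v) := by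
    rw [← Matrix.toLin'_mul_apply, ← Matrix.toLin'_mul_apply, he]
  exact this

/-- Cyclic with polynomial `f`. -/
def Cls (f : F[X]) (M : Matrix (Fin n) (Fin n) F) : Prop := Sim (Matrix.toLin' M) (Cyc f)

theorem Cls.gc {f : F[X]} {M N : Matrix (Fin n) (Fin n) F} (h : Cls f M) (h' : Cls f N) : GC M N :=
  gc_of_sim (h.trans h'.symm)

theorem Cls.of_gc {f : F[X]} {M N : Matrix (Fin n) (Fin n) F} (h : Cls f M) (h' : GC M N) : Cls f N :=
  (sim_of_gc h').symm.trans h

theorem Cls.det {f : F[X]} {M : Matrix (Fin n) (Fin n) F} (h : Cls f M) (hf : f.Monic) : M.det = cdet f := by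
  rw [← LinearMap.det_toLin', Sim.det_eq h, det_Cyc hf, cdet]

theorem Cls.natDegree {f : F[X]} {M : Matrix (Fin n) (Fin n) F} (h : Cls f M) (hf : f.Monic) :
    f.natDegree = n := by
  have := natDegree_eq_of_sim hf h
  rw [Module.finrank_fin_fun] at this
  exact this.symm

theorem Cls.inv {f : F[X]} {M : Matrix (Fin n) (Fin n) F} (h : Cls f M) (hf : f.Monic) (h0 : f.coeff 0 ≠ 0) :
    Cls (invPoly f) M⁻¹ := by
  have hd : M.det ≠ 0 := by
    rw [h.det hf, cdet]; exact mul_ne_zero (pow_ne_zero _ (neg_ne_zero.2 one_ne_zero)) h0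
  let a : (Module.End F (Fin n → F))ˣ := ⟨Matrix.toLin' M, Matrix.toLin' M⁻¹,
    by rw [Module.End.mul_eq_comp, ← Matrix.toLin'_mul, mul_nonsing_inv _ (Ne.isUnit hd), Matrix.toLin'_one]; rfl,
    by rw [Module.End.mul_eq_comp, ← Matrix.toLin'_mul, nonsing_inv_mul _ (Ne.isUnit hd), Matrix.toLin'_one]; rfl⟩
  exact sim_inv a hf h0 h

theorem cls_cm {f : F[X]} (hf : f.Monic) (hd : f.natDegree = m + 1) : Cls f (cm (m := m) f) := sim_cm hf hd

theorem Cls.transpose {f : F[X]} {M : Matrix (Fin (m + 1)) (Fin (m + 1)) F} (h : Cls f M) (hf : f.Monic) :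
    Cls f Mᵀ :=
  (Sim.transpose (h.trans (sim_cm hf (h.natDegree hf)).symm)).symm.trans
    (sim_cm_transpose hf (h.natDegree hf))

/-- The polynomial with the given roots. -/
noncomputable def rp (l : Multiset F) : F[X] := (l.map fun a => X - C a).prod

@[simp] theorem rp_zero : rp (0 : Multiset F) = 1 := by simp [rp]

@[simp] theorem rp_cons (a : F) (l : Multiset F) : rp (a ::ₘ l) = (X - C a) * rp l := by simp [rp]

theorem rp_add (l l' : Multiset F) : rp (l + l') = rp l * rp l' := by simp [rp]

theorem rp_monic (l : Multiset F) : (rp l).Monic := monic_multiset_prod_of_monic _ _ fun a _ => monic_X_sub_C a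

theorem rp_natDegree (l : Multiset F) : (rp l).natDegree = Multiset.card l := by
  induction l using Multiset.induction_on with
  | empty => simp
  | cons a l ih => rw [rp_cons, (monic_X_sub_C a).natDegree_mul (rp_monic l), natDegree_X_sub_C, ih,
      Multiset.card_cons, add_comm]

theorem cdet_rp (l : Multiset F) : cdet (rp l) = l.prod := by
  induction l using Multiset.induction_on with
  | empty => simp [cdet]
  | cons a l ih => rw [rp_cons, cdet_mul (monic_X_sub_C a) (rp_monic l), cdet_linear, ih, Multiset.prod_cons]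

theorem coeff_ne_of_cdet {f : F[X]} (h : cdet f ≠ 0) : f.coeff 0 ≠ 0 := fun e => h (by simp [cdet, e])

theorem rp_coeff_zero {l : Multiset F} (h : (0 : F) ∉ l) : (rp l).coeff 0 ≠ 0 :=
  coeff_ne_of_cdet (by rw [cdet_rp]; exact Multiset.prod_ne_zero h)

/-- The multiset of diagonal entries. -/
def diagMs (M : Matrix (Fin n) (Fin n) F) : Multiset F := Finset.univ.val.map fun i => M i i

/-- Upper triangular. -/
def Upr (M : Matrix (Fin n) (Fin n) F) : Prop := ∀ i j, j < i → M i j = 0

/-- Equal values are adjacent. -/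
def Contig (d : Fin n → F) : Prop := ∀ i j k : Fin n, i < j → j < k → d i = d k → d j = d i

theorem Upr.charpoly {M : Matrix (Fin n) (Fin n) F} (h : Upr M) : M.charpoly = rp (diagMs M) := by
  rw [Matrix.charpoly_of_isUpperTriangular M (fun i j hij => h i j hij), rp, diagMs, Multiset.map_map]
  rfl

theorem Cls.charpoly {f : F[X]} {M : Matrix (Fin n) (Fin n) F} (h : Cls f M) (hf : f.Monic) : M.charpoly = f := by
  haveI := hf.finite_adjoinRoot
  rw [← Matrix.charpoly_toLin', Sim.charpoly_eq h, charpoly_Cyc hf]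

/-! ### The criterion -/

theorem finite_adjoin_rp (s : Multiset F) : Module.Finite F (AdjoinRoot (rp s)) := (rp_monic s).finite_adjoinRoot

theorem dcyc_apply (L : List F[X]) (v : ∀ i : Fin L.length, AdjoinRoot (L.get i)) (i : Fin L.length) :
    dcyc L v i = Cyc (L.get i) (v i) := rfl

theorem aeval_dcyc_apply (L : List F[X]) (G : F[X]) :
    ∀ (v : ∀ i : Fin L.length, AdjoinRoot (L.get i)) (i : Fin L.length),
      aeval (dcyc L) G v i = aeval (Cyc (L.get i)) G (v i) := by
  induction G using Polynomial.induction_on with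
  | C a => intro v i; simp [Module.algebraMap_end_apply]
  | add p q hp hq => intro v i; simp [hp, hq]
  | monomial k a h =>
    intro v i
    rw [pow_succ, ← mul_assoc, map_mul (aeval (dcyc L)), map_mul (aeval (Cyc (L.get i))), Module.End.mul_apply,
      Module.End.mul_apply, aeval_X, aeval_X, h, dcyc_apply]

theorem dcyc_pairwise : ∀ {L : List F[X]}, (∀ h ∈ L, h.Monic) → L.Pairwise IsCoprime →
    Sim (dcyc L) (Cyc L.prod)
  | [], _, _ => by
    haveI : Subsingleton (AdjoinRoot ([] : List F[X]).prod) := by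
      refine ⟨fun a b => ?_⟩
      induction a using AdjoinRoot.induction_on with
      | _ p =>
        induction b using AdjoinRoot.induction_on with
        | _ q => exact AdjoinRoot.mk_eq_mk.2 (by rw [List.prod_nil]; exact one_dvd _)
    exact ⟨{ toFun := fun _ => 0, invFun := fun _ => fun i => absurd i.isLt (by simp),
             map_add' := fun _ _ => (add_zero _).symm, map_smul' := fun _ _ => (smul_zero _).symm,
             left_inv := fun _ => funext fun i => absurd i.isLt (by simp),
             right_inv := fun _ => Subsingleton.elim _ _ }, fun _ => Subsingleton.elim _ _⟩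
  | h :: L, hm, hp => by
    obtain ⟨h1, h2⟩ := List.pairwise_cons.1 hp
    have hh := hm h List.mem_cons_self
    have hL : ∀ g ∈ L, g.Monic := fun g hg => hm g (List.mem_cons_of_mem _ hg)
    have hpm : L.prod.Monic := List.prod_induction (fun q : F[X] => q.Monic) (fun _ _ => Monic.mul) monic_one hL
    have hc : IsCoprime h L.prod := List.prod_induction (IsCoprime h) (fun _ _ => IsCoprime.mul_right)
      isCoprime_one_right h1
    rw [List.prod_cons]
    exact (dcyc_cons h L).trans (((Sim.refl _).prodMap (dcyc_pairwise hL h2)).trans (cyc_mul_sim hh hpm hc).symm)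

/-- A split polynomial and one-dimensional eigenspaces give a cyclic matrix. -/
theorem cls_of_eig {M : Matrix (Fin n) (Fin n) F} {s : Multiset F} (hc : M.charpoly = rp s)
    (he : ∀ (a : F) (v w : Fin n → F), v ≠ 0 → M *ᵥ v = a • v → M *ᵥ w = a • w → ∃ c : F, w = c • v) :
    Cls (rp s) M := by
  classical
  obtain ⟨L, hL, e, hsim⟩ := exists_dcyc (Matrix.toLin' M)
  have hmon : ∀ h ∈ L, h.Monic := fun h hh => by
    obtain ⟨P, k, -, hP, -, rfl⟩ := hL h hh
    exact hP.pow k
  have hzero : aeval (dcyc L) (rp s) = 0 := LinearMap.ext fun v => by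
    have h1 := Sim.aeval_apply e hsim (rp s) (e.symm v)
    rw [← hc, ← Matrix.charpoly_toLin', LinearMap.aeval_self_charpoly, e.apply_symm_apply] at h1
    simp only [LinearMap.zero_apply, map_zero] at h1
    rw [← hc, ← Matrix.charpoly_toLin', ← h1]
    rfl
  have hlin : ∀ i : Fin L.length, ∃ (a : F) (k : ℕ), L.get i = (X - C a) ^ (k + 1) := by
    intro i
    obtain ⟨P, k, hP, hPm, hk, hPk⟩ := hL _ (L.get_mem i)
    have h1 : aeval (Cyc (L.get i)) (rp s) 1 = 0 := by
      have := congrFun (LinearMap.congr_fun hzero (Pi.single i 1)) i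
      rw [aeval_dcyc_apply, Pi.single_eq_same] at this
      exact this
    rw [aeval_Cyc_one, AdjoinRoot.mk_eq_zero] at h1
    have h2 : P ∣ rp s := dvd_trans (by rw [hPk]; exact dvd_pow_self P hk.ne') h1
    obtain ⟨a, -, hPq⟩ := Prime.exists_mem_multiset_map_dvd hP.prime h2
    refine ⟨a, k - 1, ?_⟩
    rw [hPk, eq_of_monic_of_associated hPm (monic_X_sub_C a) (hP.associated_of_dvd (irreducible_X_sub_C a) hPq),
      Nat.sub_add_cancel hk]
  choose a k hak using hlin
  have hvec : ∀ i, ∃ v : Fin n → F, M *ᵥ v = a i • v ∧ e v i ≠ 0 ∧ ∀ j, j ≠ i → e v j = 0 := by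
    intro i
    refine ⟨e.symm (Pi.single i (AdjoinRoot.mk (L.get i) ((X - C (a i)) ^ k i))), ?_, ?_, ?_⟩
    · refine e.injective ?_
      rw [← Matrix.toLin'_apply, hsim, map_smul, e.apply_symm_apply]
      funext j
      rw [dcyc_apply, Pi.smul_apply]
      by_cases hj : j = i
      · subst hj
        rw [Pi.single_eq_same, Cyc, LinearMap.mulLeft_apply, ← AdjoinRoot.mk_X, ← map_mul, Algebra.smul_def,
          AdjoinRoot.algebraMap_eq, ← AdjoinRoot.mk_C, ← map_mul, AdjoinRoot.mk_eq_mk, hak, ← sub_mul, ← pow_succ']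
      · rw [Pi.single_eq_of_ne hj, map_zero, smul_zero]
    · rw [e.apply_symm_apply, Pi.single_eq_same, Ne, AdjoinRoot.mk_eq_zero]
      intro hd
      have := natDegree_le_of_dvd hd ((monic_X_sub_C (a i)).pow _).ne_zero
      rw [hak, (monic_X_sub_C (a i)).natDegree_pow, (monic_X_sub_C (a i)).natDegree_pow, natDegree_X_sub_C] at this
      omega
    · intro j hj
      rw [e.apply_symm_apply, Pi.single_eq_of_ne hj]
  have hinj : Function.Injective a := by
    intro i j hij
    by_contra hne
    obtain ⟨v, hv, hvi, hvo⟩ := hvec i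
    obtain ⟨w, hw, hwj, hwo⟩ := hvec j
    obtain ⟨c, rfl⟩ := he (a i) v w (fun h0 => hvi (by rw [h0, map_zero]; rfl)) hv (hij ▸ hw)
    exact hwj (by rw [map_smul, Pi.smul_apply, hvo j (Ne.symm hne), smul_zero])
  have hpw : L.Pairwise IsCoprime := List.pairwise_iff_get.2 fun i j hij => by
    rw [hak i, hak j]
    exact (isCoprime_X_sub_C_of_isUnit_sub
      (sub_ne_zero.2 (hinj.ne (ne_of_lt hij))).isUnit).pow
  have hs : Sim (Matrix.toLin' M) (Cyc L.prod) := Sim.trans ⟨e, hsim⟩ (dcyc_pairwise hmon hpw)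
  have hpm : L.prod.Monic := List.prod_induction (fun q : F[X] => q.Monic) (fun _ _ => Monic.mul) monic_one hmon
  have := Cls.charpoly (f := L.prod) hs hpm
  rw [hc] at this
  rw [this]
  exact hs

/-- Eigenspaces of a cyclic matrix are lines. -/
theorem Cls.eig {f : F[X]} {M : Matrix (Fin n) (Fin n) F} (h : Cls f M) (hf : f.Monic) {a : F} {v w : Fin n → F}
    (hv : v ≠ 0) (h1 : M *ᵥ v = a • v) (h2 : M *ᵥ w = a • w) : ∃ c : F, w = c • v := by
  rcases n with _ | p
  · exact ⟨0, Subsingleton.elim _ _⟩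
  obtain ⟨g, hg, he⟩ := h.gc (cls_cm hf (h.natDegree hf))
  have tr : ∀ u, M *ᵥ u = a • u → cm (m := p) f *ᵥ (g *ᵥ u) = a • (g *ᵥ u) := fun u hu => by
    rw [mulVec_mulVec, ← he, ← mulVec_mulVec, hu, mulVec_smul]
  have key : ∀ u : Fin (p + 1) → F, cm (m := p) f *ᵥ u = a • u → u (Fin.last p) = 0 → u = 0 := by
    intro u hu hlast
    funext i
    induction i using Fin.reverseInduction with
    | last => exact hlast
    | cast i ih =>
      have := congrFun hu i.succ
      rw [Matrix.mulVec, dotProduct, Fin.sum_univ_castSucc, Pi.smul_apply, Pi.zero_apply] at *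
      rw [ih, smul_zero, hlast, mul_zero, add_zero, Finset.sum_eq_single i] at this
      · simpa [cm_castSucc] using this
      · intro j _ hj
        simp [cm_castSucc, hj.symm]
      · simp
  have hgv : g *ᵥ v ≠ 0 := fun e0 => hv (mulVec_inj hg (by rw [e0, mulVec_zero]))
  have hlv : (g *ᵥ v) (Fin.last p) ≠ 0 := fun e0 => hgv (key _ (tr v h1) e0)
  set c := (g *ᵥ w) (Fin.last p) / (g *ᵥ v) (Fin.last p) with hc
  refine ⟨c, sub_eq_zero.1 (mulVec_inj hg (Eq.trans ?_ (mulVec_zero g).symm))⟩
  refine key _ (tr _ (by rw [mulVec_sub, mulVec_smul, h1, h2, smul_sub, smul_comm])) ?_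
  rw [mulVec_sub, mulVec_smul, Pi.sub_apply, Pi.smul_apply, smul_eq_mul, hc, div_mul_cancel₀ _ hlv, sub_self]

theorem Cls.of_transpose {f : F[X]} {M : Matrix (Fin (m + 1)) (Fin (m + 1)) F} (h : Cls f Mᵀ) (hf : f.Monic) :
    Cls f M := by
  simpa using h.transpose hf

theorem dep_of_coord {M : Matrix (Fin n) (Fin n) F} {a : F} (p : Fin n)
    (key : ∀ u, M *ᵥ u = a • u → u p = 0 → u = 0) {v w : Fin n → F} (hv : v ≠ 0) (h1 : M *ᵥ v = a • v)
    (h2 : M *ᵥ w = a • w) : ∃ c : F, w = c • v := by
  refine ⟨w p / v p, sub_eq_zero.1 (key _ (by rw [mulVec_sub, mulVec_smul, h1, h2, smul_sub, smul_comm]) ?_)⟩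
  rw [Pi.sub_apply, Pi.smul_apply, smul_eq_mul, div_mul_cancel₀ _ (fun e0 => hv (key v h1 e0)), sub_self]

theorem row_one {M : Matrix (Fin n) (Fin n) F} {v : Fin n → F} (i : Fin n)
    (h : ∀ k, k ≠ i → M i k * v k = 0) : (M *ᵥ v) i = M i i * v i := by
  rw [Matrix.mulVec, dotProduct, Finset.sum_eq_single i (fun k _ hk => h k hk) (by simp)]

theorem row_two {M : Matrix (Fin n) (Fin n) F} {v : Fin n → F} {i j : Fin n} (hij : i ≠ j)
    (h : ∀ k, k ≠ i → k ≠ j → M i k * v k = 0) : (M *ᵥ v) i = M i i * v i + M i j * v j := by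
  rw [Matrix.mulVec, dotProduct, Finset.sum_eq_add i j hij (fun k _ hk => h k hk.1 hk.2) (by simp) (by simp)]

/-- Upper triangular, contiguous diagonal, nonzero superdiagonal inside the runs. -/
theorem upper_cls {M : Matrix (Fin n) (Fin n) F} (hU : Upr M) (hC : Contig fun i => M i i)
    (hs : ∀ i j : Fin n, j.val = i.val + 1 → M i i = M j j → M i j ≠ 0) : Cls (rp (diagMs M)) M := by
  classical
  refine cls_of_eig hU.charpoly fun a v w hv h1 h2 => ?_
  have top : ∀ u : Fin n → F, M *ᵥ u = a • u → u ≠ 0 → ∃ p, u p ≠ 0 ∧ M p p = a ∧ ∀ i, p < i → u i = 0 := by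
    intro u hu hu0
    obtain ⟨p, hp, hmax⟩ := Finset.exists_max_image (Finset.univ.filter fun i => u i ≠ 0) id
      (by obtain ⟨i, hi⟩ := Function.ne_iff.1 hu0; exact ⟨i, by simpa using hi⟩)
    simp only [Finset.mem_filter, Finset.mem_univ, true_and, id] at hp hmax
    have hz : ∀ i, p < i → u i = 0 := fun i hi => by_contra fun hne => absurd (hmax i hne) (not_le.2 hi)
    refine ⟨p, hp, ?_, hz⟩
    have := congrFun hu p
    rw [row_one p (fun k hk => ?_), Pi.smul_apply, smul_eq_mul] at this
    · exact mul_right_cancel₀ hp this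
    · rcases lt_or_gt_of_ne hk with h | h
      · rw [hU p k h, zero_mul]
      · rw [hz k h, mul_zero]
  obtain ⟨q, -, hqa, -⟩ := top v h1 hv
  obtain ⟨p0, hp0, hmin⟩ := Finset.exists_min_image (Finset.univ.filter fun i => M i i = a) id ⟨q, by simpa using hqa⟩
  simp only [Finset.mem_filter, Finset.mem_univ, true_and, id] at hp0 hmin
  refine dep_of_coord p0 (fun u hu hu0 => ?_) hv h1 h2
  by_contra hne
  obtain ⟨p, hp, hpa, hz⟩ := top u hu hne
  have hlt : p0 < p := lt_of_le_of_ne (hmin p hpa) fun e0 => hp (by rw [← e0, hu0])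
  have hlt' : p0.val < p.val := hlt
  have hpr : p.val - 1 < n := by omega
  set r : Fin n := ⟨p.val - 1, hpr⟩ with hr
  have hrp : r < p := by show p.val - 1 < p.val; omega
  have hra : M r r = a := by
    rcases eq_or_lt_of_le (show p0 ≤ r by show p0.val ≤ p.val - 1; omega) with e0 | h
    · rw [← e0, hp0]
    · exact (hC p0 r p h hrp (hp0.trans hpa.symm)).trans hp0
  have := congrFun hu r
  rw [row_two (ne_of_lt hrp) (fun k hkr hkp => ?_), Pi.smul_apply, smul_eq_mul, hra, add_eq_left, mul_eq_zero] at this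
  · rcases this with h | h
    · exact hs r p (by show p.val = p.val - 1 + 1; omega) (hra.trans hpa.symm) h
    · exact hp h
  · rcases lt_or_gt_of_ne hkr with h | h
    · rw [hU r k h, zero_mul]
    · have h' : p.val - 1 < k.val := h
      have hk : k.val ≠ p.val := fun e0 => hkp (Fin.ext e0)
      rw [hz k (by show p.val < k.val; omega), mul_zero]

/-- Bidiagonal in all but the last column, with simple last diagonal entry. -/
theorem bidiag_cls {M : Matrix (Fin (m + 1)) (Fin (m + 1)) F} (hU : Upr M)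
    (h2 : ∀ i j : Fin (m + 1), j ≠ Fin.last m → i.val + 1 < j.val → M i j = 0)
    (hs : ∀ i j : Fin (m + 1), j ≠ Fin.last m → j.val = i.val + 1 → M i j ≠ 0)
    (hl : ∀ i : Fin (m + 1), i ≠ Fin.last m → M i i ≠ M (Fin.last m) (Fin.last m)) :
    Cls (rp (diagMs M)) M := by
  refine cls_of_eig hU.charpoly fun a v w hv e1 e2 => ?_
  have hlast : ∀ u : Fin (m + 1) → F, (M *ᵥ u) (Fin.last m) = M (Fin.last m) (Fin.last m) * u (Fin.last m) :=
    fun u => row_one _ fun k hk => by rw [hU _ k (lt_of_le_of_ne (Fin.le_last k) hk), zero_mul]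
  have hrow : ∀ (u : Fin (m + 1) → F) (i : Fin m), u (Fin.last m) = 0 →
      (M *ᵥ u) i.castSucc = M i.castSucc i.castSucc * u i.castSucc + M i.castSucc i.succ * u i.succ := by
    intro u i hu
    refine row_two (ne_of_lt Fin.castSucc_lt_succ) fun k hk1 hk2 => ?_
    by_cases hkl : k = Fin.last m
    · rw [hkl, hu, mul_zero]
    rcases lt_or_gt_of_ne hk1 with h | h
    · rw [hU _ k h, zero_mul]
    · rw [h2 _ k hkl ?_, zero_mul]
      have h' : i.val < k.val := h
      have : k.val ≠ i.val + 1 := fun e0 => hk2 (Fin.ext (by simpa using e0))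
      show i.val + 1 < k.val
      omega
  by_cases ha : a = M (Fin.last m) (Fin.last m)
  · refine dep_of_coord (Fin.last m) (fun u hu hu0 => funext fun i => ?_) hv e1 e2
    induction i using Fin.reverseInduction with
    | last => exact hu0
    | cast i ih =>
      have := congrFun hu i.castSucc
      rw [hrow u i hu0, Pi.zero_apply] at *
      rw [ih, mul_zero, add_zero, Pi.smul_apply, smul_eq_mul, ← sub_eq_zero, ← sub_mul, mul_eq_zero, ha,
        sub_eq_zero] at this
      exact this.resolve_left (hl _ (ne_of_lt (Fin.castSucc_lt_last i)))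
  · refine dep_of_coord 0 (fun u hu hu0 => funext fun i => ?_) hv e1 e2
    have hul : u (Fin.last m) = 0 := by
      have := congrFun hu (Fin.last m)
      rw [hlast, Pi.smul_apply, smul_eq_mul, ← sub_eq_zero, ← sub_mul, mul_eq_zero, sub_eq_zero] at this
      exact this.resolve_left (Ne.symm ha)
    induction i using Fin.induction with
    | zero => exact hu0
    | succ i ih =>
      by_cases hil : i.succ = Fin.last m
      · rw [hil, hul]; rfl
      have := congrFun hu i.castSucc
      rw [hrow u i hul, Pi.smul_apply, ih, Pi.zero_apply, mul_zero, zero_add, smul_zero, mul_eq_zero] at this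
      exact this.resolve_left (hs _ _ hil (by simp))

theorem tri_diag_mul {A B : Matrix (Fin n) (Fin n) F} (hA : ∀ i j, j < i → A i j = 0)
    (hB : ∀ i j, j < i → B i j = 0) (i : Fin n) : (A * B) i i = A i i * B i i := by
  rw [Matrix.mul_apply, Finset.sum_eq_single i]
  · intro k _ hk
    rcases lt_or_gt_of_ne hk with h | h
    · rw [hA i k h, zero_mul]
    · rw [hB k i h, mul_zero]
  · simp

theorem tri_super_mul {A B : Matrix (Fin n) (Fin n) F} (hA : ∀ i j, j < i → A i j = 0)
    (hB : ∀ i j, j < i → B i j = 0) {i j : Fin n} (hij : j.val = i.val + 1) :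
    (A * B) i j = A i i * B i j + A i j * B j j := by
  have hne : i ≠ j := fun e => by rw [e] at hij; omega
  rw [Matrix.mul_apply, Finset.sum_eq_add i j hne]
  · intro k _ hk
    rcases lt_or_gt_of_ne hk.1 with h | h
    · rw [hA i k h, zero_mul]
    · refine mul_eq_zero_of_right _ (hB k j ?_)
      have h1 : i.val < k.val := h
      have h2 : k.val ≠ j.val := fun e => hk.2 (Fin.ext e)
      show j.val < k.val
      omega
  · simp
  · simp

theorem upper_inv {M : Matrix (Fin n) (Fin n) F} (h : Upr M) (hd : M.det ≠ 0) :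
    Upr M⁻¹ ∧ (∀ i, M⁻¹ i i = (M i i)⁻¹) ∧
      ∀ i j : Fin n, j.val = i.val + 1 → M i j ≠ 0 → M⁻¹ i j ≠ 0 := by
  haveI : Invertible M := M.invertibleOfIsUnitDet (Ne.isUnit hd)
  have hi : ∀ i j, j < i → M⁻¹ i j = 0 := fun i j hij =>
    Matrix.blockTriangular_inv_of_blockTriangular (b := id) (fun i j hij => h i j hij) hij
  have h1 := Matrix.mul_inv_of_invertible M
  have hdiag : ∀ i, M i i * M⁻¹ i i = 1 := fun i => by
    rw [← tri_diag_mul h hi, h1, Matrix.one_apply_eq]
  refine ⟨hi, fun i => (inv_eq_of_mul_eq_one_right (hdiag i)).symm, fun i j hij hM h0 => ?_⟩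
  have e := tri_super_mul h hi hij
  rw [h1, h0, mul_zero, zero_add, Matrix.one_apply_ne (fun e => by rw [e] at hij; omega), eq_comm, mul_eq_zero] at e
  rcases e with e | e
  · exact hM e
  · exact zero_ne_one (α := F) (by rw [← hdiag j, e, mul_zero])

theorem invPoly_rp {l : Multiset F} (h : (0 : F) ∉ l) : invPoly (rp l) = rp (l.map fun a => a⁻¹) := by
  induction l using Multiset.induction_on with
  | empty => simpa using invPoly_pow (F := F) 1 0
  | cons a l ih =>
    simp only [Multiset.mem_cons, not_or] at h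
    rw [rp_cons, invPoly_mul, invPoly_linear (Ne.symm h.1), ih h.2, Multiset.map_cons, rp_cons]

/-- An ordering with adjacent equal values. -/
theorem exists_contig [Fintype F] {k : ℕ} {s : Multiset F} (hs : Multiset.card s = k) :
    ∃ d : Fin k → F, Contig d ∧ Finset.univ.val.map d = s := by
  classical
  obtain ⟨σ⟩ : Nonempty (F ≃ Fin (Fintype.card F)) := ⟨Fintype.equivFin F⟩
  set l := (s.map σ).sort (· ≤ ·) with hl
  have hlen : l.length = k := by rw [hl, Multiset.length_sort, Multiset.card_map, hs]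
  refine ⟨fun i => σ.symm (l.get (Fin.cast hlen.symm i)), fun i j k' hij hjk hik => ?_, ?_⟩
  · have hsort : l.SortedLE := List.Pairwise.sortedLE (Multiset.pairwise_sort (s.map σ) (· ≤ ·))
    have h1 := hsort.monotone_get (show Fin.cast hlen.symm i ≤ Fin.cast hlen.symm j from le_of_lt hij)
    have h2 := hsort.monotone_get (show Fin.cast hlen.symm j ≤ Fin.cast hlen.symm k' from le_of_lt hjk)
    have h3 := σ.symm.injective hik
    exact congrArg σ.symm (le_antisymm (h3 ▸ h2) h1)
  · subst hlen
    rw [show Finset.univ.val = ((List.finRange l.length : List (Fin l.length)) : Multiset _) from rfl,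
      Multiset.map_coe, show (List.finRange l.length).map (fun i => σ.symm (l.get (Fin.cast rfl i))) = l.map σ.symm by
        conv_rhs => rw [← List.map_get_finRange l, List.map_map]
        rfl,
      ← Multiset.map_coe, hl, Multiset.sort_eq, Multiset.map_map]
    simp

end Cfsg.Agent.CovNum
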