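import Cfsg.Agent.Lib.CovNum.Base
import Cfsg.Agent.Lib.SLComm.SLClasses
import Cfsg.Agent.Lib.SLComm.Tri
import Mathlib.LinearAlgebra.FiniteDimensional.Basic

/-!
# Covering number of `PSL(n, q)`: several cyclic blocks

* `ach_append`, `AchL`, `achL_cons` : block sums;
* `CS x δ` : `δ` is the determinant of some matrix commuting with `x`;
* `ach_gc`, `ach_sc` : the classes reached by products of two conjugates.
-/

set_option autoImplicit false
set_option linter.unusedSectionVars false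

namespace Cfsg.Agent.CovNum

open Matrix Polynomial Cfsg.Agent.SLComm

variable {F : Type*} [Field F] {n m a b : ℕ}

/-- No eigenvector. -/
def NoEig (x : Matrix (Fin n) (Fin n) F) : Prop := ∀ (c : F) (v : Fin n → F), x *ᵥ v = c • v → v = 0

theorem NoEig.gc {x y : Matrix (Fin n) (Fin n) F} (h : NoEig x) (hxy : GC x y) : NoEig y := by
  obtain ⟨g, hg, he⟩ := hxy.symm
  intro c v hv
  refine mulVec_inj hg (Eq.trans (h c _ ?_) (mulVec_zero g).symm)
  rw [mulVec_mulVec, ← he, ← mulVec_mulVec, hv, mulVec_smul]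

theorem Cls.noEig {f : F[X]} {M : Matrix (Fin n) (Fin n) F} (h : Cls f M) (hf : f.Monic)
    (hr : ∀ c : F, f.eval c ≠ 0) : NoEig M := by
  intro c v hv
  by_contra hv0
  refine hr c ?_
  rw [← h.charpoly hf, Matrix.eval_charpoly]
  exact Matrix.exists_mulVec_eq_zero_iff.1 ⟨v, hv0, by
    rw [sub_mulVec, hv, Matrix.scalar_apply, ← smul_one_eq_diagonal, smul_mulVec, one_mulVec, sub_self]⟩

/-- Block matrix on `Fin (a + b)`. -/
def fS (A : Matrix (Fin a) (Fin a) F) (B : Matrix (Fin a) (Fin b) F) (C : Matrix (Fin b) (Fin a) F)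
    (D : Matrix (Fin b) (Fin b) F) : Matrix (Fin (a + b)) (Fin (a + b)) F :=
  (Matrix.fromBlocks A B C D).submatrix finSumFinEquiv.symm finSumFinEquiv.symm

theorem fS_mul (A A' : Matrix (Fin a) (Fin a) F) (B B' : Matrix (Fin a) (Fin b) F) (C C' : Matrix (Fin b) (Fin a) F)
    (D D' : Matrix (Fin b) (Fin b) F) : fS A B C D * fS A' B' C' D' =
      fS (A * A' + B * C') (A * B' + B * D') (C * A' + D * C') (C * B' + D * D') := by
  rw [fS, fS, fS, Matrix.submatrix_mul_equiv, Matrix.fromBlocks_multiply]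

theorem det_fS (A : Matrix (Fin a) (Fin a) F) (B : Matrix (Fin a) (Fin b) F) (D : Matrix (Fin b) (Fin b) F) :
    (fS A B 0 D).det = A.det * D.det := by
  rw [fS, Matrix.det_submatrix_equiv_self, Matrix.det_fromBlocks_zero₂₁]

theorem charpoly_fS (A : Matrix (Fin a) (Fin a) F) (B : Matrix (Fin a) (Fin b) F) (D : Matrix (Fin b) (Fin b) F) :
    (fS A B 0 D).charpoly = A.charpoly * D.charpoly := by
  rw [fS, ← Matrix.reindex_apply, Matrix.charpoly_reindex, Matrix.charpoly_fromBlocks_zero₂₁]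

theorem fS_mulVec (A : Matrix (Fin a) (Fin a) F) (B : Matrix (Fin a) (Fin b) F) (C : Matrix (Fin b) (Fin a) F)
    (D : Matrix (Fin b) (Fin b) F) (v : Fin a → F) (w : Fin b → F) :
    fS A B C D *ᵥ Fin.append v w = Fin.append (A *ᵥ v + B *ᵥ w) (C *ᵥ v + D *ᵥ w) := by
  funext i
  induction i using Fin.addCases <;>
    simp [fS, Matrix.mulVec, dotProduct, Fin.sum_univ_add]

theorem smul_append (c : F) (v : Fin a → F) (w : Fin b → F) :
    c • Fin.append v w = Fin.append (c • v) (c • w) := by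
  funext i
  induction i using Fin.addCases <;> simp

theorem append_inj' {v v' : Fin a → F} {w w' : Fin b → F} (h : Fin.append v w = Fin.append v' w') :
    v = v' ∧ w = w' :=
  ⟨funext fun i => by simpa using congrFun h (Fin.castAdd b i),
    funext fun i => by simpa using congrFun h (Fin.natAdd a i)⟩

theorem sim_fS (A : Matrix (Fin a) (Fin a) F) (D : Matrix (Fin b) (Fin b) F) :
    Sim (Matrix.toLin' (fS A 0 0 D)) ((Matrix.toLin' A).prodMap (Matrix.toLin' D)) :=
  sim_split _ _ _ (fun i j => by simp [fS]) (fun i j => by simp [fS]) fun i j => by simp [fS]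

/-- Few proper subspaces do not cover. -/
theorem exists_avoid_subspaces [Fintype F] {V : Type*} [AddCommGroup V] [Module F V] :
    ∀ (L : List (Submodule F V)), (∀ S ∈ L, S ≠ ⊤) → L.length < Fintype.card F → ∃ v : V, ∀ S ∈ L, v ∉ S
  | [], _, _ => ⟨0, by simp⟩
  | S :: L, hne, hlen => by
    classical
    obtain ⟨v, hv⟩ := exists_avoid_subspaces L (fun T hT => hne T (List.mem_cons_of_mem _ hT))
      (lt_of_lt_of_le (by simp) hlen.le)
    obtain ⟨u, hu⟩ : ∃ u, u ∉ S := by
      by_contra! h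
      exact hne S List.mem_cons_self (eq_top_iff.2 fun z _ => h z)
    by_cases hvS : v ∈ S
    swap
    · exact ⟨v, List.forall_mem_cons.2 ⟨hvS, hv⟩⟩
    by_contra! hall
    have hcov : ∀ t : F, t ≠ 0 → ∃ T ∈ L, v + t • u ∈ T := fun t ht => by
      obtain ⟨T, hT, hmem⟩ := hall (v + t • u)
      rcases List.mem_cons.1 hT with rfl | hT
      · exact absurd ((Submodule.smul_mem_iff _ ht).1 (by simpa using Submodule.sub_mem _ hmem hvS)) hu
      · exact ⟨T, hT, hmem⟩
    choose f hf using hcov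
    have hinj : Set.InjOn (fun t : F => if h : t = 0 then S else f t h) (↑(Finset.univ.erase (0 : F))) := by
      intro t ht t' ht' e
      have ht0 : t ≠ 0 := Finset.ne_of_mem_erase ht
      have ht0' : t' ≠ 0 := Finset.ne_of_mem_erase ht'
      simp only [dif_neg ht0, dif_neg ht0'] at e
      by_contra hne'
      have h1 := (hf t ht0).2
      have h2 := (hf t' ht0').2
      rw [← e] at h2
      have huT : u ∈ f t ht0 := (Submodule.smul_mem_iff _ (sub_ne_zero.2 hne')).1 (by
        have := Submodule.sub_mem _ h1 h2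
        rwa [add_sub_add_left_eq_sub, ← sub_smul] at this)
      exact hv _ (hf t ht0).1 (by simpa using Submodule.sub_mem _ h1 (Submodule.smul_mem _ t huT))
    have hsub : (Finset.univ.erase (0 : F)).image (fun t : F => if h : t = 0 then S else f t h) ⊆ L.toFinset := by
      intro T hT
      obtain ⟨t, ht, rfl⟩ := Finset.mem_image.1 hT
      rw [dif_neg (Finset.ne_of_mem_erase ht)]
      exact List.mem_toFinset.2 (hf _ _).1
    have h1 := (Finset.card_le_card hsub).trans (List.toFinset_card_le L)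
    rw [Finset.card_image_of_injOn hinj, Finset.card_erase_of_mem (Finset.mem_univ _), Finset.card_univ] at h1
    rw [List.length_cons] at hlen
    omega

/-- Sum of two blocks. -/
theorem ach_append [Fintype F] {A : Matrix (Fin a) (Fin a) F} {X : Matrix (Fin b) (Fin b) F}
    {s s' : Multiset F} {δ δ' : F} (hA : NoEig A) (hs : (0 : F) ∉ s) (h : Ach A s δ) (h' : Ach X s' δ') :
    Ach (fS A 0 0 X) (s + s') (δ * δ') := by
  classical
  obtain ⟨hδ, GA, A', hGA, heA, hcA⟩ := h
  obtain ⟨hδ', GX, X', hGX, heX, hcX⟩ := h'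
  have hA' : NoEig A' := hA.gc ⟨GA, by rw [hGA]; exact hδ, heA⟩
  set R := (s.toFinset ∩ s'.toFinset).toList with hR
  have hRmem : ∀ r, r ∈ R ↔ r ∈ s ∧ r ∈ s' := fun r => by simp [hR]
  -- vectors
  have hl : ∀ r ∈ s, ∃ l : Fin a → F, l ≠ 0 ∧ l ᵥ* (A' * A) = r • l := by
    intro r hr
    have h0 : (A' * A).charpoly.eval r = 0 := by
      rw [hcA.charpoly (rp_monic _), rp, eval_multiset_prod]
      exact Multiset.prod_eq_zero (by simp only [Multiset.map_map, Multiset.mem_map]; exact ⟨r, hr, by simp⟩)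
    rw [Matrix.eval_charpoly] at h0
    obtain ⟨l, hl, hle⟩ := Matrix.exists_vecMul_eq_zero_iff.2 h0
    exact ⟨l, hl, by rwa [vecMul_sub, Matrix.scalar_apply, ← smul_one_eq_diagonal, vecMul_smul, vecMul_one, sub_eq_zero,
      eq_comm] at hle⟩
  have hz : ∀ r ∈ s', ∃ z : Fin b → F, z ≠ 0 ∧ (X' * X) *ᵥ z = r • z := by
    intro r hr
    have h0 : (X' * X).charpoly.eval r = 0 := by
      rw [hcX.charpoly (rp_monic _), rp, eval_multiset_prod]
      exact Multiset.prod_eq_zero (by simp only [Multiset.map_map, Multiset.mem_map]; exact ⟨r, hr, by simp⟩)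
    rw [Matrix.eval_charpoly] at h0
    obtain ⟨z, hz, hze⟩ := Matrix.exists_mulVec_eq_zero_iff.2 h0
    exact ⟨z, hz, by rwa [sub_mulVec, Matrix.scalar_apply, ← smul_one_eq_diagonal, smul_mulVec, one_mulVec,
      sub_eq_zero, eq_comm] at hze⟩
  choose l hl0 hle using hl
  choose z hz0 hze using hz
  let Φ : ∀ r, r ∈ s → r ∈ s' → Matrix (Fin a) (Fin b) F →ₗ[F] F := fun r h1 h2 =>
    { toFun := fun Z => l r h1 ⬝ᵥ (((Z * X' - A' * Z) * X) *ᵥ z r h2)
      map_add' := fun Z Z' => by
        simp only [Matrix.add_mul, Matrix.mul_add, add_sub_add_comm, add_mulVec, dotProduct_add]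
      map_smul' := fun c Z => by
        simp only [Matrix.smul_mul, Matrix.mul_smul, ← smul_sub, smul_mulVec, dotProduct_smul, RingHom.id_apply] }
  have hΦ : ∀ r h1 h2, Φ r h1 h2 ≠ 0 := by
    intro r h1 h2 h0
    have hr0 : r ≠ 0 := fun e => hs (e ▸ h1)
    set w := X *ᵥ z r h2 with hw
    have hw0 : w ≠ 0 := fun e => hz0 r h2 (by
      have := hze r h2
      rw [← mulVec_mulVec, ← hw, e, mulVec_zero, eq_comm, smul_eq_zero] at this
      exact this.resolve_left hr0)
    obtain ⟨q, hq, -⟩ := exists_sep (S := (⊥ : Submodule F (Fin b → F))) (v := w) (by simpa using hw0)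
    set c := r * (q ⬝ᵥ z r h2) with hc
    have key : ∀ p : Fin a → F, (l r h1 ᵥ* A') ⬝ᵥ p = (c • l r h1) ⬝ᵥ p := by
      intro p
      have hpq : ∀ u : Fin b → F, vecMulVec p q *ᵥ u = (q ⬝ᵥ u) • p := fun u => by
        ext i; simp [Matrix.vecMulVec_mulVec, mul_comm]
      have := LinearMap.congr_fun h0 (vecMulVec p q)
      simp only [Φ, LinearMap.coe_mk, AddHom.coe_mk, LinearMap.zero_apply] at this
      rw [Matrix.sub_mul, sub_mulVec, dotProduct_sub, ← mulVec_mulVec, ← hw, ← mulVec_mulVec, ← mulVec_mulVec,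
        mulVec_mulVec (v := z r h2), hze r h2, mulVec_smul, ← mulVec_mulVec, hpq, hpq, hq, one_smul,
        sub_eq_zero, dotProduct_mulVec] at this
      rw [← this, smul_dotProduct, dotProduct_smul, dotProduct_smul, hc, smul_eq_mul, smul_eq_mul, smul_eq_mul]
      ring
    have e : A'ᵀ *ᵥ l r h1 = c • l r h1 := by
      rw [mulVec_transpose]
      funext i
      simpa using key (Pi.single i 1)
    obtain ⟨v, hv, hve⟩ := exists_eigvec_transpose ⟨l r h1, hl0 r h1, e⟩
    rw [transpose_transpose] at hve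
    exact hv (hA' c v hve)
  set K := R.attach.map fun r => LinearMap.ker (Φ r.1 ((hRmem r.1).1 r.2).1 ((hRmem r.1).1 r.2).2) with hK
  obtain ⟨Z, hZ⟩ := exists_avoid_subspaces K (fun S hS => by
      obtain ⟨r, -, rfl⟩ := List.mem_map.1 hS
      exact fun e => hΦ _ _ _ (LinearMap.ker_eq_top.1 e)) (by
    rw [hK, List.length_map, List.length_attach, hR, Finset.length_toList]
    refine lt_of_le_of_lt (Finset.card_le_card (t := Finset.univ.erase (0 : F)) fun r hr => ?_)
      (by rw [Finset.card_erase_of_mem (Finset.mem_univ _), Finset.card_univ]; have := Fintype.card_pos (α := F); omega)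
    simp only [Finset.mem_inter, Multiset.mem_toFinset] at hr
    exact Finset.mem_erase.2 ⟨fun e => hs (e ▸ hr.1), Finset.mem_univ _⟩)
  refine ⟨mul_ne_zero hδ hδ', fS GA (Z * GX) 0 GX, fS A' (Z * X' - A' * Z) 0 X', ?_, ?_, ?_⟩
  · rw [det_fS, hGA, hGX]
  · simp only [fS_mul, Matrix.mul_zero, Matrix.zero_mul, add_zero, zero_add, heA, heX]
    congr 1
    rw [Matrix.mul_assoc Z, heX, Matrix.sub_mul, ← Matrix.mul_assoc A', ← Matrix.mul_assoc Z, add_sub_cancel]
  simp only [fS_mul, Matrix.mul_zero, Matrix.zero_mul, add_zero, zero_add]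
  set Ω := (Z * X' - A' * Z) * X with hΩ
  refine cls_of_eig (by rw [charpoly_fS, hcA.charpoly (rp_monic _), hcX.charpoly (rp_monic _), rp_add]) ?_
  intro r v w hv h1 h2
  obtain ⟨v1, v2, rfl⟩ : ∃ v1 v2, v = Fin.append v1 v2 := ⟨_, _, (Fin.append_castAdd_natAdd).symm⟩
  obtain ⟨w1, w2, rfl⟩ : ∃ w1 w2, w = Fin.append w1 w2 := ⟨_, _, (Fin.append_castAdd_natAdd).symm⟩
  rw [fS_mulVec, zero_mulVec, zero_add, smul_append] at h1 h2
  obtain ⟨ev1, ev2⟩ := append_inj' h1
  obtain ⟨ew1, ew2⟩ := append_inj' h2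
  by_cases hrs : r ∈ s
  · -- second components vanish
    have hzero : ∀ u1 u2, (A' * A) *ᵥ u1 + Ω *ᵥ u2 = r • u1 → (X' * X) *ᵥ u2 = r • u2 → u2 = 0 := by
      intro u1 u2 e1 e2
      by_contra hu2
      have hrs' : r ∈ s' := by
        have h0 : (X' * X).charpoly.eval r = 0 := by
          rw [Matrix.eval_charpoly]
          exact Matrix.exists_mulVec_eq_zero_iff.1 ⟨u2, hu2, by
            rw [sub_mulVec, e2, Matrix.scalar_apply, ← smul_one_eq_diagonal, smul_mulVec, one_mulVec, sub_self]⟩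
        rw [hcX.charpoly (rp_monic _), rp, eval_multiset_prod, Multiset.prod_eq_zero_iff, Multiset.map_map,
          Multiset.mem_map] at h0
        obtain ⟨r', hr', e⟩ := h0
        simp [sub_eq_zero] at e
        rwa [e]
      obtain ⟨c, hc⟩ := hcX.eig (rp_monic _) (hz0 r hrs') (hze r hrs') e2
      have hcne : c ≠ 0 := fun e => hu2 (by rw [hc, e, zero_smul])
      have hgood := hZ (LinearMap.ker (Φ r hrs hrs')) (by
        refine List.mem_map.2 ⟨⟨r, (hRmem r).2 ⟨hrs, hrs'⟩⟩, List.mem_attach _ _, rfl⟩)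
      refine hgood (LinearMap.mem_ker.2 ?_)
      have h3 := congrArg (l r hrs ⬝ᵥ ·) e1
      simp only [dotProduct_add, dotProduct_mulVec] at h3
      rw [hle r hrs, smul_dotProduct, dotProduct_smul, add_eq_left, ← dotProduct_mulVec, hc, mulVec_smul,
        dotProduct_smul, smul_eq_mul, mul_eq_zero] at h3
      exact h3.resolve_left hcne
    have hv2 := hzero v1 v2 ev1 ev2
    have hw2 := hzero w1 w2 ew1 ew2
    subst hv2 hw2
    rw [mulVec_zero, add_zero] at ev1 ew1
    obtain ⟨c, rfl⟩ := hcA.eig (rp_monic _) (fun e => hv (by rw [e]; funext i; induction i using Fin.addCases <;> simp))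
      ev1 ew1
    exact ⟨c, by rw [smul_append, smul_zero]⟩
  · have hinj : ∀ u1 : Fin a → F, (A' * A) *ᵥ u1 = r • u1 → u1 = 0 := by
      intro u1 e1
      by_contra hu1
      refine hrs ?_
      have h0 : (A' * A).charpoly.eval r = 0 := by
        rw [Matrix.eval_charpoly]
        exact Matrix.exists_mulVec_eq_zero_iff.1 ⟨u1, hu1, by
          rw [sub_mulVec, e1, Matrix.scalar_apply, ← smul_one_eq_diagonal, smul_mulVec, one_mulVec, sub_self]⟩
      rw [hcA.charpoly (rp_monic _), rp, eval_multiset_prod, Multiset.prod_eq_zero_iff, Multiset.map_map,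
        Multiset.mem_map] at h0
      obtain ⟨r', hr', e⟩ := h0
      simp [sub_eq_zero] at e
      rwa [e]
    have hv2 : v2 ≠ 0 := fun e => hv (by
      rw [hinj v1 (by simpa [e] using ev1), e]
      funext i; induction i using Fin.addCases <;> simp)
    obtain ⟨c, rfl⟩ := hcX.eig (rp_monic _) hv2 ev2 ew2
    refine ⟨c, ?_⟩
    rw [smul_append]
    congr 1
    refine sub_eq_zero.1 (hinj _ ?_)
    rw [mulVec_smul, ← eq_sub_iff_add_eq] at ew1
    rw [← eq_sub_iff_add_eq] at ev1
    rw [mulVec_sub, mulVec_smul, ew1, ev1]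
    module

/-- Achieved by every matrix of the given block type. -/
def AchL (L : List F[X]) (s : Multiset F) (δ : F) : Prop :=
  ∀ (n : ℕ) (x : Matrix (Fin n) (Fin n) F), Sim (Matrix.toLin' x) (dcyc L) → Ach x s δ

theorem achL_nil : AchL ([] : List F[X]) 0 (1 : F) := by
  intro n x ⟨e, _⟩
  obtain rfl : n = 0 := by
    have := e.finrank_eq
    rw [Module.finrank_fin_fun] at this
    rw [this]
    haveI : Subsingleton (∀ i : Fin ([] : List F[X]).length, AdjoinRoot (([] : List F[X]).get i)) :=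
      ⟨fun v w => funext fun i => absurd i.isLt (by simp)⟩
    exact Module.finrank_zero_of_subsingleton
  refine ⟨one_ne_zero, 1, x, det_one, by rw [Matrix.one_mul, Matrix.mul_one], cls_of_eig ?_ ?_⟩
  · rw [rp_zero, Matrix.charpoly, Matrix.det_isEmpty]
  · exact fun c v w hv _ _ => absurd (Subsingleton.elim v 0) hv

theorem exists_matrix_sim {V : Type*} [AddCommGroup V] [Module F V] [Module.Finite F V] (φ : Module.End F V) :
    ∃ X : Matrix (Fin (Module.finrank F V)) (Fin (Module.finrank F V)) F, Sim (Matrix.toLin' X) φ := by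
  refine ⟨LinearMap.toMatrix (Module.finBasis F V) (Module.finBasis F V) φ, Sim.symm
    ⟨(Module.finBasis F V).equivFun, fun v => ?_⟩⟩
  rw [Matrix.toLin'_apply, Module.Basis.equivFun_apply, Module.Basis.equivFun_apply,
    LinearMap.toMatrix_mulVec_repr]

theorem achL_cons [Fintype F] {h : F[X]} {L : List F[X]} {s s' : Multiset F} {δ δ' : F} (hm : h.Monic)
    (hdeg : h.natDegree = m + 1) (hr : ∀ c : F, h.eval c ≠ 0) (hs : (0 : F) ∉ s) (hA : Ach (cm (m := m) h) s δ)
    (hL : ∀ g ∈ L, g.Monic) (h' : AchL L s' δ') : AchL (h :: L) (s + s') (δ * δ') := by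
  intro n x hx
  haveI := finite_dcyc hL
  obtain ⟨X, hX⟩ := exists_matrix_sim (dcyc L)
  have hc := cls_cm (m := m) hm hdeg
  have h1 := ach_append (hc.noEig hm hr) hs hA (h' _ X hX)
  have hy : Sim (Matrix.toLin' (fS (cm (m := m) h) 0 0 X)) (dcyc (h :: L)) :=
    (sim_fS _ _).trans ((hc.prodMap hX).trans (dcyc_cons h L).symm)
  have hs' := hy.trans hx.symm
  obtain ⟨e, -⟩ := id hs'
  have hd := e.finrank_eq
  rw [Module.finrank_fin_fun, Module.finrank_fin_fun] at hd
  subst hd
  exact h1.gc (gc_of_sim hs')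

/-! ### Products of two conjugates -/

/-- Some matrix of determinant `δ` commutes with `x`. -/
def CS (x : Matrix (Fin n) (Fin n) F) (δ : F) : Prop :=
  ∃ Z : Matrix (Fin n) (Fin n) F, Z.det = δ ∧ Z * x = x * Z

theorem CS.inv {x : Matrix (Fin n) (Fin n) F} {δ : F} (h : CS x δ) (hδ : δ ≠ 0) : CS x δ⁻¹ := by
  obtain ⟨Z, hZ, he⟩ := h
  refine ⟨Z⁻¹, by rw [det_nonsing_inv, hZ, Ring.inverse_eq_inv'], ?_⟩
  exact conj_inv_eq (by rw [hZ]; exact Ne.isUnit hδ) he

theorem cs_of_detSub {x : Matrix (Fin n) (Fin n) F} {t : Fˣ} (h : t ∈ detSub (Matrix.toLin' x)) : CS x t := by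
  obtain ⟨z, hz, hd⟩ := mem_detSub.1 h
  refine ⟨LinearMap.toMatrix' (z : Module.End F (Fin n → F)), by rw [LinearMap.det_toMatrix', hd], ?_⟩
  refine Matrix.toLin'.injective ?_
  rw [Matrix.toLin'_mul, Matrix.toLin'_mul, Matrix.toLin'_toMatrix']
  exact hz.eq

theorem cs_of_centSurj {x : Matrix (Fin n) (Fin n) F} (h : CentSurj (Matrix.toLin' x)) (δ : F) (hδ : δ ≠ 0) :
    CS x δ := by
  obtain ⟨z, hz, hd⟩ := h δ hδ
  exact cs_of_detSub (t := Units.mk0 δ hδ) (mem_detSub.2 ⟨z, hz, by rw [hd, Units.val_mk0]⟩)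

theorem sc_of_cs {x y g : Matrix (Fin n) (Fin n) F} (hg : g.det ≠ 0) (he : g * x = y * g) (h : CS x g.det) :
    SC x y := by
  obtain ⟨Z, hZ, hZe⟩ := h.inv hg
  exact ⟨g * Z, by rw [det_mul, hZ, mul_inv_cancel₀ hg], by
    rw [Matrix.mul_assoc, hZe, ← Matrix.mul_assoc, he, Matrix.mul_assoc]⟩

theorem sc_of_centSurj {x y : Matrix (Fin n) (Fin n) F} (hc : CentSurj (Matrix.toLin' x)) (h : GC x y) :
    SC x y := by
  obtain ⟨g, hg, he⟩ := h
  exact sc_of_cs hg he (cs_of_centSurj hc _ hg)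

theorem Prd.sc {x G : Matrix (Fin n) (Fin n) F} {k : ℕ} (hc : CentSurj (Matrix.toLin' x)) (h : Prd GC x k G) :
    Prd SC x k G :=
  h.imp fun _ => sc_of_centSurj hc

theorem centSurj_count_one [DecidableEq F] {M : Matrix (Fin n) (Fin n) F} {s : Multiset F} {w : F}
    (hw : s.count w = 1) (h : Cls (rp s) M) : CentSurj (Matrix.toLin' M) := by
  have hmem : w ∈ s := Multiset.count_pos.1 (by omega)
  have hnot : w ∉ s.erase w := fun h' => by
    have := Multiset.count_pos.2 h'
    rw [Multiset.count_erase_self, hw] at this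
    omega
  have hs : rp s = (X - C w) * rp (s.erase w) := by rw [← rp_cons, Multiset.cons_erase hmem]
  haveI := finite_adjoin_rp (s.erase w)
  haveI := (monic_X_sub_C w).finite_adjoinRoot
  refine ((centSurj_line w).prod_left (Cyc (rp (s.erase w)))).sim ?_
  refine Sim.trans ?_ (cyc_mul_sim (monic_X_sub_C w) (rp_monic _) (coprime_linear ?_))
  · rw [← hs]; exact h
  · rw [rp, eval_multiset_prod]
    refine Multiset.prod_ne_zero fun h0 => hnot ?_
    simp only [Multiset.map_map, Multiset.mem_map] at h0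
    obtain ⟨r, hr, e⟩ := h0
    simp [sub_eq_zero] at e
    first | rwa [e] | rwa [← e] at hr

theorem ach_gc {x M : Matrix (Fin n) (Fin n) F} {s : Multiset F} {δ : F} (h : Ach x s δ) (hM : Cls (rp s) M) :
    Prd GC x 2 M := by
  obtain ⟨hδ, G1, y, hG, he, hc⟩ := h
  exact ((Prd.one (R := GC) (x := x) (y := y) ⟨G1, by rw [hG]; exact hδ, he⟩).mul
    (Prd.one (GC.refl x))).conj (hc.gc hM)

theorem ach_sc [DecidableEq F] {x M : Matrix (Fin n) (Fin n) F} {s : Multiset F} {δ w : F} (h : Ach x s δ)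
    (hcs : CS x δ) (hw : s.count w = 1) (hM : Cls (rp s) M) : Prd SC x 2 M := by
  obtain ⟨hδ, G1, y, hG, he, hc⟩ := h
  have hy : SC x y := sc_of_cs (by rw [hG]; exact hδ) he (by rw [hG]; exact hcs)
  exact ((Prd.one hy).mul (Prd.one (SC.refl x))).conjS (sc_of_centSurj (centSurj_count_one hw hc) (hc.gc hM))

end Cfsg.Agent.CovNum
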