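import Cfsg.Agent.Lib.CovNum.LU

/-!
# Covering number of `PSL(n, q)`: cyclic matrices as products of three in one class

* `tri_factor` : a cyclic matrix times a suitable matrix of any cyclic class is bidiagonal but for one column;
* `exists_cyclic_mul` : every invertible matrix becomes cyclic after multiplying by one of a given cyclic class;
* `triple` : every matrix of the right determinant is `M * M' * M''` in one class with a simple root.
-/

set_option autoImplicit false
set_option linter.unusedSectionVars false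

namespace Cfsg.Agent.CovNum

open Matrix Polynomial Cfsg.Agent.SLComm

variable {F : Type*} [Field F] {n m : ℕ}

theorem cm_mulVec_shift (f : F[X]) {x : Fin (m + 1) → F} (hx : x (Fin.last m) = 0) :
    (cm f *ᵥ x) 0 = 0 ∧ ∀ r : Fin m, (cm f *ᵥ x) r.succ = x r.castSucc := by
  constructor
  · simp [Matrix.mulVec, dotProduct, Fin.sum_univ_castSucc, cm_castSucc, cm_last, hx, (Fin.succ_ne_zero _).symm]
  · intro r
    simp only [Matrix.mulVec, dotProduct, Fin.sum_univ_castSucc, hx, mul_zero, add_zero]
    rw [Finset.sum_eq_single r (fun k _ hk => by simp [cm_castSucc, hk.symm]) (by simp)]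
    simp [cm_castSucc]

/-- The chain of vectors. -/
def kv (C : Matrix (Fin (m + 1)) (Fin (m + 1)) F) (u : ℕ → F) : ℕ → Fin (m + 1) → F
  | 0 => Pi.single 0 1
  | 1 => C *ᵥ (u 0 • Pi.single 0 1)
  | i + 2 => C *ᵥ (u (i + 1) • kv C u (i + 1) + kv C u i)

theorem kv_spec (f : F[X]) (u : ℕ → F) : ∀ i, i ≤ m →
    (∀ r : Fin (m + 1), i < r.val → kv (cm (m := m) f) u i r = 0) ∧
      ∀ r : Fin (m + 1), r.val = i → kv (cm (m := m) f) u i r = ∏ l ∈ Finset.range i, u l := by
  intro i
  induction i using Nat.strong_induction_on with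
  | _ i ih =>
    intro hi
    match i, hi with
    | 0, _ =>
      refine ⟨fun r hr => ?_, fun r hr => ?_⟩
      · have : r ≠ 0 := fun e => by simp [e] at hr
        simp [kv, this]
      · simp [kv, show r = 0 from Fin.ext hr]
    | j + 1, hj =>
      have hjm : j < m := by omega
      have key : ∀ x : Fin (m + 1) → F, (∀ r : Fin (m + 1), j < r.val → x r = 0) →
          (∀ r : Fin (m + 1), j + 1 < r.val → (cm f *ᵥ x) r = 0) ∧
            ∀ r : Fin (m + 1), r.val = j + 1 → ∀ r' : Fin (m + 1), r'.val = j → (cm f *ᵥ x) r = x r' := by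
        intro x hx
        obtain ⟨-, h2⟩ := cm_mulVec_shift f (hx (Fin.last m) (by simpa using hjm))
        refine ⟨fun r hr => ?_, fun r hr r' hr' => ?_⟩
        · obtain ⟨p, rfl⟩ := Fin.exists_succ_eq.2 (show r ≠ 0 from fun e => by simp [e] at hr)
          rw [h2]; exact hx _ (by simp at hr ⊢; omega)
        · obtain ⟨p, rfl⟩ := Fin.exists_succ_eq.2 (show r ≠ 0 from fun e => by simp [e] at hr)
          rw [h2, show r' = p.castSucc from Fin.ext (by simp at hr ⊢; omega)]
      obtain ⟨e1, e2⟩ := ih j (by omega) (by omega)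
      match j, hjm with
      | 0, _ =>
        obtain ⟨k1, k2⟩ := key (u 0 • Pi.single 0 1) fun r hr => by
          have : r ≠ 0 := fun e => by simp [e] at hr
          simp [this]
        refine ⟨fun r hr => k1 r hr, fun r hr => (k2 r hr 0 rfl).trans ?_⟩
        simp
      | l + 1, _ =>
        obtain ⟨l1, -⟩ := ih l (by omega) (by omega)
        obtain ⟨k1, k2⟩ := key (u (l + 1) • kv (cm f) u (l + 1) + kv (cm f) u l) fun r hr => by
          simp [e1 r hr, l1 r (by omega)]
        set j' : Fin (m + 1) := ⟨l + 1, by omega⟩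
        refine ⟨fun r hr => k1 r hr, fun r hr => (k2 r hr j' rfl).trans ?_⟩
        rw [Pi.add_apply, Pi.smul_apply, e2 j' rfl, l1 j' (by show l < l + 1; omega), add_zero, smul_eq_mul,
          Finset.prod_range_succ _ (l + 1)]
        ring

/-- A cyclic matrix times a matrix of the class of `g`. -/
theorem tri_factor {Q : Matrix (Fin (m + 1)) (Fin (m + 1)) F} {fQ g : F[X]} (hfQ : fQ.Monic) (hQ : Cls fQ Q)
    (hQd : Q.det ≠ 0) (hg : g.Monic) (hgd : g.natDegree = m + 1) {u : Fin m → F} (hu : ∀ i, u i ≠ 0) {w : F}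
    (hw : ∀ i, u i ≠ w) (hdet : Q.det * cdet g = (∏ i, u i) * w) :
    ∃ Y : Matrix (Fin (m + 1)) (Fin (m + 1)) F, Cls g Y ∧
      Cls (rp (w ::ₘ Finset.univ.val.map u)) (Q * Y) := by
  have hf0 : fQ.coeff 0 ≠ 0 := coeff_ne_of_cdet (by rw [← hQ.det hfQ]; exact hQd)
  set f' := invPoly fQ with hf'
  have hf'd : f'.natDegree = m + 1 := by rw [hf', invPoly_natDegree hf0, hQ.natDegree hfQ]
  set C := cm (m := m) f' with hC
  have hgc := (hQ.inv hfQ hf0).gc (cls_cm (m := m) (invPoly_monic hf0) hf'd)
  have hQi : Q⁻¹.det ≠ 0 := by rw [det_nonsing_inv, Ring.inverse_eq_inv']; exact inv_ne_zero hQd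
  have hCd : C.det ≠ 0 := by rw [hgc.det_eq]; exact hQi
  have hQC : GC C⁻¹ Q := by
    have := hgc.symm.inv hCd
    rwa [nonsing_inv_nonsing_inv _ (Ne.isUnit hQd)] at this
  set u' : ℕ → F := fun i => if h : i < m then u ⟨i, h⟩ else 1 with hu'
  set P : Matrix (Fin (m + 1)) (Fin (m + 1)) F := Matrix.of fun r j => kv C u' j.val r with hP
  have hPu : Upr P := fun r j h => ((kv_spec f' u' j.val (by have := j.isLt; omega)).1 r h)
  have hPd : P.det ≠ 0 := by
    rw [Matrix.det_of_isUpperTriangular (fun i j h => hPu i j h)]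
    refine Finset.prod_ne_zero_iff.2 fun i _ => ?_
    rw [hP, Matrix.of_apply, hC, (kv_spec f' u' i.val (by have := i.isLt; omega)).2 i rfl]
    refine Finset.prod_ne_zero_iff.2 fun l _ => ?_
    simp only [hu']
    split_ifs with h
    exacts [hu _, one_ne_zero]
  have hPe : ∀ j : Fin (m + 1), P *ᵥ Pi.single j 1 = kv C u' j.val := fun j => by
    rw [Matrix.mulVec_single_one]; rfl
  set T := P⁻¹ * (C⁻¹ * (P * cm g)) with hT
  have hPT : P * T = C⁻¹ * (P * cm g) := mul_nonsing_inv_cancel_left _ _ (Ne.isUnit hPd)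
  have hTcol : ∀ i : Fin m, T *ᵥ Pi.single i.castSucc 1 =
      u i • Pi.single i.castSucc 1 + (if h : 0 < i.val then Pi.single ⟨i.val - 1, by omega⟩ 1 else 0) := fun i => by
    refine mulVec_inj hPd ?_
    rw [mulVec_mulVec, hPT, ← mulVec_mulVec, ← mulVec_mulVec, cm_mulVec_single, hPe, mulVec_add, mulVec_smul, hPe]
    refine mulVec_inj hCd ?_
    rw [mulVec_mulVec, mul_nonsing_inv _ (Ne.isUnit hCd), one_mulVec, Fin.val_succ, Fin.val_castSucc]
    have hui : u' i.val = u i := by simp [hu']
    rcases Nat.eq_zero_or_pos i.val with h0 | h0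
    · rw [dif_neg (by omega), mulVec_zero, add_zero, ← hui, h0]
      rfl
    · rw [dif_pos h0, hPe]
      obtain ⟨p, hp⟩ : ∃ p, i.val = p + 1 := ⟨i.val - 1, by omega⟩
      rw [← hui]
      simp only [hp, Nat.add_sub_cancel]
      rfl
  have hTe : ∀ (r : Fin (m + 1)) (i : Fin m), T r i.castSucc =
      if r.val = i.val then u i else if r.val + 1 = i.val then 1 else 0 := fun r i => by
    have h := congrFun (hTcol i) r
    rw [Matrix.mulVec_single_one, Matrix.col_apply] at h
    rw [h]
    simp only [Pi.add_apply, Pi.smul_apply, Pi.single_apply, smul_eq_mul, Fin.ext_iff, Fin.val_castSucc]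
    rcases Nat.eq_zero_or_pos i.val with h0 | h0
    · rw [dif_neg (by omega)]
      simp only [Pi.zero_apply, add_zero, mul_ite, mul_one, mul_zero]
      split_ifs <;> first | rfl | omega
    · rw [dif_pos h0]
      simp only [Pi.single_apply, Fin.ext_iff, mul_ite, mul_one, mul_zero]
      split_ifs <;> first | rfl | omega | simp
  have hTu : Upr T := fun r j hrj => by
    obtain ⟨i, rfl⟩ := Fin.eq_castSucc_of_ne_last (ne_of_lt (lt_of_lt_of_le hrj (Fin.le_last r)))
    have h' : i.val < r.val := hrj
    rw [hTe, if_neg (by omega), if_neg (by omega)]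
  have hTd : ∀ i : Fin m, T i.castSucc i.castSucc = u i := fun i => by rw [hTe, if_pos (Fin.val_castSucc i)]
  have hTdet : T.det = Q.det * cdet g := by
    rw [hT, det_mul, det_mul, det_mul, det_nonsing_inv, Ring.inverse_eq_inv', (cls_cm hg hgd).det hg, hQC.det_eq]
    field_simp
  have hTl : T (Fin.last m) (Fin.last m) = w := by
    rw [Matrix.det_of_isUpperTriangular (fun i j h => hTu i j h), Fin.prod_univ_castSucc,
      Finset.prod_congr rfl (fun i _ => hTd i), hdet] at hTdet
    exact mul_left_cancel₀ (Finset.prod_ne_zero_iff.2 fun i _ => hu i) hTdet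
  have hTc : Cls (rp (w ::ₘ Finset.univ.val.map u)) T := by
    have := bidiag_cls hTu (fun r j hj hrj => ?_) (fun r j hj hrj => ?_) fun r hr => ?_
    · convert this using 2
      rw [diagMs, Fin.univ_castSuccEmb, Finset.cons_val, Finset.map_val, Multiset.map_cons, hTl, Multiset.map_map]
      congr 1
      exact Multiset.map_congr rfl fun i _ => (hTd i).symm
    · obtain ⟨i, rfl⟩ := Fin.eq_castSucc_of_ne_last hj
      rw [Fin.val_castSucc] at hrj
      rw [hTe, if_neg (by omega), if_neg (by omega)]
    · obtain ⟨i, rfl⟩ := Fin.eq_castSucc_of_ne_last hj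
      rw [Fin.val_castSucc] at hrj
      rw [hTe, if_neg (by omega), if_pos hrj.symm]
      exact one_ne_zero
    · obtain ⟨i, rfl⟩ := Fin.eq_castSucc_of_ne_last hr
      rw [hTd, hTl]
      exact hw i
  -- back to `Q`
  set Y0 := P * cm g * P⁻¹ with hY0
  have hY0c : Cls g Y0 := (cls_cm hg hgd).of_gc ⟨P, hPd, by rw [hY0, nonsing_inv_mul_cancel_right _ _ (Ne.isUnit hPd)]⟩
  have hM : Cls (rp (w ::ₘ Finset.univ.val.map u)) (C⁻¹ * Y0) := hTc.of_gc ⟨P, hPd, by
    rw [hPT, hY0]
    simp only [Matrix.mul_assoc]
    rw [nonsing_inv_mul _ (Ne.isUnit hPd), Matrix.mul_one]⟩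
  obtain ⟨a, ha, hae⟩ := hQC
  refine ⟨a * Y0 * a⁻¹, hY0c.of_gc ⟨a, ha, by rw [nonsing_inv_mul_cancel_right _ _ (Ne.isUnit ha)]⟩,
    hM.of_gc ⟨a, ha, ?_⟩⟩
  rw [← Matrix.mul_assoc a, hae]
  simp only [Matrix.mul_assoc, nonsing_inv_mul _ (Ne.isUnit ha), Matrix.mul_one]

/-- Products of two matrices of one class with a simple root. -/
theorem tri_pair [Fintype F] [DecidableEq F] {Q : Matrix (Fin (m + 1)) (Fin (m + 1)) F} {fQ : F[X]}
    (hfQ : fQ.Monic) (hQ : Cls fQ Q) {s : Multiset F} (hcard : Multiset.card s = m + 1) (hs : (0 : F) ∉ s) {w : F}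
    (hw : s.count w = 1) (hdet : Q.det = s.prod ^ 2) : ∃ M M', Cls (rp s) M ∧ Cls (rp s) M' ∧ Q = M * M' := by
  have hmem : w ∈ s := Multiset.count_pos.1 (by omega)
  have hs0 : s.prod ≠ 0 := Multiset.prod_ne_zero hs
  obtain ⟨u, -, hu⟩ := exists_contig (s := s.erase w) (k := m)
    (by rw [Multiset.card_erase_of_mem hmem, hcard]; rfl)
  have humem : ∀ i, u i ∈ s.erase w := fun i => hu ▸ Multiset.mem_map.2 ⟨i, Finset.mem_univ_val i, rfl⟩
  have hu0 : ∀ i, u i ≠ 0 := fun i e => hs (e ▸ Multiset.mem_of_mem_erase (humem i))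
  have huw : ∀ i, u i ≠ w := fun i e => by
    have := Multiset.count_pos.2 (e ▸ humem i)
    rw [Multiset.count_erase_self, hw] at this
    omega
  set si := s.map (fun a => a⁻¹) with hsi
  have hsi0 : (0 : F) ∉ si := fun h => by
    obtain ⟨r, hr, e⟩ := Multiset.mem_map.1 h
    exact hs (inv_eq_zero.1 e ▸ hr)
  obtain ⟨Y, hY, hT⟩ := tri_factor hfQ hQ (by rw [hdet]; exact pow_ne_zero _ hs0) (rp_monic si)
    (by rw [rp_natDegree, Multiset.card_map, hcard]) hu0 huw (by
      rw [cdet_rp, hdet, Multiset.prod_map_inv, Multiset.map_id', Finset.prod_eq_multiset_prod, hu, mul_comm _ w,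
        Multiset.prod_erase hmem]
      field_simp)
  rw [hu, Multiset.cons_erase hmem] at hT
  have hYi := hY.inv (rp_monic si) (rp_coeff_zero hsi0)
  rw [invPoly_rp hsi0, hsi, Multiset.map_map] at hYi
  simp only [Function.comp_def, inv_inv, Multiset.map_id'] at hYi
  refine ⟨Q * Y, Y⁻¹, hT, hYi, ?_⟩
  rw [mul_nonsing_inv_cancel_right]
  rw [hY.det (rp_monic si), cdet_rp]
  exact Ne.isUnit (Multiset.prod_ne_zero hsi0)

/-- Embedding of the first summand. -/
def inlV (a b : ℕ) : (Fin a → F) →ₗ[F] (Fin (a + b) → F) where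
  toFun v := Fin.append v 0
  map_add' v w := by funext i; induction i using Fin.addCases <;> simp
  map_smul' c v := by funext i; induction i using Fin.addCases <;> simp

/-- A Hessenberg matrix with prescribed pattern and roots. -/
theorem exists_flag_cls (fl : ℕ → Prop) : ∀ (n : ℕ) (s : Multiset F), Multiset.card s = n →
    ∃ L : Matrix (Fin n) (Fin n) F, (∀ i j : Fin n, j.val + 1 < i.val → L i j = 0) ∧
      (∀ i j : Fin n, i.val = j.val + 1 → (fl j.val → L i j ≠ 0) ∧ (¬ fl j.val → L i j = 0)) ∧ Cls (rp s) L := by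
  classical
  intro n
  induction n using Nat.strong_induction_on with
  | _ n ih =>
    intro s hs
    rcases n with _ | p
    · obtain rfl : s = 0 := Multiset.card_eq_zero.1 hs
      refine ⟨1, fun i => i.elim0, fun i => i.elim0, cls_of_eig ?_ ?_⟩
      · rw [rp_zero, Matrix.charpoly, Matrix.det_isEmpty]
      · exact fun c v w hv _ _ => absurd (Subsingleton.elim v 0) hv
    by_cases hall : ∀ j, j < p → fl j
    · refine ⟨cm (rp s), fun i j hij => ?_, fun i j hij => ⟨fun _ => ?_, fun hfl => ?_⟩,
        cls_cm (rp_monic s) (by rw [rp_natDegree, hs])⟩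
      · have hj : j ≠ Fin.last p := fun e => by have := i.isLt; rw [e, Fin.val_last] at hij; omega
        obtain ⟨j, rfl⟩ := Fin.eq_castSucc_of_ne_last hj
        rw [Fin.val_castSucc] at hij
        rw [cm_castSucc, if_neg]
        exact fun e => by rw [e, Fin.val_succ] at hij; omega
      · have hj : j ≠ Fin.last p := fun e => by have := i.isLt; rw [e, Fin.val_last] at hij; omega
        obtain ⟨j, rfl⟩ := Fin.eq_castSucc_of_ne_last hj
        rw [Fin.val_castSucc] at hij
        rw [cm_castSucc, if_pos (Fin.ext (by simpa using hij))]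
        exact one_ne_zero
      · exact absurd (hall j.val (by have := i.isLt; omega)) hfl
    push Not at hall
    obtain ⟨j1, hj1, hj1'⟩ := hall
    obtain ⟨j0, hj0, hmax⟩ := Finset.exists_max_image ((Finset.range p).filter fun j => ¬ fl j) id
      ⟨j1, by simp [hj1, hj1']⟩
    simp only [Finset.mem_filter, Finset.mem_range, id, and_imp] at hj0 hmax
    obtain ⟨hj0p, hj0f⟩ := hj0
    obtain ⟨q, hq⟩ : ∃ q, p + 1 = (j0 + 1) + (q + 1) := ⟨p - j0 - 1, by omega⟩
    obtain ⟨l, rfl⟩ : ∃ l : List F, (l : Multiset F) = s := ⟨s.toList, Multiset.coe_toList s⟩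
    rw [Multiset.coe_card] at hs
    set s1 : Multiset F := Multiset.ofList (l.take (j0 + 1)) with hs1
    set s2 : Multiset F := Multiset.ofList (l.drop (j0 + 1)) with hs2
    have hs12 : (l : Multiset F) = s1 + s2 := by rw [hs1, hs2, Multiset.coe_add, List.take_append_drop]
    have hc2 : Multiset.card s2 = q + 1 := by rw [hs2, Multiset.coe_card, List.length_drop, hs]; omega
    obtain ⟨L1, hH1, hF1, hL1⟩ := ih (j0 + 1) (by omega) s1
      (by rw [hs1, Multiset.coe_card, List.length_take, hs]; omega)
    obtain ⟨z, hz⟩ := cspan_of_sim hL1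
    rw [hs12]
    clear_value s1 s2
    clear hs hs1 hs2 hs12 ih
    obtain rfl : p = (j0 + 1) + q := by omega
    set E : Matrix (Fin (j0 + 1)) (Fin (q + 1)) F := Matrix.of fun i j => if j = Fin.last q then z i else 0 with hE
    set C2 := cm (m := q) (rp s2) with hC2
    have hC2c : Cls (rp s2) C2 := cls_cm (rp_monic s2) (by rw [rp_natDegree, hc2])
    refine ⟨fS (a := j0 + 1) (b := q + 1) L1 E 0 C2, fun i j hij => ?_, fun i j hij => ?_, ?_⟩
    · induction i using Fin.addCases (m := j0 + 1) (n := q + 1) with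
      | left i =>
        induction j using Fin.addCases (m := j0 + 1) (n := q + 1) with
        | left j => simpa [fS] using hH1 i j (by simpa using hij)
        | right j => have := i.isLt; simp at hij; omega
      | right i =>
        induction j using Fin.addCases (m := j0 + 1) (n := q + 1) with
        | left j => simp [fS]
        | right j =>
          simp at hij
          simp [fS, hC2]
          obtain ⟨j, rfl⟩ := Fin.eq_castSucc_of_ne_last (show j ≠ Fin.last q from fun e => by
            have := i.isLt; rw [e, Fin.val_last] at hij; omega)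
          rw [cm_castSucc, if_neg]
          exact fun e => by rw [e, Fin.val_succ, Fin.val_castSucc] at hij; omega
    · induction i using Fin.addCases (m := j0 + 1) (n := q + 1) with
      | left i =>
        induction j using Fin.addCases (m := j0 + 1) (n := q + 1) with
        | left j => simpa [fS] using hF1 i j (by simpa using hij)
        | right j => have := i.isLt; simp at hij; omega
      | right i =>
        induction j using Fin.addCases (m := j0 + 1) (n := q + 1) with
        | left j =>
          simp at hij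
          have := j.isLt
          refine ⟨fun hfl => absurd hfl ?_, fun _ => by simp [fS]⟩
          rwa [Fin.val_castAdd, show j.val = j0 by omega]
        | right j =>
          simp at hij
          obtain ⟨j, rfl⟩ := Fin.eq_castSucc_of_ne_last (show j ≠ Fin.last q from fun e => by
            have := i.isLt; rw [e, Fin.val_last] at hij; omega)
          refine ⟨fun _ => ?_, fun hfl => absurd ?_ hfl⟩
          · simp [fS, hC2]
            rw [cm_castSucc, if_pos (Fin.ext (by simp at hij ⊢; omega))]
            exact one_ne_zero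
          · by_contra h
            have := i.isLt
            have hh := hmax _ (by simp at *) h
            simp at hh ⊢
            omega
    · set φ := Matrix.toLin' (fS L1 E 0 C2) with hφ
      set v0 : Fin (j0 + 1 + (q + 1)) → F := Fin.append 0 (Pi.single 0 1) with hv0
      set S := cspan φ v0 with hS
      have hright : ∀ j : Fin (q + 1), Fin.append (0 : Fin (j0 + 1) → F) (Pi.single j 1) ∈ S := by
        intro j
        induction j using Fin.induction with
        | zero => exact self_mem_cspan _ _
        | succ j ihj =>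
          have := map_mem_cspan _ ihj
          rw [hφ, Matrix.toLin'_apply, fS_mulVec] at this
          simp only [mulVec_zero, zero_add, hC2, cm_mulVec_single] at this
          convert this using 2
          funext i
          rw [Matrix.mulVec_single_one]
          simp [hE, ne_of_lt (Fin.castSucc_lt_last j)]
      have hall : ∀ y : Fin (q + 1) → F, Fin.append (0 : Fin (j0 + 1) → F) y ∈ S := fun y => by
        have e : Fin.append (0 : Fin (j0 + 1) → F) y = ∑ j, y j • Fin.append (0 : Fin (j0 + 1) → F) (Pi.single j 1) := by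
          funext i
          induction i using Fin.addCases <;> simp [Finset.sum_apply, Pi.single_apply]
        rw [e]; exact S.sum_mem fun j _ => S.smul_mem _ (hright j)
      have hzS : inlV (j0 + 1) (q + 1) z ∈ S := by
        have h1 := map_mem_cspan _ (hright (Fin.last q))
        rw [hφ, Matrix.toLin'_apply, fS_mulVec] at h1
        have h2 := S.sub_mem h1 (hall (C2 *ᵥ Pi.single (Fin.last q) 1))
        convert h2 using 1
        funext i
        induction i using Fin.addCases <;> simp [inlV, hE, Matrix.mulVec_single_one]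
      have hleft : (⊤ : Submodule F (Fin (j0 + 1) → F)) ≤ S.comap (inlV (j0 + 1) (q + 1)) := by
        rw [← hz]
        refine cspan_le (fun u hu => ?_) hzS
        have := map_mem_cspan _ (Submodule.mem_comap.1 hu)
        rw [hφ, Matrix.toLin'_apply] at this
        show inlV (j0 + 1) (q + 1) (Matrix.toLin' L1 u) ∈ S
        convert this using 1
        show Fin.append (Matrix.toLin' L1 u) 0 = fS L1 E 0 C2 *ᵥ Fin.append u 0
        rw [fS_mulVec, Matrix.toLin'_apply, mulVec_zero, add_zero, mulVec_zero, zero_mulVec, add_zero]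
      have htop : S = ⊤ := eq_top_iff.2 fun y _ => by
        have e : y = inlV (j0 + 1) (q + 1) (fun i => y (Fin.castAdd _ i)) +
            Fin.append 0 (fun i => y (Fin.natAdd _ i)) := by
          funext i
          induction i using Fin.addCases <;> simp [inlV]
        rw [e]
        exact S.add_mem (hleft Submodule.mem_top) (hall _)
      have h := sim_cyc_charpoly htop
      rw [hφ, Matrix.charpoly_toLin', charpoly_fS, hL1.charpoly (rp_monic _), hC2c.charpoly (rp_monic _),
        ← rp_add] at h
      exact h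

/-- A block companion form, with the ends of the blocks flagged. -/
theorem exists_flag_form : ∀ (L : List F[X]), (∀ h ∈ L, h.Monic ∧ 0 < h.natDegree) → ∀ (n : ℕ)
    (M : Matrix (Fin n) (Fin n) F), Sim (Matrix.toLin' M) (dcyc L) →
    ∃ (N : Matrix (Fin n) (Fin n) F) (fl : ℕ → Prop), GC M N ∧ ∀ i j : Fin n, j.val = i.val + 1 →
      (fl i.val → ∀ r, i < r → N r i = 0) ∧ (¬ fl i.val → N *ᵥ Pi.single i 1 = Pi.single j 1)
  | [], _, n, M, hM => by
    obtain ⟨e, -⟩ := hM
    haveI : Subsingleton (∀ i : Fin ([] : List F[X]).length, AdjoinRoot (([] : List F[X]).get i)) :=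
      ⟨fun v w => funext fun i => absurd i.isLt (by simp)⟩
    obtain rfl : n = 0 := by
      have := e.finrank_eq
      rw [Module.finrank_fin_fun] at this
      rw [this]
      exact Module.finrank_zero_of_subsingleton
    exact ⟨M, fun _ => False, GC.refl M, fun i => i.elim0⟩
  | h :: L, hL, n, M, hM => by
    obtain ⟨hm, hpos⟩ := hL h List.mem_cons_self
    obtain ⟨a, ha⟩ : ∃ a, h.natDegree = a + 1 := ⟨h.natDegree - 1, by omega⟩
    have hL' : ∀ g ∈ L, g.Monic ∧ 0 < g.natDegree := fun g hg => hL g (List.mem_cons_of_mem _ hg)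
    haveI := finite_dcyc fun g hg => (hL' g hg).1
    obtain ⟨X, hX⟩ := exists_matrix_sim (dcyc L)
    obtain ⟨X', fl', hXX, hfl⟩ := exists_flag_form L hL' _ X hX
    have hc := cls_cm (m := a) hm ha
    have hy : Sim (Matrix.toLin' (fS (cm (m := a) h) 0 0 X')) (dcyc (h :: L)) :=
      (sim_fS _ _).trans ((Sim.prodMap hc ((sim_of_gc hXX.symm).trans hX)).trans (dcyc_cons h L).symm)
    have hs' := hy.trans hM.symm
    obtain ⟨e, -⟩ := id hs'
    have hd := e.finrank_eq
    rw [Module.finrank_fin_fun, Module.finrank_fin_fun] at hd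
    subst hd
    refine ⟨_, fun i => i = a ∨ (a < i ∧ fl' (i - (a + 1))), (gc_of_sim hs').symm, fun i j hij => ?_⟩
    induction i using Fin.addCases (m := a + 1) with
    | left i =>
      rw [Fin.val_castAdd] at hij ⊢
      refine ⟨fun hfl0 r hr => ?_, fun hfl0 => ?_⟩
      · have hia : i.val = a := by rcases hfl0 with h | ⟨h, -⟩ <;> [exact h; (have := i.isLt; omega)]
        induction r using Fin.addCases (m := a + 1) with
        | left r => have h' : i.val < r.val := by simp only [Fin.lt_def, Fin.val_castAdd] at hr; exact hr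
                    have := r.isLt; omega
        | right r => simp [fS]
      · have hia : i.val < a := by
          have := i.isLt
          have : i.val ≠ a := fun e => hfl0 (Or.inl e)
          omega
        obtain ⟨i, rfl⟩ : ∃ i' : Fin a, i'.castSucc = i := ⟨⟨i.val, hia⟩, Fin.ext rfl⟩
        rw [show j = Fin.castAdd _ i.succ from Fin.ext (by simpa using hij)]
        rw [Matrix.mulVec_single_one]
        funext r
        induction r using Fin.addCases (m := a + 1) <;>
          simp [fS, cm_castSucc, Pi.single_apply, Fin.ext_iff]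
        omega
    | right i =>
      rw [Fin.val_natAdd] at hij ⊢
      obtain ⟨j, rfl⟩ : ∃ j' : Fin (Module.finrank F (∀ i : Fin L.length, AdjoinRoot (L.get i))), Fin.natAdd (a + 1) j' = j :=
        ⟨⟨i.val + 1, by have := j.isLt; omega⟩, Fin.ext (by simp; omega)⟩
      have hj : j.val = i.val + 1 := by simp at hij; omega
      have hiff : (a + 1 + i.val = a ∨ (a < a + 1 + i.val ∧ fl' (a + 1 + i.val - (a + 1)))) ↔ fl' i.val := by
        rw [Nat.add_sub_cancel_left]
        exact ⟨fun h => h.elim (fun h => by omega) (·.2), fun h => Or.inr ⟨by omega, h⟩⟩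
      simp only [hiff]
      refine ⟨fun hfl0 r hr => ?_, fun hfl0 => ?_⟩
      · induction r using Fin.addCases (m := a + 1) with
        | left r => simp [fS]
        | right r => simpa [fS] using (hfl i j hj).1 hfl0 r (by simpa using hr)
      · have h1 := (hfl i j hj).2 hfl0
        rw [Matrix.mulVec_single_one] at h1 ⊢
        funext r
        induction r using Fin.addCases (m := a + 1) with
        | left r =>
          have := r.isLt
          simp [fS, Pi.single_apply, Fin.ext_iff]
          omega
        | right r =>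
          have h2 := congrFun h1 r
          simp [fS, Pi.single_apply, Fin.ext_iff] at h2 ⊢
          exact h2

/-- Some element of a class makes an invertible matrix cyclic. -/
theorem exists_cyclic_mul {G : Matrix (Fin (m + 1)) (Fin (m + 1)) F} (hG : G.det ≠ 0) {s : Multiset F}
    (hs : Multiset.card s = m + 1) (hs0 : (0 : F) ∉ s) :
    ∃ L fQ, Cls (rp s) L ∧ fQ.Monic ∧ Cls fQ (G * L) := by
  obtain ⟨Ls, hLs, hsim⟩ := exists_dcyc (Matrix.toLin' G⁻¹)
  obtain ⟨N, fl, hGN, hN⟩ := exists_flag_form Ls (fun h hh => by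
    obtain ⟨P, e, hP, hPm, he, rfl⟩ := hLs h hh
    exact ⟨hPm.pow e, by rw [hPm.natDegree_pow]; exact Nat.mul_pos he hP.natDegree_pos⟩) _ _ hsim
  have hGi : G⁻¹.det ≠ 0 := by rw [det_nonsing_inv, Ring.inverse_eq_inv']; exact inv_ne_zero hG
  have hNd : N.det ≠ 0 := by rw [hGN.det_eq]; exact hGi
  set G0 := N⁻¹ with hG0
  have hG0G : GC G0 G := by
    have := hGN.symm.inv hNd
    rwa [nonsing_inv_nonsing_inv _ (Ne.isUnit hG)] at this
  have hG0N : ∀ x : Fin (m + 1) → F, G0 *ᵥ (N *ᵥ x) = x := fun x => by
    rw [mulVec_mulVec, hG0, nonsing_inv_mul _ (Ne.isUnit hNd), one_mulVec]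
  obtain ⟨L, hH, hF, hL⟩ := exists_flag_cls fl (m + 1) s hs
  have hLd : L.det ≠ 0 := by rw [hL.det (rp_monic s), cdet_rp]; exact Multiset.prod_ne_zero hs0
  set Q := G0 * L with hQ
  set φ := Matrix.toLin' Q with hφ
  set S := cspan φ (G0 *ᵥ Pi.single 0 1) with hS
  have hQd : Q.det ≠ 0 := by
    rw [hQ, det_mul, hG0, det_nonsing_inv, Ring.inverse_eq_inv']
    exact mul_ne_zero (inv_ne_zero hNd) hLd
  have hinv : ∀ x, φ x ∈ S → x ∈ S := by
    have hinj : Function.Injective φ := fun x y h => mulVec_inj hQd (by simpa [hφ] using h)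
    have hmap : S.map φ = S := by
      refine Submodule.eq_of_le_of_finrank_eq (Submodule.map_le_iff_le_comap.2 map_mem_cspan) ?_
      exact ((Submodule.equivMapOfInjective _ hinj S).finrank_eq).symm
    intro x hx
    rw [← hmap] at hx
    obtain ⟨y, hy, e⟩ := hx
    exact hinj e ▸ hy
  have key : ∀ k : ℕ, ∀ i : Fin (m + 1), i.val ≤ k → G0 *ᵥ Pi.single i 1 ∈ S := by
    intro k
    induction k with
    | zero =>
      intro i hi
      rw [show i = 0 from Fin.ext (by simpa using hi)]
      exact self_mem_cspan _ _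
    | succ k ihk =>
      intro j hj
      rcases Nat.lt_or_ge j.val (k + 1) with h | h
      · exact ihk j (by omega)
      have hjk : j.val = k + 1 := by omega
      set i : Fin (m + 1) := ⟨k, by have := j.isLt; omega⟩ with hi
      have hij : j.val = i.val + 1 := hjk
      have hsupp : ∀ x : Fin (m + 1) → F, (∀ r, i < r → x r = 0) → G0 *ᵥ x ∈ S := fun x hx => by
        rw [pi_eq_sum_univ' x, mulVec_sum]
        refine S.sum_mem fun r _ => ?_
        rcases le_or_gt r i with hr | hr
        · rw [mulVec_smul]; exact S.smul_mem _ (ihk r hr)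
        · rw [hx r hr, zero_smul, mulVec_zero]; exact S.zero_mem
      have hQe : φ (Pi.single i 1) = G0 *ᵥ (L *ᵥ Pi.single i 1) := by
        rw [hφ, Matrix.toLin'_apply, hQ, mulVec_mulVec]
      by_cases hfl : fl i.val
      · have h1 : Pi.single i (1 : F) ∈ S := by
          rw [← hG0N (Pi.single i 1)]
          exact hsupp _ fun r hr => by rw [Matrix.mulVec_single_one]; exact (hN i j hij).1 hfl r hr
        have h2 : φ (Pi.single i 1) ∈ S := map_mem_cspan _ h1
        rw [hQe] at h2
        set x := L *ᵥ Pi.single i 1 - L j i • Pi.single j 1 with hx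
        have h3 : G0 *ᵥ x ∈ S := hsupp x fun r hr => by
          simp only [hx, Pi.sub_apply, Pi.smul_apply, Matrix.mulVec_single_one, Matrix.col_apply, Pi.single_apply,
            smul_eq_mul]
          by_cases hrj : r = j
          · simp [hrj]
          · rw [if_neg hrj, hH r i ?_]
            · simp
            · have h' : i.val < r.val := hr
              have : r.val ≠ j.val := fun e => hrj (Fin.ext e)
              omega
        have h4 := S.sub_mem h2 h3
        rw [hx, mulVec_sub, sub_sub_cancel, mulVec_smul] at h4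
        exact (Submodule.smul_mem_iff _ ((hF j i hij).1 hfl)).1 h4
      · have h2 : φ (Pi.single i 1) ∈ S := by
          rw [hQe]
          refine hsupp _ fun r hr => ?_
          rw [Matrix.mulVec_single_one, Matrix.col_apply]
          have h' : i.val < r.val := hr
          by_cases hrj : r = j
          · rw [hrj]; exact (hF j i hij).2 hfl
          · refine hH r i ?_
            have : r.val ≠ j.val := fun e => hrj (Fin.ext e)
            omega
        rw [← (hN i j hij).2 hfl, hG0N]
        exact hinv _ h2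
  have hG0d : G0.det ≠ 0 := by rw [hG0, det_nonsing_inv, Ring.inverse_eq_inv']; exact inv_ne_zero hNd
  have htop : S = ⊤ := eq_top_iff.2 fun y _ => by
    have e : y = G0 *ᵥ (N *ᵥ y) := (hG0N y).symm
    rw [e, pi_eq_sum_univ' (N *ᵥ y), mulVec_sum]
    exact S.sum_mem fun r _ => by rw [mulVec_smul]; exact S.smul_mem _ (key r.val r le_rfl)
  have hQc := sim_cyc_charpoly htop
  obtain ⟨g, hg, hge⟩ := hG0G
  refine ⟨g * L * g⁻¹, φ.charpoly, hL.of_gc ⟨g, hg, by rw [nonsing_inv_mul_cancel_right _ _ (Ne.isUnit hg)]⟩,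
    φ.charpoly_monic, Cls.of_gc (M := Q) hQc ⟨g, hg, ?_⟩⟩
  rw [hQ, ← Matrix.mul_assoc, hge]
  simp only [Matrix.mul_assoc, nonsing_inv_mul _ (Ne.isUnit hg), Matrix.mul_one]

/-- Every matrix of the right determinant is a product of three in one class. -/
theorem triple [Fintype F] [DecidableEq F] {s : Multiset F} (hcard : Multiset.card s = m + 1) (hs : (0 : F) ∉ s)
    {w : F} (hw : s.count w = 1) {G : Matrix (Fin (m + 1)) (Fin (m + 1)) F} (hdet : G.det = s.prod ^ 3) :
    ∃ M1 M2 M3, Cls (rp s) M1 ∧ Cls (rp s) M2 ∧ Cls (rp s) M3 ∧ G = M1 * M2 * M3 := by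
  have hs0 : s.prod ≠ 0 := Multiset.prod_ne_zero hs
  set si := s.map (fun a => a⁻¹) with hsi
  have hsi0 : (0 : F) ∉ si := fun h => by
    obtain ⟨r, hr, e⟩ := Multiset.mem_map.1 h
    exact hs (inv_eq_zero.1 e ▸ hr)
  obtain ⟨L, fQ, hL, hfQ, hQ⟩ := exists_cyclic_mul (G := G) (by rw [hdet]; exact pow_ne_zero _ hs0) (s := si)
    (by rw [hsi, Multiset.card_map, hcard]) hsi0
  have hLd : L.det = s.prod⁻¹ := by rw [hL.det (rp_monic si), cdet_rp, hsi, Multiset.prod_map_inv, Multiset.map_id']
  obtain ⟨M, M', h1, h2, h3⟩ := tri_pair hfQ hQ hcard hs hw (by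
    rw [det_mul, hdet, hLd]; field_simp)
  have hLi := hL.inv (rp_monic si) (rp_coeff_zero hsi0)
  rw [invPoly_rp hsi0, hsi, Multiset.map_map] at hLi
  simp only [Function.comp_def, inv_inv, Multiset.map_id'] at hLi
  refine ⟨M, M', L⁻¹, h1, h2, hLi, ?_⟩
  rw [← h3, mul_nonsing_inv_cancel_right]
  rw [hLd]; exact Ne.isUnit (inv_ne_zero hs0)

end Cfsg.Agent.CovNum
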