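import Cfsg.Agent.Lib.CovNum.Lin

/-!
# Covering number of `PSL(n, q)`: matrices with an eigenvalue

* `upper_of_eig`, `upper_flex`, `lower_flex` : triangular shapes of the conjugates;
* `exists_uppers` : the free corner of a product of upper conjugates;
* `glue` : one lower conjugate times upper conjugates;
* `exists_Gform` : the shape of the target.
-/

set_option autoImplicit false
set_option linter.unusedSectionVars false

namespace Cfsg.Agent.CovNum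

open Matrix Submodule

variable {F : Type*} [Field F] {n m : ℕ}

theorem single_eq_cons : (Pi.single 0 1 : Fin (m + 1) → F) = Fin.cons 1 0 := by
  ext j; induction j using Fin.cases <;> simp [Fin.succ_ne_zero]

theorem cons_eq_smul_cons {μ t s : F} {w u : Fin m → F}
    (h : (Fin.cons t w : Fin (m + 1) → F) = μ • Fin.cons s u) : t = μ * s ∧ w = μ • u :=
  ⟨by simpa using congrFun h 0, funext fun i => by simpa using congrFun h i.succ⟩

theorem exists_form_vec (G : Matrix (Fin (m + 1)) (Fin (m + 1)) F) {v r : Fin (m + 1) → F} (hr : r ⬝ᵥ v = 1) :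
    ∃ (a b : Fin m → F) (D : Matrix (Fin m) (Fin m) F) (P : Matrix (Fin (m + 1)) (Fin (m + 1)) F),
      P.det ≠ 0 ∧ GC G (bl (r ⬝ᵥ (G *ᵥ v)) a b D) ∧ G * P = P * bl (r ⬝ᵥ (G *ᵥ v)) a b D ∧
      P *ᵥ Pi.single 0 1 = v ∧ r ᵥ* P = Pi.single 0 1 ∧ P *ᵥ Fin.cons (r ⬝ᵥ (G *ᵥ v)) a = G *ᵥ v := by
  obtain ⟨P, a, b, D, hP, he, hv, hr'⟩ := exists_form G hr
  refine ⟨a, b, D, P, hP, GC.symm ⟨P, hP, he.symm⟩, he, hv, hr', ?_⟩
  calc P *ᵥ Fin.cons (r ⬝ᵥ (G *ᵥ v)) a = P *ᵥ (bl (r ⬝ᵥ (G *ᵥ v)) a b D *ᵥ Pi.single 0 1) := by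
        rw [single_eq_cons, bl_mulVec]; simp
    _ = G *ᵥ v := by rw [mulVec_mulVec, ← he, ← mulVec_mulVec, hv]

theorem upper_of_eig (x : Matrix (Fin (m + 1)) (Fin (m + 1)) F) {v : Fin (m + 1) → F} {lam : F} (hv : v ≠ 0)
    (he : x *ᵥ v = lam • v) : ∃ (b : Fin m → F) (X : Matrix (Fin m) (Fin m) F),
      GC x (bl lam 0 b X) := by
  obtain ⟨r, hr, -⟩ := exists_sep (S := (⊥ : Submodule F (Fin (m + 1) → F))) (v := v) (by simpa using hv)
  obtain ⟨a, b, D, P, hP, hGC, -, hPv, -, hPa⟩ := exists_form_vec x hr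
  have h00 : r ⬝ᵥ (x *ᵥ v) = lam := by rw [he, dotProduct_smul, hr, smul_eq_mul, mul_one]
  rw [h00] at hPa hGC
  rw [he, ← hPv, single_eq_cons, ← mulVec_smul] at hPa
  obtain ⟨-, ha⟩ := cons_eq_smul_cons (mulVec_inj hP hPa)
  rw [smul_zero] at ha
  exact ⟨b, D, ha ▸ hGC⟩

theorem lower_of_eig (x : Matrix (Fin (m + 1)) (Fin (m + 1)) F) {lam : F}
    (h : ∃ v : Fin (m + 1) → F, v ≠ 0 ∧ x *ᵥ v = lam • v) :
    ∃ (c : Fin m → F) (X : Matrix (Fin m) (Fin m) F), GC x (bl lam c 0 X) := by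
  obtain ⟨v, hv, he⟩ := exists_eigvec_transpose h
  obtain ⟨b, X, hX⟩ := upper_of_eig xᵀ hv he
  refine ⟨b, Xᵀ, ?_⟩
  have := hX.transpose
  rwa [transpose_transpose, bl_transpose] at this

theorem gc_diag_conj {β : F} {a b : Fin m → F} {D Y g : Matrix (Fin m) (Fin m) F} (hg : g.det ≠ 0)
    (he : g * D = Y * g) : GC (bl β a b D) (bl β (g *ᵥ a) (b ᵥ* g⁻¹) Y) := by
  refine ⟨bl 1 0 0 g, by rw [det_diag, one_mul]; exact hg, ?_⟩
  rw [diag_mul_bl, bl_mul_diag, vecMul_vecMul, nonsing_inv_mul _ (Ne.isUnit hg), vecMul_one, he]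
  simp

theorem upper_flex {x : Matrix (Fin (m + 1)) (Fin (m + 1)) F} {lam : F} {b : Fin m → F}
    {X Y : Matrix (Fin m) (Fin m) F} (h : GC x (bl lam 0 b X)) (hY : GC X Y) :
    ∃ b1 : Fin m → F, ∀ z : Fin m → F, SC x (bl lam 0 (b1 + (z ᵥ* Y - lam • z)) Y) := by
  obtain ⟨g, hg, he⟩ := hY
  obtain ⟨t, -, ht⟩ := sc_of_gc_bl (h.trans (gc_diag_conj hg he))
  rw [mulVec_zero, smul_zero] at ht
  refine ⟨t⁻¹ • (b ᵥ* g⁻¹), fun z => ht.trans ?_⟩
  have := sc_shear lam (0 : Fin m → F) (t⁻¹ • (b ᵥ* g⁻¹)) z Y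
  simpa [add_sub_assoc] using this

theorem lower_flex {x : Matrix (Fin (m + 1)) (Fin (m + 1)) F} {lam : F} {c : Fin m → F}
    {X Y g : Matrix (Fin m) (Fin m) F} (h : GC x (bl lam c 0 X)) (hg : g.det ≠ 0) (he : g * X = Y * g) :
    ∃ t : F, t ≠ 0 ∧ ∀ z : Fin m → F, SC x (bl lam (t • (g *ᵥ c) + (Y *ᵥ z - lam • z)) 0 Y) := by
  obtain ⟨t, ht0, ht⟩ := sc_of_gc_bl (h.trans (gc_diag_conj hg he))
  rw [zero_vecMul, smul_zero] at ht
  exact ⟨t, ht0, fun z => ht.trans (sc_lshear lam _ z Y)⟩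

/-- The corners of products of upper conjugates. -/
theorem exists_uppers {x : Matrix (Fin (m + 1)) (Fin (m + 1)) F} {lam : F} (hlam : lam ≠ 0) {b : Fin m → F}
    {X : Matrix (Fin m) (Fin m) F} (hx : GC x (bl lam 0 b X)) {Ys : List (Matrix (Fin m) (Fin m) F)}
    (hYs : ∀ Y ∈ Ys, GC X Y) (hnc : NC lam Ys) (B : Fin m → F) :
    ∃ Us : List (Matrix (Fin (m + 1)) (Fin (m + 1)) F), Us.length = Ys.length ∧ (∀ U ∈ Us, SC x U) ∧
      Us.prod = bl (lam ^ Ys.length) 0 B Ys.prod ∧ ∀ Y ∈ Ys, ∃ b' : Fin m → F, bl lam 0 b' Y ∈ Us := by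
  have main : ∀ Ys : List (Matrix (Fin m) (Fin m) F), (∀ Y ∈ Ys, GC X Y) →
      ∃ (c0 : Fin m → F) (D : Submodule F (Fin m → F)),
        (∀ w : Fin m → F, (∀ d ∈ D, d ⬝ᵥ w = 0) →
          (∀ Y ∈ Ys, Y *ᵥ w = lam • w) ∧ Ys.prod *ᵥ w = lam ^ Ys.length • w) ∧
        ∀ d ∈ D, ∃ Us : List (Matrix (Fin (m + 1)) (Fin (m + 1)) F), Us.length = Ys.length ∧
          (∀ U ∈ Us, SC x U) ∧ Us.prod = bl (lam ^ Ys.length) 0 (c0 + d) Ys.prod ∧
          ∀ Y ∈ Ys, ∃ b' : Fin m → F, bl lam 0 b' Y ∈ Us := by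
    intro Ys hYs
    induction Ys with
    | nil =>
      refine ⟨0, ⊥, fun w _ => ⟨by simp, by simp⟩, fun d hd => ⟨[], rfl, by simp, ?_, by simp⟩⟩
      rw [(Submodule.mem_bot F).1 hd]
      simp [← one_bl]
    | cons Y Ys ih =>
      obtain ⟨c0, D, hann, hD⟩ := ih (fun Z hZ => hYs Z (List.mem_cons_of_mem _ hZ))
      obtain ⟨b1, hb1⟩ := upper_flex hx (hYs Y List.mem_cons_self)
      refine ⟨lam • c0 + b1 ᵥ* Ys.prod,
        LinearMap.range (Matrix.vecMulLinear ((Y - lam • 1) * Ys.prod)) ⊔ D.map (lam • LinearMap.id), ?_, ?_⟩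
      · intro w hw
        obtain ⟨h1, h2⟩ := hann w fun d hd => by
          have := hw (lam • d) (mem_sup_right ⟨d, hd, rfl⟩)
          simpa [smul_dotProduct, hlam] using this
        have h3 : Y *ᵥ w = lam • w := by
          have : ((Y - lam • 1) * Ys.prod) *ᵥ w = 0 := funext fun i => by
            have := hw (Pi.single i 1 ᵥ* ((Y - lam • 1) * Ys.prod)) (mem_sup_left ⟨Pi.single i 1, rfl⟩)
            rwa [← dotProduct_mulVec, single_dotProduct, one_mul] at this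
          rw [← mulVec_mulVec, h2, mulVec_smul, smul_eq_zero] at this
          rcases this with h | h
          · exact absurd h (pow_ne_zero _ hlam)
          · rwa [sub_mulVec, smul_mulVec, one_mulVec, sub_eq_zero] at h
        refine ⟨List.forall_mem_cons.2 ⟨h3, h1⟩, ?_⟩
        rw [List.prod_cons, ← mulVec_mulVec, h2, mulVec_smul, h3, smul_smul, List.length_cons, pow_succ]
      · intro d hd
        obtain ⟨d1, ⟨z, rfl⟩, d2, ⟨e, he, rfl⟩, rfl⟩ := mem_sup.1 hd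
        obtain ⟨Us, hl, hsc, hpr, hmem⟩ := hD e he
        refine ⟨bl lam 0 (b1 + (z ᵥ* Y - lam • z)) Y :: Us, by simp [hl],
          List.forall_mem_cons.2 ⟨hb1 z, hsc⟩, ?_, List.forall_mem_cons.2 ⟨⟨_, List.mem_cons_self⟩, fun Z hZ => ?_⟩⟩
        · rw [List.prod_cons, hpr, bl_mul, List.prod_cons, List.length_cons]
          congr 1
          · simp [pow_succ']
          · simp
          · simp only [Matrix.vecMulLinear_apply, LinearMap.smul_apply, LinearMap.id_apply, ← vecMul_vecMul,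
              vecMul_sub, vecMul_smul, vecMul_one, add_vecMul, sub_vecMul, smul_vecMul, smul_add]
            abel
          · simp
        · obtain ⟨b', hb'⟩ := hmem Z hZ
          exact ⟨b', List.mem_cons_of_mem _ hb'⟩
  obtain ⟨c0, D, hann, hD⟩ := main Ys hYs
  have hDt : D = ⊤ := by
    by_contra h
    obtain ⟨w, hw0, hw⟩ := exists_annih h
    exact hw0 (hnc w (hann w fun d hd => by rw [dotProduct_comm]; exact hw d hd).1)
  simpa using hD (B - c0) (by rw [hDt]; exact mem_top)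

/-- A lower conjugate times upper conjugates. -/
theorem glue {x : Matrix (Fin (m + 1)) (Fin (m + 1)) F} {lam lam1 β : F} (hlam : lam ≠ 0) (hlam1 : lam1 ≠ 0)
    {b0 : Fin m → F} {X : Matrix (Fin m) (Fin m) F} (hx : GC x (bl lam 0 b0 X))
    {c : Fin m → F} {Y : Matrix (Fin m) (Fin m) F} (hL : SC x (bl lam1 c 0 Y))
    {Ys : List (Matrix (Fin m) (Fin m) F)} (hYs : ∀ Z ∈ Ys, GC X Z) (hnc : NC lam Ys)
    {G : Matrix (Fin (m + 1)) (Fin (m + 1)) F} {a b : Fin m → F} {D : Matrix (Fin m) (Fin m) F}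
    (hG : SC G (bl β a b D)) (hβ : β = lam1 * lam ^ Ys.length) (ha : a = lam ^ Ys.length • c)
    (hS : schur β a b D = Y * Ys.prod) :
    ∃ l : List (Matrix (Fin (m + 1)) (Fin (m + 1)) F), l.length = Ys.length + 1 ∧ (∀ U ∈ l, SC x U) ∧
      l.prod = G ∧ ∀ μ : F, NC μ Ys → c ≠ 0 → NC μ l := by
  obtain ⟨Us, hl, hsc, hpr, hmem⟩ := exists_uppers hlam hx hYs hnc (lam1⁻¹ • b)
  have hprod : (bl lam1 c 0 Y :: Us).prod = bl β a b D := by
    rw [List.prod_cons, hpr, bl_mul]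
    congr 1
    · simp [hβ]
    · simp [ha]
    · simp [smul_smul, hlam1]
    · have : D = schur β a b D + β⁻¹ • vecMulVec a b := by simp [schur]
      rw [this, hS, add_comm, hβ, ha, Matrix.smul_vecMulVec, Matrix.vecMulVec_smul, smul_smul, mul_inv, mul_assoc,
        inv_mul_cancel₀ (pow_ne_zero _ hlam), mul_one]
  obtain ⟨g, hg, he⟩ := hG.symm
  have hu : IsUnit g.det := by rw [hg]; exact isUnit_one
  refine ⟨(bl lam1 c 0 Y :: Us).map fun y => g * y * g⁻¹, by simp [hl], fun U hU => ?_, ?_, fun μ hμ hc => ?_⟩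
  · obtain ⟨z, hz, rfl⟩ := List.mem_map.1 hU
    exact (List.forall_mem_cons.2 ⟨hL, hsc⟩ z hz).trans ⟨g, hg, by rw [nonsing_inv_mul_cancel_right _ _ hu]⟩
  · rw [prod_map_conj hu, hprod, he, mul_nonsing_inv_cancel_right _ _ hu]
  · refine NC.map (fun w hw => ?_) hu
    obtain ⟨w0, w', rfl⟩ : ∃ w0 w', w = Fin.cons w0 w' := ⟨w 0, Fin.tail w, (Fin.cons_self_tail w).symm⟩
    have hw' : w' = 0 := hμ w' fun Z hZ => by
      obtain ⟨b', hb'⟩ := hmem Z hZ
      have := hw _ (List.mem_cons_of_mem _ hb')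
      rw [bl_mulVec] at this
      simpa using (cons_eq_smul_cons this).2
    subst hw'
    have := hw _ List.mem_cons_self
    rw [bl_mulVec] at this
    have h2 := (cons_eq_smul_cons this).2
    simp only [mulVec_zero, add_zero, smul_zero, smul_eq_zero, hc, or_false] at h2
    subst h2
    ext i; induction i using Fin.cases <;> rfl

/-- The block form of a nonscalar target with prescribed corner and first column. -/
theorem exists_Gform {G : Matrix (Fin (m + 3)) (Fin (m + 3)) F} (hG : ∀ c : F, G ≠ c • 1) (β : F)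
    {a0 : Fin (m + 2) → F} (ha0 : a0 ≠ 0) :
    ∃ (b : Fin (m + 2) → F) (D : Matrix (Fin (m + 2)) (Fin (m + 2)) F), SC G (bl β a0 b D) := by
  obtain ⟨v, hv, hne⟩ := exists_noneig hG
  obtain ⟨r, hr1, hr2⟩ := exists_dual2 hv hne 1 β
  obtain ⟨a, b, D, P, hP, hGC, -, hPv, -, hPa⟩ := exists_form_vec G hr1
  rw [hr2] at hPa hGC
  have ha : a ≠ 0 := by
    rintro rfl
    refine hne (mem_span_singleton.2 ⟨β, ?_⟩)
    rw [← hPa, ← hPv, single_eq_cons, ← mulVec_smul]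
    congr 1
    ext i; induction i using Fin.cases <;> simp
  obtain ⟨t, ht, hSC⟩ := sc_of_gc_bl hGC
  obtain ⟨P1, hP1, he1⟩ := exists_col_sl (v := t • a) (smul_ne_zero ht ha)
  obtain ⟨P2, hP2, he2⟩ := exists_col_sl ha0
  have hu : IsUnit P1.det := by rw [hP1]; exact isUnit_one
  have hd : (P2 * P1⁻¹).det = 1 := by rw [det_mul, hP2, det_nonsing_inv, hP1]; simp
  refine ⟨t⁻¹ • b ᵥ* (P1 * P2⁻¹), P2 * P1⁻¹ * D * (P1 * P2⁻¹), hSC.trans (sc_diag (g := P2 * P1⁻¹) ?_ ?_ ?_ ?_)⟩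
  · rw [hd]; exact one_ne_zero
  · rw [Matrix.mul_assoc (P2 * P1⁻¹ * D), Matrix.mul_assoc P1, ← Matrix.mul_assoc P2⁻¹,
      nonsing_inv_mul _ (by rw [hP2]; exact isUnit_one), Matrix.one_mul, mul_nonsing_inv _ hu, Matrix.mul_one]
  · rw [hd, one_smul, ← mulVec_mulVec, ← he1, mulVec_mulVec (M := P1⁻¹), nonsing_inv_mul _ hu, one_mulVec, he2]
  · rw [hd, inv_one, one_smul, smul_vecMul, vecMul_vecMul, Matrix.mul_assoc P1, ← Matrix.mul_assoc P2⁻¹,
      nonsing_inv_mul _ (by rw [hP2]; exact isUnit_one), Matrix.one_mul, mul_nonsing_inv _ hu, vecMul_one]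

end Cfsg.Agent.CovNum
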