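import Cfsg.Agent.Lib.CovNum.Family

/-!
# Covering number of `PSL(n, q)`: matrices with an eigenvalue, summary

* `eig_nonscalar` : `n` conjugates reach every nonscalar matrix;
* `eig_one` : for determinant one they reach a scalar matrix of determinant one.
-/

set_option autoImplicit false
set_option linter.unusedSectionVars false

namespace Cfsg.Agent.CovNum

open Matrix Submodule

variable {F : Type*} [Field F] {n m : ℕ}

theorem det_of_nil : ∀ (n : ℕ) (x : Matrix (Fin n) (Fin n) F) (lam : F) (k : ℕ),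
    (x - lam • 1) ^ k = 0 → x.det = lam ^ n
  | 0, x, lam, k, _ => by simp
  | m + 1, x, lam, k, hk => by
    obtain ⟨v, hv, he⟩ := Matrix.exists_mulVec_eq_zero_iff.2 (det_pow_zero hk)
    rw [sub_mulVec, smul_mulVec, one_mulVec, sub_eq_zero] at he
    obtain ⟨b, X, hX⟩ := upper_of_eig x hv he
    rw [det_upper hX, det_of_nil m X lam k (nil_quot hX hk), pow_succ']

theorem gc_diagonal_sc {x : Matrix (Fin n) (Fin n) F} {d : Fin n → F} (h : GC x (diagonal d)) :
    SC x (diagonal d) := by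
  rcases n with _ | n
  · exact ⟨1, det_one, Subsingleton.elim _ _⟩
  obtain ⟨g, hg, he⟩ := h
  set t : Fin (n + 1) → F := Function.update 1 0 g.det⁻¹ with ht
  have htd : (diagonal t).det = g.det⁻¹ := by
    rw [det_diagonal, ht, Fin.prod_univ_succ]
    simp [Fin.succ_ne_zero]
  refine ⟨diagonal t * g, by rw [det_mul, htd, inv_mul_cancel₀ hg], ?_⟩
  rw [Matrix.mul_assoc, he, ← Matrix.mul_assoc, ← Matrix.mul_assoc, diagonal_mul_diagonal, diagonal_mul_diagonal]
  simp [mul_comm]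

theorem gc_diagonal_perm (d : Fin n → F) (σ : Equiv.Perm (Fin n)) : GC (diagonal d) (diagonal (d ∘ σ)) := by
  refine ⟨(1 : Matrix (Fin n) (Fin n) F).submatrix σ id, ?_, ?_⟩
  · rw [Matrix.det_permute, det_one, mul_one]
    rcases Int.units_eq_one_or (Equiv.Perm.sign σ) with h | h <;> simp [h]
  · ext i j
    simp only [Matrix.mul_diagonal, Matrix.diagonal_mul, Matrix.submatrix_apply, id_eq, Matrix.one_apply,
      Function.comp_apply]
    split_ifs with h
    · rw [← h]; ring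
    · ring

theorem gc_diag_of_quad : ∀ (n : ℕ) (x : Matrix (Fin n) (Fin n) F) (l0 nu : F), l0 ≠ nu →
    (x - l0 • 1) * (x - nu • 1) = 0 → ∃ d : Fin n → F, GC x (diagonal d)
  | 0, x, _, _, _, _ => ⟨0, ⟨1, by simp, Subsingleton.elim _ _⟩⟩
  | m + 1, x, l0, nu, hne, h => by
    classical
    have hcomm : (x - nu • 1) * (x - l0 • 1) = 0 := by
      rw [← h]
      simp only [Matrix.sub_mul, Matrix.mul_sub, Matrix.smul_mul, Matrix.mul_smul, Matrix.one_mul, Matrix.mul_one]
      module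
    obtain ⟨a, b', hab, hq, v, hv, he⟩ : ∃ a b' : F, a ≠ b' ∧ (x - a • 1) * (x - b' • 1) = 0 ∧
        ∃ v : Fin (m + 1) → F, v ≠ 0 ∧ x *ᵥ v = a • v := by
      have := congrArg Matrix.det h
      rw [det_mul, det_zero, mul_eq_zero] at this
      rcases this with h3 | h3
      · obtain ⟨v, hv, he⟩ := Matrix.exists_mulVec_eq_zero_iff.2 h3
        exact ⟨l0, nu, hne, h, v, hv, by rwa [sub_mulVec, smul_mulVec, one_mulVec, sub_eq_zero] at he⟩
      · obtain ⟨v, hv, he⟩ := Matrix.exists_mulVec_eq_zero_iff.2 h3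
        exact ⟨nu, l0, hne.symm, hcomm, v, hv, by rwa [sub_mulVec, smul_mulVec, one_mulVec, sub_eq_zero] at he⟩
    obtain ⟨b, X, hX⟩ := upper_of_eig x hv he
    have hmul : (bl a 0 b X - a • 1) * (bl a 0 b X - b' • 1) = 0 := by
      obtain ⟨g, hg, hge⟩ := hX
      have h1 : ∀ c : F, g * (x - c • 1) = (bl a 0 b X - c • 1) * g := fun c => by
        rw [Matrix.mul_sub, Matrix.sub_mul, hge, Matrix.mul_smul, Matrix.smul_mul, Matrix.mul_one, Matrix.one_mul]
      have h3 : (bl a 0 b X - a • 1) * (bl a 0 b X - b' • 1) * g = 0 := by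
        rw [Matrix.mul_assoc, ← h1, ← Matrix.mul_assoc, ← h1, Matrix.mul_assoc, hq, Matrix.mul_zero]
      simpa [mul_nonsing_inv_cancel_right _ _ (Ne.isUnit hg)] using congrArg (· * g⁻¹) h3
    rw [upper_sub_smul, upper_sub_smul, bl_mul, show (0 : Matrix (Fin (m + 1)) (Fin (m + 1)) F) = bl 0 0 0 0 by
      ext i j; induction i using Fin.cases <;> induction j using Fin.cases <;> simp] at hmul
    obtain ⟨-, -, hb, hXq⟩ := bl_inj hmul
    simp only [sub_self, zero_smul, zero_add] at hb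
    obtain ⟨d, hd⟩ := gc_diag_of_quad m X a b' hab (by simpa using hXq)
    obtain ⟨g, hg, hge⟩ := hd
    have h2 := hX.trans (gc_diag_conj hg hge)
    rw [mulVec_zero] at h2
    set b1 := b ᵥ* g⁻¹ with hb1
    have hb1z : b1 ᵥ* (diagonal d - b' • 1) = 0 := by
      rw [hb1, vecMul_vecMul, show g⁻¹ * (diagonal d - b' • 1) = (X - b' • 1) * g⁻¹ by
        rw [Matrix.mul_sub, Matrix.sub_mul, conj_inv_eq (Ne.isUnit hg) hge, Matrix.mul_smul, Matrix.smul_mul,
          Matrix.mul_one, Matrix.one_mul], ← vecMul_vecMul, hb, zero_vecMul]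
    refine ⟨Fin.cons a d, h2.trans ?_⟩
    set δ : Fin m → F := fun i => if d i = a then 0 else -(b1 i) / (d i - a) with hδ
    have hs := (sc_shear a (0 : Fin m → F) b1 δ (diagonal d)).gc
    convert hs using 1
    ext i j
    induction i using Fin.cases with
    | zero =>
      induction j using Fin.cases with
      | zero => simp
      | succ j =>
        have hj := congrFun hb1z j
        simp [Matrix.vecMul, dotProduct, Matrix.diagonal_apply, Matrix.one_apply, mul_sub,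
          Finset.sum_sub_distrib] at hj
        simp [Matrix.vecMul_diagonal, hδ, (Fin.succ_ne_zero j).symm]
        by_cases hda : d j = a
        · rw [if_pos hda]
          rw [hda, ← mul_sub, mul_eq_zero] at hj
          simp [hj.resolve_right (sub_ne_zero.2 hab)]
        · have := sub_ne_zero.2 hda
          simp only [hda, if_false]
          field_simp
          ring
    | succ i =>
      induction j using Fin.cases with
      | zero => simp [Fin.succ_ne_zero]
      | succ j => simp [Matrix.diagonal_apply]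

theorem diag_cycle {x : Matrix (Fin (m + 1)) (Fin (m + 1)) F} {d : Fin (m + 1) → F} (hx : GC x (diagonal d))
    (hdet : x.det = 1) : Prd SC x (m + 1) 1 := by
  have hd : ∏ i, d i = 1 := by rw [← det_diagonal, hx.det_eq, hdet]
  refine ⟨List.ofFn fun k : Fin (m + 1) => diagonal (d ∘ Equiv.addRight k), by simp, fun y hy => ?_, ?_⟩
  · obtain ⟨k, rfl⟩ := List.mem_ofFn.1 hy
    exact gc_diagonal_sc (hx.trans (gc_diagonal_perm d _))
  · have : (List.ofFn fun k : Fin (m + 1) => diagonal (d ∘ Equiv.addRight k)) =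
        (List.ofFn fun k : Fin (m + 1) => d ∘ Equiv.addRight k).map (Matrix.diagonalRingHom (Fin (m + 1)) F) := by
      rw [List.map_ofFn]; rfl
    rw [this, List.prod_hom, List.prod_ofFn]
    show diagonal (∏ k : Fin (m + 1), d ∘ Equiv.addRight k) = 1
    rw [← diagonal_one]
    congr 1
    ext i
    simp only [Finset.prod_apply, Function.comp_apply, Equiv.coe_addRight]
    exact (Equiv.prod_comp (Equiv.addLeft i) d).trans hd

/-- Unitriangular shapes for a single Jordan block of size three. -/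
def j3 (lam p q r : F) : Matrix (Fin 3) (Fin 3) F := !![lam, p, r; 0, lam, q; 0, 0, lam]

theorem j3_prd {x : Matrix (Fin 3) (Fin 3) F} {lam : F} {k : ℕ} [Fintype F] (h4 : 4 ≤ Fintype.card F)
    (hk : (x - lam • 1) ^ k = 0) (hdet : x.det = 1) (hns : ¬ R1 lam x) : Prd SC x 3 1 := by
  have hl3 : lam ^ 3 = 1 := by rw [← det_of_nil 3 x lam k hk, hdet]
  have hlam : lam ≠ 0 := fun e => by simp [e] at hl3
  set N := x - lam • 1 with hN
  obtain ⟨v, hv⟩ : ∃ v, N *ᵥ (N *ᵥ v) ≠ 0 := by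
    by_contra! h
    refine hns ?_
    have hle : LinearMap.range N.mulVecLin ≤ LinearMap.ker N.mulVecLin := by
      rintro _ ⟨w, rfl⟩; exact h w
    have h3 := N.mulVecLin.finrank_range_add_finrank_ker
    rw [Module.finrank_fin_fun] at h3
    have h5 := Submodule.finrank_mono hle
    obtain ⟨u, hu⟩ : ∃ u, LinearMap.range N.mulVecLin ≤ span F ({u} : Set (Fin 3 → F)) := by
      by_cases hbot : LinearMap.range N.mulVecLin = ⊥
      · exact ⟨0, by rw [hbot]; exact bot_le⟩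
      obtain ⟨u, hu, hu0⟩ := Submodule.exists_mem_ne_zero_of_ne_bot hbot
      refine ⟨u, le_of_eq (Submodule.eq_of_le_of_finrank_le ((span_singleton_le_iff_mem _ _).2 hu) ?_).symm⟩
      rw [finrank_span_singleton hu0]
      omega
    exact R1.of_image fun w => hu ⟨w, rfl⟩
  have hN3 : ∀ w, N *ᵥ (N *ᵥ (N *ᵥ w)) = 0 := by
    intro w
    have h1 := Module.End.ker_pow_eq_ker_pow_finrank_of_le (f := Matrix.toLin' N) (m := 3 + k)
      (by rw [Module.finrank_fin_fun]; omega)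
    rw [Module.finrank_fin_fun, ← Matrix.toLin'_pow, ← Matrix.toLin'_pow] at h1
    have : w ∈ LinearMap.ker (Matrix.toLin' (N ^ (3 + k))) := by
      rw [LinearMap.mem_ker, Matrix.toLin'_apply, pow_add, hk, Matrix.mul_zero, zero_mulVec]
    rw [h1, LinearMap.mem_ker, Matrix.toLin'_apply, pow_succ, pow_two, ← mulVec_mulVec, ← mulVec_mulVec] at this
    exact this
  set P : Matrix (Fin 3) (Fin 3) F := Matrix.of fun i j => ![N *ᵥ (N *ᵥ v), N *ᵥ v, v] j i with hPd
  have hPv : ∀ w : Fin 3 → F, P *ᵥ w = w 0 • N *ᵥ (N *ᵥ v) + w 1 • N *ᵥ v + w 2 • v := fun w => by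
    obtain ⟨A, hA⟩ : ∃ A, A = N *ᵥ (N *ᵥ v) := ⟨_, rfl⟩
    obtain ⟨B, hB⟩ : ∃ B, B = N *ᵥ v := ⟨_, rfl⟩
    rw [hPd, ← hA, ← hB]
    ext i
    simp [Matrix.mulVec, dotProduct, Fin.sum_univ_three]
    ring
  have hP : P.det ≠ 0 := by
    intro h0
    obtain ⟨w, hw0, hw⟩ := Matrix.exists_mulVec_eq_zero_iff.2 h0
    have e : w 0 • N *ᵥ (N *ᵥ v) + w 1 • N *ᵥ v + w 2 • v = 0 := by rw [← hPv, hw]
    have e2 := congrArg (N *ᵥ ·) (congrArg (N *ᵥ ·) e)
    simp only [mulVec_add, mulVec_smul, mulVec_zero, hN3, smul_zero, zero_add] at e2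
    have w2 := (smul_eq_zero.1 e2).resolve_right hv
    rw [w2, zero_smul, add_zero] at e
    have e3 := congrArg (N *ᵥ ·) e
    simp only [mulVec_add, mulVec_smul, mulVec_zero, hN3, smul_zero, zero_add] at e3
    have w1 := (smul_eq_zero.1 e3).resolve_right hv
    rw [w1, zero_smul, add_zero] at e
    have w0 := (smul_eq_zero.1 e).resolve_right hv
    exact hw0 (funext fun i => by fin_cases i <;> assumption)
  have hM : GC x (j3 lam 1 1 0) := by
    refine GC.symm ⟨P, hP, ?_⟩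
    have hx : ∀ w, x *ᵥ w = lam • w + N *ᵥ w := fun w => by
      rw [hN, sub_mulVec, smul_mulVec, one_mulVec, add_sub_cancel]
    refine Matrix.ext_of_mulVec_single fun j => ?_
    rw [← mulVec_mulVec, ← mulVec_mulVec, hPv, hPv, mulVec_add, mulVec_add, mulVec_smul, mulVec_smul, mulVec_smul,
      hx, hx, hx, hN3, Matrix.mulVec_single_one]
    fin_cases j <;> simp [j3, Matrix.col] <;> module
  obtain ⟨ε, hε, hall⟩ : ∃ ε : F, ε ≠ 0 ∧ ∀ p r : F, p ≠ 0 → SC x (j3 lam (ε * p) p r) := by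
    obtain ⟨g, hg, hge⟩ := hM
    refine ⟨g.det⁻¹, inv_ne_zero hg, fun p r hp => ?_⟩
    have h1 : SC x (j3 lam g.det⁻¹ 1 0) := by
      refine ⟨diagonal ![g.det⁻¹, 1, 1] * g, ?_, ?_⟩
      · rw [det_mul, det_diagonal, Fin.prod_univ_three]; simp [hg]
      · rw [Matrix.mul_assoc, hge, ← Matrix.mul_assoc, ← Matrix.mul_assoc]
        congr 1
        ext i j
        fin_cases i <;> fin_cases j <;> simp [j3, Matrix.diagonal_mul, Matrix.mul_diagonal, mul_comm]
    have h2 : SC (j3 lam g.det⁻¹ 1 0) (j3 lam (g.det⁻¹ * p) p 0) := by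
      refine ⟨diagonal ![p, 1, p⁻¹], by rw [det_diagonal, Fin.prod_univ_three]; simp [hp], ?_⟩
      ext i j
      fin_cases i <;> fin_cases j <;> simp [j3, Matrix.diagonal_mul, Matrix.mul_diagonal, mul_comm, hp]
    have h3 : SC (j3 lam (g.det⁻¹ * p) p 0) (j3 lam (g.det⁻¹ * p) p r) := by
      refine ⟨!![1, 0, 0; 0, 1, -r / (g.det⁻¹ * p); 0, 0, 1], by simp [Matrix.det_fin_three], ?_⟩
      have : g.det⁻¹ * p ≠ 0 := mul_ne_zero (inv_ne_zero hg) hp
      ext i j
      fin_cases i <;> fin_cases j <;> simp [j3, Matrix.mul_apply, Fin.sum_univ_three] <;> field_simp <;> ring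
    exact (h1.trans h2).trans h3
  obtain ⟨s, hs0, hs1, -⟩ := exists_avoid_three h4 0 (-1) 0
  have ht : (-1 - s : F) ≠ 0 := fun e => hs1 (by linear_combination -e)
  set r : F := -(ε * s + (ε * (1 + s)) * (-1 - s)) / lam with hr
  refine ⟨[j3 lam (ε * 1) 1 0, j3 lam (ε * s) s 0, j3 lam (ε * (-1 - s)) (-1 - s) r], rfl, ?_, ?_⟩
  · simp only [List.forall_mem_cons, List.not_mem_nil, false_imp_iff, implies_true, and_true]
    exact ⟨hall 1 0 one_ne_zero, hall s 0 hs0, hall _ r ht⟩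
  · simp only [List.prod_cons, List.prod_nil, Matrix.mul_one]
    ext i j
    fin_cases i <;> fin_cases j <;> simp [j3, Matrix.mul_apply, Fin.sum_univ_three, hr] <;>
      first
      | linear_combination hl3
      | (field_simp; ring)

theorem n2_prd {x : Matrix (Fin 4) (Fin 4) F} {lam : F} {k : ℕ} (hk : (x - lam • 1) ^ k = 0) (hdet : x.det = 1)
    {c1 c2 : Fin 4 → F} (hind : ∀ p q : F, p • ((x - lam • 1) *ᵥ c1) + q • ((x - lam • 1) *ᵥ c2) = 0 → p = 0 ∧ q = 0)
    (hsq : ∀ w, (x - lam • 1) *ᵥ ((x - lam • 1) *ᵥ w) = 0) : Prd SC x 4 1 := by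
  have hl4 : lam ^ 4 = 1 := by rw [← det_of_nil 4 x lam k hk, hdet]
  set N := x - lam • 1 with hN
  set P : Matrix (Fin 4) (Fin 4) F := Matrix.of fun i j => ![N *ᵥ c1, N *ᵥ c2, c1, c2] j i with hPd
  have hPv : ∀ w : Fin 4 → F, P *ᵥ w = w 0 • N *ᵥ c1 + w 1 • N *ᵥ c2 + w 2 • c1 + w 3 • c2 := fun w => by
    ext i
    simp [hPd, Matrix.mulVec, dotProduct, Fin.sum_univ_four]
    ring
  have hP : P.det ≠ 0 := by
    intro h0
    obtain ⟨w, hw0, hw⟩ := Matrix.exists_mulVec_eq_zero_iff.2 h0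
    rw [hPv] at hw
    have e2 := congrArg (N *ᵥ ·) hw
    simp only [mulVec_add, mulVec_smul, mulVec_zero, hsq, smul_zero, zero_add] at e2
    obtain ⟨w2, w3⟩ := hind _ _ e2
    rw [w2, w3, zero_smul, zero_smul, add_zero, add_zero] at hw
    obtain ⟨w0, w1⟩ := hind _ _ hw
    exact hw0 (funext fun i => by fin_cases i <;> assumption)
  have hu := Ne.isUnit hP
  set E : Matrix (Fin 4) (Fin 4) F := !![0, 0, 1, 0; 0, 0, 0, 1; 0, 0, 0, 0; 0, 0, 0, 0] with hE
  have hNP : N * P = P * E := by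
    refine Matrix.ext_of_mulVec_single fun j => ?_
    rw [← mulVec_mulVec, ← mulVec_mulVec, hPv, hPv, mulVec_add, mulVec_add, mulVec_add, mulVec_smul, mulVec_smul,
      mulVec_smul, mulVec_smul, hsq, hsq, Matrix.mulVec_single_one]
    fin_cases j <;> simp [hE, Matrix.col]
  set g := P * diagonal ![1, 1, -1, -1] * P⁻¹ with hg
  have hgd : g.det = 1 := by
    rw [hg, det_mul, det_mul, det_diagonal, Fin.prod_univ_four, det_nonsing_inv, Ring.inverse_eq_inv']
    simp [hP]
  have hDE : diagonal ![1, 1, -1, -1] * E = -(E * diagonal ![1, 1, -1, -1]) := by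
    ext i j
    rw [Matrix.neg_apply, Matrix.diagonal_mul, Matrix.mul_diagonal]
    fin_cases i <;> fin_cases j <;> simp [hE]
  have hgN : g * N = -(N * g) := by
    have hN' : N = P * E * P⁻¹ := by rw [← hNP, mul_nonsing_inv_cancel_right _ _ hu]
    calc g * N = P * (diagonal ![1, 1, -1, -1] * E) * P⁻¹ := by
          rw [hg, hN']; simp only [Matrix.mul_assoc, nonsing_inv_mul_cancel_left _ _ hu]
      _ = -(N * g) := by
          rw [hDE, hg, hN']
          simp only [Matrix.mul_assoc, nonsing_inv_mul_cancel_left _ _ hu, Matrix.mul_neg, Matrix.neg_mul]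
  have hx : x = lam • 1 + N := by rw [hN, add_sub_cancel]
  have hSC : SC x (lam • 1 - N) := by
    refine ⟨g, hgd, ?_⟩
    rw [hx, Matrix.mul_add, Matrix.sub_mul, hgN, Matrix.mul_smul, Matrix.smul_mul, Matrix.mul_one, Matrix.one_mul,
      sub_eq_add_neg]
  have hNN : N * N = 0 := Matrix.ext_of_mulVec_single fun j => by rw [← mulVec_mulVec, hsq, zero_mulVec]
  have hpair : x * (lam • 1 - N) = lam ^ 2 • 1 := by
    have gen : ∀ M : Matrix (Fin 4) (Fin 4) F, M * M = 0 → (lam • 1 + M) * (lam • 1 - M) = lam ^ 2 • 1 := by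
      intro M hM
      simp only [Matrix.add_mul, Matrix.mul_sub, hM, Matrix.smul_mul, Matrix.mul_smul,
        Matrix.one_mul, Matrix.mul_one, pow_two]
      module
    have e := gen N hNN
    rwa [← hx] at e
  refine ⟨[x, lam • 1 - N, x, lam • 1 - N], rfl, ?_, ?_⟩
  · simp only [List.forall_mem_cons, List.not_mem_nil, false_imp_iff, implies_true, and_true]
    exact ⟨SC.refl x, hSC, SC.refl x, hSC⟩
  · simp only [List.prod_cons, List.prod_nil, Matrix.mul_one]
    rw [← Matrix.mul_assoc, hpair, Matrix.smul_mul, Matrix.one_mul, smul_smul, ← pow_add, hl4, one_smul]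

variable [Fintype F]

theorem eig_nonscalar (h4 : 4 ≤ Fintype.card F) (hPG : ∀ k, 3 ≤ k → k < m + 3 → PG F k)
    {x G : Matrix (Fin (m + 3)) (Fin (m + 3)) F} (hx : ∀ c : F, x ≠ c • 1) (hxd : x.det ≠ 0)
    (he : ∃ (lam : F) (v : Fin (m + 3) → F), v ≠ 0 ∧ x *ᵥ v = lam • v) (hG : ∀ c : F, G ≠ c • 1)
    (hdet : G.det = x.det ^ (m + 3)) : Prd SC x (m + 3) G := by
  by_cases hT : ∃ μ, Tx μ x
  · obtain ⟨μ, hT⟩ := hT
    exact tx_full h4 hPG hT hxd hdet
  push Not at hT
  obtain ⟨lam, v, hv, he⟩ := he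
  obtain ⟨l, h1, h2, h3, -⟩ := famLemma h4 m x G (fam_of_no_tx ⟨v, hv, he⟩ hT) hx hxd hG hdet
  exact ⟨l, h1, h2, h3⟩

theorem eig_one (h4 : 4 ≤ Fintype.card F) (hPG : ∀ k, 3 ≤ k → k < m + 3 → PG F k)
    {x : Matrix (Fin (m + 3)) (Fin (m + 3)) F} (hx : ∀ c : F, x ≠ c • 1) (hxd : x.det = 1)
    (he : ∃ (lam : F) (v : Fin (m + 3) → F), v ≠ 0 ∧ x *ᵥ v = lam • v) :
    ∃ μ : F, μ ^ (m + 3) = 1 ∧ Prd SC x (m + 3) (μ • 1) := by
  have hxd0 : x.det ≠ 0 := by rw [hxd]; exact one_ne_zero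
  by_cases hT : ∃ μ, Tx μ x
  · obtain ⟨μ, hT⟩ := hT
    exact ⟨1, one_pow _, tx_full h4 hPG hT hxd0 (by rw [one_smul, det_one, hxd, one_pow])⟩
  push Not at hT
  obtain ⟨lam, v, hv, he⟩ := he
  have hfam := fam_of_no_tx ⟨v, hv, he⟩ hT
  have diag : ∀ p q : F, p ≠ q → (x - p • 1) * (x - q • 1) = 0 →
      ∃ μ : F, μ ^ (m + 3) = 1 ∧ Prd SC x (m + 3) (μ • 1) := fun p q hpq h => by
    obtain ⟨d, hd⟩ := gc_diag_of_quad _ x p q hpq h
    exact ⟨1, one_pow _, by rw [one_smul]; exact diag_cycle hd hxd⟩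
  by_cases hr : ∃ a, R1 a x
  · obtain ⟨a, u, f, huf⟩ := hr
    by_cases hfu : f ⬝ᵥ u = 0
    · have hd : x.det = a ^ (m + 3) := by
        have ha : a ≠ 0 := by
          rintro rfl
          rw [zero_smul, sub_zero] at huf
          obtain ⟨w, hw0, hw⟩ := exists_orth (by omega : 2 ≤ m + 3) f
          exact hxd0 (Matrix.exists_mulVec_eq_zero_iff.1 ⟨w, hw0, by rw [huf, vecMulVec_mulVec', hw, zero_smul]⟩)
        rw [det_r1 ha huf, hfu, add_zero, ← pow_succ]
      have ha : a ≠ 0 := fun e => by rw [hd, e, zero_pow (by omega)] at hxd; exact zero_ne_one hxd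
      rw [hxd] at hd
      refine ⟨1, one_pow _, root_group_list h4 hx ha ⟨u, f, huf⟩ (by rw [hxd, hd]) ⟨0, 0, ?_⟩ (by simp [hxd])⟩
      rw [← hd, one_smul, sub_self]; ext i j; simp [vecMulVec_apply]
    · refine diag a (a + f ⬝ᵥ u) (fun e => hfu (by linear_combination -e)) ?_
      rw [show x - (a + f ⬝ᵥ u) • 1 = vecMulVec u f - (f ⬝ᵥ u) • 1 by rw [← huf, add_smul]; abel, huf,
        Matrix.mul_sub, vecMulVec_mul_vecMulVec, Matrix.mul_smul, Matrix.mul_one, Matrix.vecMulVec_smul, sub_self]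
  push Not at hr
  obtain ⟨l0, hnil | ⟨nu, hne, h2⟩⟩ := hfam
  swap
  · exact diag l0 nu hne.symm h2
  obtain ⟨k, hk⟩ := hnil
  refine ⟨1, one_pow _, ?_⟩
  rw [one_smul]
  rcases Nat.eq_zero_or_pos m with rfl | hm
  · exact j3_prd h4 hk hxd (hr l0)
  obtain ⟨p, rfl⟩ : ∃ p, m = p + 1 := ⟨m - 1, by omega⟩
  set N := x - l0 • 1 with hN
  have hl0 : l0 ^ (p + 1 + 3) = 1 := by rw [← det_of_nil _ x l0 k hk, hxd]
  have hl : l0 ≠ 0 := fun e => by rw [e, zero_pow (by omega)] at hl0; exact zero_ne_one hl0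
  by_cases hgood : ∃ (v : Fin (p + 1 + 3) → F), v ≠ 0 ∧ N *ᵥ v = 0 ∧
      ∀ z : Fin (p + 1 + 3) → F, ∃ w, N *ᵥ w ∉ span F ({v, z} : Set (Fin (p + 1 + 3) → F))
  · obtain ⟨v', hv', hNv, hbig⟩ := hgood
    have he' : x *ᵥ v' = l0 • v' := by
      rwa [hN, sub_mulVec, smul_mulVec, one_mulVec, sub_eq_zero] at hNv
    obtain ⟨r, hr', -⟩ := exists_sep (S := (⊥ : Submodule F (Fin (p + 1 + 3) → F))) (v := v') (by simpa using hv')
    obtain ⟨a, b, X, P, hP, hGC, hmul, hPv, -, hPa⟩ := exists_form_vec x hr'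
    have h00 : r ⬝ᵥ (x *ᵥ v') = l0 := by rw [he', dotProduct_smul, hr', smul_eq_mul, mul_one]
    rw [h00] at hPa hGC hmul
    rw [he', ← hPv, single_eq_cons, ← mulVec_smul] at hPa
    obtain ⟨-, ha⟩ := cons_eq_smul_cons (mulVec_inj hP hPa)
    rw [smul_zero] at ha
    subst ha
    have hXk := nil_quot hGC hk
    have hXr : ∀ c : F, ¬ R1 c X := by
      rintro c ⟨u', f', h'⟩
      have hc : c = l0 := by
        obtain ⟨w, hw0, hw⟩ := exists_orth (by omega : 2 ≤ p + 3) f'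
        have e1 : X *ᵥ w = c • w := by rw [R1.apply h' w, hw, zero_smul, add_zero]
        have : ∀ j, ((X - l0 • 1) ^ j) *ᵥ w = (c - l0) ^ j • w := fun j => by
          induction j with
          | zero => simp
          | succ j ih =>
            rw [pow_succ', ← mulVec_mulVec, ih, mulVec_smul, sub_mulVec, smul_mulVec, one_mulVec, e1, ← sub_smul,
              smul_smul, pow_succ]
        have h5 := this k
        rw [hXk, zero_mulVec, eq_comm, smul_eq_zero] at h5
        exact sub_eq_zero.1 (pow_eq_zero_iff'.1 (h5.resolve_right hw0)).1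
      subst hc
      obtain ⟨w, hw⟩ := hbig (P *ᵥ Fin.cons 0 u')
      refine hw ?_
      obtain ⟨z, rfl⟩ : ∃ z, P *ᵥ z = w :=
        ⟨P⁻¹ *ᵥ w, by rw [mulVec_mulVec, mul_nonsing_inv _ (Ne.isUnit hP), one_mulVec]⟩
      refine mem_span_pair.2 ⟨b ⬝ᵥ Fin.tail z, f' ⬝ᵥ Fin.tail z, ?_⟩
      rw [mulVec_mulVec, hN, Matrix.sub_mul, hmul, Matrix.smul_mul, Matrix.one_mul]
      conv_rhs => rw [sub_mulVec, ← mulVec_mulVec, smul_mulVec, ← mulVec_smul, ← mulVec_sub]
      rw [← hPv, ← mulVec_smul, ← mulVec_smul, ← mulVec_add]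
      congr 1
      conv_rhs => rw [← Fin.cons_self_tail z, bl_mulVec, R1.apply h' (Fin.tail z)]
      ext i
      induction i using Fin.cases with
      | zero => simp
      | succ i => simp [Fin.tail]
    have hXn : ∀ c : F, X ≠ c • 1 := fun c hc => hXr c ⟨0, 0, by
      rw [hc, sub_self]; ext i j; simp [vecMulVec_apply]⟩
    have hXdet : X.det = l0⁻¹ := by
      have := det_upper hGC
      rw [hxd] at this
      exact eq_inv_of_mul_eq_one_right this.symm
    have hXd : X.det ≠ 0 := by rw [hXdet]; exact inv_ne_zero hl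
    have hu := Ne.isUnit hXd
    obtain ⟨Ys, h1, h2, h3, hgood'⟩ := famLemma h4 p X X⁻¹ ⟨l0, Or.inl ⟨k, hXk⟩⟩ hXn hXd (fun c hc => by
      have hc0 : c ≠ 0 := fun e => by
        have := congrArg Matrix.det hc
        rw [e, zero_smul, det_nonsing_inv, det_zero, Ring.inverse_eq_inv', inv_eq_zero] at this
        exact hXd this
      refine hXn c⁻¹ ?_
      have := congrArg (X * ·) hc
      simp only [mul_nonsing_inv _ hu, Matrix.mul_smul, Matrix.mul_one] at this
      rw [eq_comm, ← inv_smul_smul₀ hc0 (X : Matrix _ _ F)]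
      rw [← this]) (by
      rw [det_nonsing_inv, Ring.inverse_eq_inv', hXdet, inv_inv, inv_pow]
      rw [show l0 ^ (p + 1 + 3) = l0 ^ (p + 3) * l0 by ring] at hl0
      exact eq_inv_of_mul_eq_one_right hl0)
    have hnc : NC l0 (X :: Ys) := fun w hw =>
      hgood'.1 hXr l0 w fun y hy => hw y (List.mem_cons_of_mem _ hy)
    obtain ⟨Us, hUl, hUsc, hUp, -⟩ := exists_uppers hl hGC (Ys := X :: Ys)
      (List.forall_mem_cons.2 ⟨GC.refl X, fun y hy => (h2 y hy).gc⟩) hnc 0
    refine ⟨Us, by rw [hUl, List.length_cons, h1], hUsc, ?_⟩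
    rw [hUp, List.prod_cons, h3, mul_nonsing_inv _ hu, List.length_cons, h1,
      show l0 ^ (p + 3 + 1) = 1 by rw [← hl0], ← one_bl]
  push Not at hgood
  -- the kernel lies in the image, which is two dimensional
  set K := LinearMap.ker N.mulVecLin with hK
  set I := LinearMap.range N.mulVecLin with hI
  have hI2 : 2 ≤ Module.finrank F I := by
    by_contra hlt
    obtain ⟨u, hu⟩ : ∃ u, I ≤ span F ({u} : Set (Fin (p + 1 + 3) → F)) := by
      by_cases hbot : I = ⊥
      · exact ⟨0, by rw [hbot]; exact bot_le⟩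
      obtain ⟨u, hu, hu0⟩ := Submodule.exists_mem_ne_zero_of_ne_bot hbot
      refine ⟨u, le_of_eq (Submodule.eq_of_le_of_finrank_le ((span_singleton_le_iff_mem _ _).2 hu) ?_).symm⟩
      rw [finrank_span_singleton hu0]
      omega
    exact hr l0 (R1.of_image fun w => hu ⟨w, rfl⟩)
  have hplane : ∀ v, N *ᵥ v = 0 → v ≠ 0 → Module.finrank F I = 2 ∧ v ∈ I := fun v hv hv0 => by
    obtain ⟨z, hz⟩ := hgood v hv0 hv
    have hle : I ≤ span F ({v, z} : Set (Fin (p + 1 + 3) → F)) := by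
      rintro _ ⟨w, rfl⟩; exact hz w
    have h6 := Submodule.finrank_mono hle
    have h7 := SLComm.finrank_pair_le (K := F) v z
    have heq := Submodule.eq_of_le_of_finrank_le hle (le_trans h7 hI2)
    exact ⟨le_antisymm (le_trans h6 h7) hI2, heq ▸ subset_span (by simp)⟩
  have hKI : K ≤ I := fun w hw => by
    by_cases hw0 : w = 0
    · exact hw0 ▸ zero_mem _
    · exact (hplane w hw hw0).2
  obtain ⟨v0, hv0, hNv0⟩ := Matrix.exists_mulVec_eq_zero_iff.2 (det_pow_zero (X := N) hk)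
  obtain ⟨hI', -⟩ := hplane v0 hNv0 hv0
  have h8 := N.mulVecLin.finrank_range_add_finrank_ker
  rw [Module.finrank_fin_fun, ← hI, ← hK, hI'] at h8
  have h9 := Submodule.finrank_mono hKI
  rw [hI'] at h9
  obtain rfl : p = 0 := by omega
  have hKeq : K = I := Submodule.eq_of_le_of_finrank_le hKI (by omega)
  have hsq : ∀ w, N *ᵥ (N *ᵥ w) = 0 := fun w => by
    have : N *ᵥ w ∈ K := hKeq ▸ (⟨w, rfl⟩ : N *ᵥ w ∈ I)
    exact this
  obtain ⟨w1, hw1, hw1n⟩ := exists_notMem_span (S := I) hI2 (0 : Fin (0 + 1 + 3) → F)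
  obtain ⟨w2, hw2, hw2n⟩ := exists_notMem_span (S := I) hI2 w1
  obtain ⟨c1, rfl⟩ := hw1
  obtain ⟨c2, rfl⟩ := hw2
  exact n2_prd hk hxd (c1 := c1) (c2 := c2)
    (SLComm.indep_pair (fun e => hw1n ((show N.mulVecLin c1 = 0 from e).symm ▸ zero_mem _)) hw2n) hsq

end Cfsg.Agent.CovNum
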