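import Cfsg.Agent.Lib.CovNum.Forms

/-!
# Covering number of `PSL(n, q)`: the degenerate matrices with an eigenvalue

* `famLemma` : products of `n` conjugates of a member of `Fam` reach every nonscalar matrix, with control
  of common eigenvectors.
-/

set_option autoImplicit false
set_option linter.unusedSectionVars false

namespace Cfsg.Agent.CovNum

open Matrix Submodule

variable {F : Type*} [Field F] {n m : ℕ}

/-- Control of the common eigenvectors. -/
def Good (x G : Matrix (Fin n) (Fin n) F) (l : List (Matrix (Fin n) (Fin n) F)) : Prop :=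
  ((∀ a : F, ¬ R1 a x) → ∀ μ : F, NC μ l) ∧
    ∀ a : F, R1 a x → (x.det ≠ a ^ n ∨ ¬ R1 (a ^ n) G) → NC a l

/-- The statement in dimension `n`. -/
def FS (F : Type*) [Field F] (n : ℕ) : Prop :=
  ∀ x G : Matrix (Fin n) (Fin n) F, Fam x → (∀ c : F, x ≠ c • 1) → x.det ≠ 0 → (∀ c : F, G ≠ c • 1) →
    G.det = x.det ^ n → ∃ l : List (Matrix (Fin n) (Fin n) F),
      l.length = n ∧ (∀ y ∈ l, SC x y) ∧ l.prod = G ∧ Good x G l

theorem nc_of_irr {R : Matrix (Fin 2) (Fin 2) F} (hR : Irr2 R) {l : List (Matrix (Fin 2) (Fin 2) F)}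
    (hl : l.prod = R) (μ : F) : NC μ l := by
  intro w hw
  have : ∀ l : List (Matrix (Fin 2) (Fin 2) F), (∀ y ∈ l, y *ᵥ w = μ • w) →
      l.prod *ᵥ w = μ ^ l.length • w := by
    intro l
    induction l with
    | nil => simp
    | cons y l ih =>
      intro h
      rw [List.prod_cons, ← mulVec_mulVec, ih fun z hz => h z (List.mem_cons_of_mem _ hz), mulVec_smul,
        h y List.mem_cons_self, smul_smul, List.length_cons, pow_succ]
  exact no_eigvec_of_irr hR (c := μ ^ l.length) (by rw [← hl]; exact this l hw)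

theorem root_of_nil2 {X : Matrix (Fin 2) (Fin 2) F} {ρ : F} (h : (X - ρ • 1).det = 0) :
    ρ ^ 2 - X.trace * ρ + X.det = 0 := by
  simp [Matrix.det_fin_two] at h
  simp [Matrix.det_fin_two, Matrix.trace_fin_two]
  linear_combination h

theorem det_pow_zero {X : Matrix (Fin (n + 1)) (Fin (n + 1)) F} {k : ℕ} (h : X ^ k = 0) : X.det = 0 := by
  have := congrArg Matrix.det h
  rw [det_pow, det_zero] at this
  exact (pow_eq_zero_iff'.1 this).1

theorem sc_map_conj {x g : Matrix (Fin n) (Fin n) F} (hg : g.det = 1) {l : List (Matrix (Fin n) (Fin n) F)}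
    (hl : ∀ y ∈ l, SC x y) : ∀ y ∈ l.map (fun y => g * y * g⁻¹), SC x y := by
  intro y hy
  obtain ⟨z, hz, rfl⟩ := List.mem_map.1 hy
  exact (hl z hz).trans ⟨g, hg, by rw [nonsing_inv_mul_cancel_right _ _ (by rw [hg]; exact isUnit_one)]⟩

/-- Three reflection-like matrices. -/
theorem three_refl {a e g : F} (hg : g ≠ 0) (hne : e ≠ 1 ∨ g ≠ 1) :
    ∃ (P : Matrix (Fin 3) (Fin 3) F) (Ms : List (Matrix (Fin 3) (Fin 3) F)), Ms.length = 3 ∧
      (∀ M ∈ Ms, R1 a (a • M) ∧ M.det = e ∧ (a ≠ 0 → ∀ c : F, a • M ≠ c • 1)) ∧ Ms.prod = P ∧ R1 g P ∧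
      P.det = e ^ 3 ∧ (∀ c : F, P ≠ c • 1) ∧
      ∀ w : Fin 3 → F, (∀ M ∈ Ms, M *ᵥ w = w) → w = 0 := by
  obtain ⟨n1, n2, n3, hn1, hn2, hn3, hi1, hi2, hi3, P, hP, hP1, hPn⟩ :
      ∃ n1 n2 n3 : Fin 3 → F, n1 ≠ 0 ∧ n2 ≠ 0 ∧ n3 ≠ 0 ∧ n1 0 = e - 1 ∧ n2 1 = e - 1 ∧ n3 2 = e - 1 ∧
        ∃ P : Matrix (Fin 3) (Fin 3) F, P = (1 + vecMulVec n3 (Pi.single 2 1)) *
          ((1 + vecMulVec n2 (Pi.single 1 1)) * (1 + vecMulVec n1 (Pi.single 0 1))) ∧ R1 g P ∧
          ∀ c : F, P ≠ c • 1 := by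
    by_cases hk : e = g
    · subst hk
      have he1 : e ≠ 1 := hne.elim id id
      refine ⟨![e - 1, 1, 0], ![0, e - 1, 0], ![0, 0, e - 1], ?_, ?_, ?_, rfl, rfl, rfl, _, rfl,
        ⟨Pi.single 1 e, Pi.single 0 1, ?_⟩, fun c hc => ?_⟩
      · exact fun h => one_ne_zero (congrFun h 1 : (1 : F) = 0)
      · exact fun h => sub_ne_zero.2 he1 (congrFun h 1)
      · exact fun h => sub_ne_zero.2 he1 (congrFun h 2)
      · ext i j
        simp only [Matrix.mul_apply, Fin.sum_univ_three, Matrix.add_apply, Matrix.sub_apply, Matrix.smul_apply,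
          vecMulVec_apply, Matrix.one_apply, Pi.single_apply]
        fin_cases i <;> fin_cases j <;> simp
      · have := congrFun (congrFun hc 1) 0
        simp only [Matrix.mul_apply, Fin.sum_univ_three, Matrix.add_apply, Matrix.smul_apply,
          vecMulVec_apply, Matrix.one_apply, Pi.single_apply] at this
        simp at this
        exact hg this
    · obtain ⟨s, hs⟩ : ∃ s, s = (e - g) / g := ⟨_, rfl⟩
      have he : e = g + g * s := by rw [hs]; field_simp; ring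
      have hs0 : s ≠ 0 := fun h => hk (by rw [he, h]; ring)
      refine ⟨![e - 1, s, s], ![g * s, e - 1, s], ![g * s, g * s, e - 1], ?_, ?_, ?_, rfl, rfl, rfl, _, rfl,
        ⟨fun _ => 1, ![g * s * (1 + s) ^ 2, g * s * (1 + s), g * s], ?_⟩, fun c hc => ?_⟩
      · exact fun h => hs0 (congrFun h 1)
      · exact fun h => hs0 (congrFun h 2)
      · exact fun h => mul_ne_zero hg hs0 (congrFun h 0)
      · ext i j
        simp only [Matrix.mul_apply, Fin.sum_univ_three, Matrix.add_apply, Matrix.sub_apply, Matrix.smul_apply,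
          vecMulVec_apply, Matrix.one_apply, Pi.single_apply]
        fin_cases i <;> fin_cases j <;> simp <;> (try rw [he]) <;> ring
      · have := congrFun (congrFun hc 0) 2
        simp only [Matrix.mul_apply, Fin.sum_univ_three, Matrix.add_apply, Matrix.smul_apply,
          vecMulVec_apply, Matrix.one_apply, Pi.single_apply] at this
        simp at this
        exact this.elim hg hs0
  have hdet : ∀ (v : Fin 3 → F) (i : Fin 3), v i = e - 1 → (1 + vecMulVec v (Pi.single i 1)).det = e := by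
    intro v i hv
    rw [vecMulVec_eq Unit, det_one_add_replicateCol_mul_replicateRow, single_dotProduct, one_mul, hv]
    ring
  have hprop : ∀ (v : Fin 3 → F) (i : Fin 3), v ≠ 0 → v i = e - 1 →
      R1 a (a • (1 + vecMulVec v (Pi.single i 1))) ∧ (1 + vecMulVec v (Pi.single i 1)).det = e ∧
        (a ≠ 0 → ∀ c : F, a • (1 + vecMulVec v (Pi.single i 1)) ≠ c • 1) := by
    intro v i hv hvi
    refine ⟨⟨a • v, Pi.single i 1, by rw [smul_add, add_sub_cancel_left, Matrix.smul_vecMulVec]⟩, hdet v i hvi,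
      fun ha c hc => hv ?_⟩
    obtain ⟨j, hj⟩ : ∃ j : Fin 3, j ≠ i := exists_ne i
    have h1 := congrArg (· *ᵥ Pi.single j 1) hc
    simp only [smul_mulVec, add_mulVec, one_mulVec, vecMulVec_mulVec', single_dotProduct, one_mul,
      Pi.single_eq_of_ne hj.symm, zero_smul, add_zero] at h1
    have hca : a = c := by simpa using congrFun h1 j
    subst hca
    have h2 := congrArg (· *ᵥ Pi.single i 1) hc
    simp only [smul_mulVec, add_mulVec, one_mulVec, vecMulVec_mulVec', single_dotProduct, one_mul,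
      Pi.single_eq_same, one_smul, smul_add, add_eq_left] at h2
    exact (smul_eq_zero.1 h2).resolve_left ha
  refine ⟨P, [1 + vecMulVec n3 (Pi.single 2 1), 1 + vecMulVec n2 (Pi.single 1 1), 1 + vecMulVec n1 (Pi.single 0 1)],
    rfl, ?_, by simp [hP], hP1, ?_, hPn, fun w hw => ?_⟩
  · simp only [List.forall_mem_cons, List.not_mem_nil, false_imp_iff, implies_true, and_true]
    exact ⟨hprop n3 2 hn3 hi3, hprop n2 1 hn2 hi2, hprop n1 0 hn1 hi1⟩
  · rw [hP, det_mul, det_mul, hdet n3 2 hi3, hdet n2 1 hi2, hdet n1 0 hi1]; ring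
  · have key : ∀ (v : Fin 3 → F) (i : Fin 3), v ≠ 0 → (1 + vecMulVec v (Pi.single i 1)) *ᵥ w = w → w i = 0 := by
      intro v i hv h
      rw [add_mulVec, one_mulVec, vecMulVec_mulVec', single_dotProduct, one_mul, add_eq_left] at h
      exact (smul_eq_zero.1 h).resolve_right hv
    simp only [List.forall_mem_cons, List.not_mem_nil, false_imp_iff, implies_true, and_true] at hw
    ext i
    fin_cases i
    · exact key n1 0 hn1 hw.2.2
    · exact key n2 1 hn2 hw.2.1
    · exact key n3 2 hn3 hw.1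

theorem fix_scalar {G : Matrix (Fin (m + 4)) (Fin (m + 4)) F} (hGd : G.det ≠ 0) {β σ : F} (hβ : β ≠ 0)
    {a b : Fin (m + 3) → F} (ha : a ≠ 0) {D Y : Matrix (Fin (m + 3)) (Fin (m + 3)) F} (hY : Y.det ≠ 0)
    (hGD : SC G (bl β a b D)) (hns : ¬ R1 σ (Y⁻¹ * schur β a b D)) :
    ∃ (b : Fin (m + 3) → F) (D : Matrix (Fin (m + 3)) (Fin (m + 3)) F), SC G (bl β a b D) ∧
      ¬ R1 σ (Y⁻¹ * schur β a b D) ∧ ∀ c : F, Y⁻¹ * schur β a b D ≠ c • 1 := by
  by_cases h : ∀ c : F, Y⁻¹ * schur β a b D ≠ c • 1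
  · exact ⟨b, D, hGD, hns, h⟩
  push Not at h
  obtain ⟨t, ht⟩ := h
  have htσ : t ≠ σ := fun e => hns ⟨0, 0, by
    rw [ht, e, sub_self]; ext i j; simp [vecMulVec_apply]⟩
  have hSd := schur_det_ne hβ hGD.gc hGd
  obtain ⟨f, hf0, hf⟩ := exists_orth (by omega : 2 ≤ m + 3) ((schur β a b D)⁻¹ *ᵥ a)
  obtain ⟨b', D', hsc, he⟩ := form_shear hβ hSd (f := f) (by rw [dotProduct_comm]; exact hf)
  have e1 : Y⁻¹ * schur β a b' D' = t • 1 - vecMulVec (Y⁻¹ *ᵥ a) f := by
    rw [he, Matrix.mul_sub, ht, mul_vecMulVec]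
  refine ⟨b', D', hGD.trans hsc, ?_, fun c hc => ?_⟩
  · rintro ⟨u, g, hug⟩
    obtain ⟨w, hw, hwn⟩ : ∃ w : Fin (m + 3) → F, w ≠ 0 ∧ f ⬝ᵥ w = 0 ∧ g ⬝ᵥ w = 0 := by
      obtain ⟨w, hw0, hw⟩ := exists_annih (S := span F ({f, g} : Set (Fin (m + 3) → F))) (fun h => by
        have h1 := SLComm.finrank_pair_le (K := F) f g
        rw [h, finrank_top, Module.finrank_fin_fun] at h1
        omega)
      exact ⟨w, hw0, by rw [dotProduct_comm]; exact hw f (subset_span (by simp)), by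
        rw [dotProduct_comm]; exact hw g (subset_span (by simp))⟩
    have := congrArg (· *ᵥ w) hug
    rw [e1] at this
    simp only [sub_mulVec, smul_mulVec, one_mulVec, vecMulVec_mulVec', hwn.1, hwn.2, zero_smul, sub_zero,
      ← sub_smul, smul_eq_zero] at this
    exact this.elim (sub_ne_zero.2 htσ) hw
  · rw [e1, sub_eq_iff_eq_add, ← sub_eq_iff_eq_add', ← sub_smul] at hc
    have h1 := vecMulVec_eq_smul (by omega : 2 ≤ m + 3)
      (Y := (1 : Matrix (Fin (m + 3)) (Fin (m + 3)) F)) (by simp) hc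
    rw [h1, zero_smul] at hc
    rcases vecMulVec_eq_zero' hc.symm with h3 | h3
    · refine ha (mulVec_inj (M := Y⁻¹) ?_ (h3.trans (mulVec_zero _).symm))
      rw [det_nonsing_inv]; simpa using hY
    · exact hf0 h3

theorem exists_lower_good {x : Matrix (Fin (m + 4)) (Fin (m + 4)) F} (hx : ∀ c : F, x ≠ c • 1)
    (hr : ∀ a : F, ¬ R1 a x) {lam : F} (h : ∃ v : Fin (m + 4) → F, v ≠ 0 ∧ x *ᵥ v = lam • v) :
    ∃ (c : Fin (m + 3) → F) (Y : Matrix (Fin (m + 3)) (Fin (m + 3)) F), c ≠ 0 ∧ SC x (bl lam c 0 Y) ∧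
      ∀ s : F, ∃ w, (Y - s • 1) *ᵥ w ∉ span F ({c} : Set (Fin (m + 3) → F)) := by
  obtain ⟨c, Y, hc, hL⟩ := exists_lower hx h
  by_cases hgood : ∀ s : F, ∃ w, (Y - s • 1) *ᵥ w ∉ span F ({c} : Set (Fin (m + 3) → F))
  · exact ⟨c, Y, hc, hL, hgood⟩
  push Not at hgood
  obtain ⟨s, hs⟩ := hgood
  obtain ⟨h', hh⟩ := exists_vecMulVec hs
  have hY : Y = s • 1 + vecMulVec c h' := by rw [← hh, add_sub_cancel]
  have hh0 : h' ≠ 0 := by
    rintro rfl
    refine hr s (R1.gc (x := bl lam c 0 Y) ⟨Fin.cons (lam - s) c, Pi.single 0 1, ?_⟩ hL.symm.gc)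
    ext i j
    induction i using Fin.cases <;> induction j using Fin.cases <;>
      simp [hY, vecMulVec_apply, Fin.succ_ne_zero, Matrix.one_apply, (Fin.succ_ne_zero _).symm]
  have hsl : s ≠ lam := by
    rintro rfl
    refine hr s (R1.gc (x := bl s c 0 Y) ⟨Fin.cons 0 c, Fin.cons 1 h', ?_⟩ hL.symm.gc)
    ext i j
    induction i using Fin.cases <;> induction j using Fin.cases <;>
      simp [hY, vecMulVec_apply, Fin.succ_ne_zero, Matrix.one_apply, (Fin.succ_ne_zero _).symm]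
  obtain ⟨z, hz, hzc⟩ := exists_orth_notMem (by omega : 3 ≤ m + 3) h' c
  have hL' : SC x (bl lam (c + (s - lam) • z) 0 Y) := by
    refine hL.trans ?_
    have := sc_lshear lam c z Y
    rwa [show Y *ᵥ z - lam • z = (s - lam) • z by
      rw [hY, add_mulVec, smul_mulVec, one_mulVec, vecMulVec_mulVec', hz, zero_smul, add_zero, sub_smul]] at this
  have hc' : c + (s - lam) • z ∉ span F ({c} : Set (Fin (m + 3) → F)) := fun hm => hzc (by
    have h1 := sub_mem hm (mem_span_singleton_self c)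
    rw [add_sub_cancel_left] at h1
    exact (Submodule.smul_mem_iff _ (sub_ne_zero.2 hsl)).1 h1)
  refine ⟨_, Y, fun e => hc' (by rw [e]; exact zero_mem _), hL', ?_⟩
  by_contra! hcon
  obtain ⟨s', hs'⟩ := hcon
  obtain ⟨g', hg'⟩ := exists_vecMulVec hs'
  obtain ⟨w, hw0, hw⟩ := exists_annih (S := span F ({h', g'} : Set (Fin (m + 3) → F))) (fun e => by
    have h1 := SLComm.finrank_pair_le (K := F) h' g'
    rw [e, finrank_top, Module.finrank_fin_fun] at h1
    omega)
  have e1 := congrArg (· *ᵥ w) hh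
  have e2 := congrArg (· *ᵥ w) hg'
  have hw1 : h' ⬝ᵥ w = 0 := by rw [dotProduct_comm]; exact hw h' (subset_span (by simp))
  have hw2 : g' ⬝ᵥ w = 0 := by rw [dotProduct_comm]; exact hw g' (subset_span (by simp))
  simp only [sub_mulVec, smul_mulVec, one_mulVec, vecMulVec_mulVec', hw1, hw2, zero_smul, sub_eq_zero] at e1 e2
  have hss : s' = s := by
    have h1 : (s' - s) • w = 0 := by rw [sub_smul, ← e1, ← e2, sub_self]
    exact sub_eq_zero.1 ((smul_eq_zero.1 h1).resolve_right hw0)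
  subst hss
  rw [hh] at hg'
  obtain ⟨w2, hw2', -⟩ := exists_sep (S := (⊥ : Submodule F (Fin (m + 3) → F))) (v := h') (by simpa using hh0)
  have e3 := congrArg (· *ᵥ w2) hg'
  simp only [vecMulVec_mulVec', dotProduct_comm h' w2, hw2', one_smul] at e3
  have hk : g' ⬝ᵥ w2 ≠ 0 := fun e => hc (by rw [e3, e, zero_smul])
  exact hc' (mem_span_singleton.2 ⟨(g' ⬝ᵥ w2)⁻¹, by
    conv_lhs => rw [e3]
    rw [smul_smul, inv_mul_cancel₀ hk, one_smul]⟩)

variable [Fintype F]

theorem fam_three (h4 : 4 ≤ Fintype.card F) : FS F 3 := by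
  intro x G hfam hx hxd hG hdet
  have hGd : G.det ≠ 0 := by rw [hdet]; exact pow_ne_zero _ hxd
  by_cases hr : ∀ a : F, ¬ R1 a x
  · -- a single eigenvalue
    obtain ⟨l0, hnil | ⟨nu, hne, h2⟩⟩ := hfam
    swap
    · exfalso
      refine hr nu ?_
      by_contra hns
      have hK : 2 ≤ Module.finrank F (LinearMap.range (x - nu • 1).mulVecLin) := by
        by_contra hlt
        obtain ⟨u, hu⟩ : ∃ u, LinearMap.range (x - nu • 1).mulVecLin ≤ span F ({u} : Set (Fin 3 → F)) := by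
          by_cases hbot : LinearMap.range (x - nu • 1).mulVecLin = ⊥
          · exact ⟨0, by rw [hbot]; exact bot_le⟩
          obtain ⟨u, hu, hu0⟩ := Submodule.exists_mem_ne_zero_of_ne_bot hbot
          refine ⟨u, le_of_eq (Submodule.eq_of_le_of_finrank_le ((span_singleton_le_iff_mem _ _).2 hu) ?_).symm⟩
          rw [finrank_span_singleton hu0]
          omega
        exact hns (R1.of_image fun w => hu ⟨w, rfl⟩)
      have hle : LinearMap.range (x - nu • 1).mulVecLin ≤ LinearMap.ker (x - l0 • 1).mulVecLin := by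
        rintro _ ⟨w, rfl⟩
        show (x - l0 • 1) *ᵥ ((x - nu • 1) *ᵥ w) = 0
        rw [mulVec_mulVec, h2, zero_mulVec]
      have h3 := (x - l0 • 1).mulVecLin.finrank_range_add_finrank_ker
      rw [Module.finrank_fin_fun] at h3
      have h5 := Submodule.finrank_mono hle
      obtain ⟨u, hu⟩ : ∃ u, LinearMap.range (x - l0 • 1).mulVecLin ≤ span F ({u} : Set (Fin 3 → F)) := by
        by_cases hbot : LinearMap.range (x - l0 • 1).mulVecLin = ⊥
        · exact ⟨0, by rw [hbot]; exact bot_le⟩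
        obtain ⟨u, hu, hu0⟩ := Submodule.exists_mem_ne_zero_of_ne_bot hbot
        refine ⟨u, le_of_eq (Submodule.eq_of_le_of_finrank_le ((span_singleton_le_iff_mem _ _).2 hu) ?_).symm⟩
        rw [finrank_span_singleton hu0]
        omega
      exact hr l0 (R1.of_image fun w => hu ⟨w, rfl⟩)
    obtain ⟨k, hk⟩ := hnil
    obtain ⟨v, hv, he⟩ : ∃ v : Fin 3 → F, v ≠ 0 ∧ x *ᵥ v = l0 • v := by
      obtain ⟨v, hv, he⟩ := Matrix.exists_mulVec_eq_zero_iff.2 (det_pow_zero hk)
      exact ⟨v, hv, by rwa [sub_mulVec, smul_mulVec, one_mulVec, sub_eq_zero] at he⟩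
    have hl0 : l0 ≠ 0 := fun e => by
      subst e
      exact hxd (Matrix.exists_mulVec_eq_zero_iff.1 ⟨v, hv, by rw [he, zero_smul]⟩)
    obtain ⟨b0, X, hX, hXs, -⟩ := quot_spec x hv he
    have hXn := quot_nonscalar hr hXs
    have hXd : X.det ≠ 0 := fun e => hxd (by rw [det_upper hX, e, mul_zero])
    have hρ := root_of_nil2 (det_pow_zero (nil_quot hX hk))
    obtain ⟨c, Y, hc, hL⟩ := exists_lower hx ⟨v, hv, he⟩
    have hYd : Y.det = X.det := mul_left_cancel₀ hl0 ((det_lower hL.gc).symm.trans (det_upper hX))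
    have hxT : (xᵀ - l0 • 1) ^ k = 0 := by
      rw [show xᵀ - l0 • 1 = (x - l0 • 1)ᵀ by simp, ← Matrix.transpose_pow, hk, transpose_zero]
    have hN : (Yᵀ - l0 • 1) ^ k = 0 := nil_quot (b := c) (lam := l0) (by
      have := hL.gc.transpose
      rwa [bl_transpose] at this) hxT
    set N := Y - l0 • 1 with hNd
    have hNk : N ^ k = 0 := by
      have : (Nᵀ) ^ k = 0 := by rw [hNd]; simpa using hN
      rw [← Matrix.transpose_pow] at this
      simpa using congrArg Matrix.transpose this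
    have hNdet : N.det = 0 := det_pow_zero hNk
    have hN2 : ∀ z, N *ᵥ (N *ᵥ z) = 0 := fun z => by
      have hc2 : ∀ j z, (N ^ (j + 1)) *ᵥ z = N.trace ^ j • (N *ᵥ z) := by
        intro j z
        induction j with
        | zero => simp
        | succ j ih =>
          rw [pow_succ', ← mulVec_mulVec, ih, mulVec_smul, cayley_two N z, hNdet, zero_smul, sub_zero, smul_smul,
            pow_succ]
      rw [cayley_two N z, hNdet, zero_smul, sub_zero]
      rcases Nat.eq_zero_or_pos k with rfl | hk0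
      · rw [pow_zero] at hNk
        have h1 := congrArg (fun M : Matrix (Fin 2) (Fin 2) F => M *ᵥ z) hNk
        simp only [one_mulVec, zero_mulVec] at h1
        simp [h1]
      obtain ⟨j, rfl⟩ : ∃ j, k = j + 1 := ⟨k - 1, by omega⟩
      have h1 := hc2 j z
      rw [hNk, zero_mulVec, eq_comm, smul_eq_zero] at h1
      rcases h1 with h1 | h1
      · rw [(pow_eq_zero_iff'.1 h1).1, zero_smul]
      · rw [h1, smul_zero]
    have hYc : Y *ᵥ c ∉ span F ({c} : Set (Fin 2 → F)) := by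
      intro hm
      obtain ⟨ρ', hρ'⟩ := mem_span_singleton.1 hm
      have hNc : N *ᵥ c = (ρ' - l0) • c := by rw [hNd, sub_mulVec, smul_mulVec, one_mulVec, ← hρ', sub_smul]
      have hNc0 : N *ᵥ c = 0 := by
        have := hN2 c
        rw [hNc, mulVec_smul, hNc, smul_smul, smul_eq_zero] at this
        rw [hNc]
        rcases this with h | h
        · rw [mul_self_eq_zero.1 h, zero_smul]
        · exact absurd h hc
      have hN0 : N ≠ 0 := fun e => by
        refine hr l0 (R1.gc (x := bl l0 c 0 Y) ⟨Fin.cons 0 c, Pi.single 0 1, ?_⟩ hL.symm.gc)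
        rw [hNd, sub_eq_zero] at e
        ext i j
        induction i using Fin.cases <;> induction j using Fin.cases <;>
          simp [e, vecMulVec_apply, Fin.succ_ne_zero, Matrix.one_apply, (Fin.succ_ne_zero _).symm]
      have hker : ∀ z, N *ᵥ z = 0 → z ∈ span F ({c} : Set (Fin 2 → F)) := fun z hz => by
        by_contra hzc
        refine hN0 (Matrix.ext_of_mulVec_single fun i => ?_)
        obtain ⟨y, hy⟩ : ∃ y, (Matrix.of fun i j => ![c, z] j i) *ᵥ y = Pi.single i 1 :=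
          ⟨(Matrix.of fun i j => ![c, z] j i)⁻¹ *ᵥ Pi.single i 1, by
            rw [mulVec_mulVec, mul_nonsing_inv _ (Ne.isUnit (det_pair hc hzc)), one_mulVec]⟩
        have : (Pi.single i 1 : Fin 2 → F) = y 0 • c + y 1 • z := by
          rw [← hy]; ext j; simp [Matrix.mulVec, dotProduct, Fin.sum_univ_two, mul_comm (y 0), mul_comm (y 1)]
        rw [this, mulVec_add, mulVec_smul, mulVec_smul, hNc0, hz, smul_zero, smul_zero, add_zero, zero_mulVec]
      refine hr l0 ((R1.of_image (u := Fin.cons 0 c) fun w => ?_ : R1 l0 (bl l0 c 0 Y)).gc hL.symm.gc)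
      obtain ⟨k', hk'⟩ := mem_span_singleton.1 (hker _ (hN2 (Fin.tail w)))
      refine mem_span_singleton.2 ⟨w 0 + k', ?_⟩
      conv_rhs => rw [← Fin.cons_self_tail w, sub_mulVec, bl_mulVec, smul_mulVec, one_mulVec]
      have h3 : Y *ᵥ Fin.tail w = k' • c + l0 • Fin.tail w := by
        rw [hk', hNd, sub_mulVec, smul_mulVec, one_mulVec, sub_add_cancel]
      rw [h3]
      ext i
      induction i using Fin.cases with
      | zero => simp
      | succ i => simp [Fin.tail]; ring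
    obtain ⟨B, hB⟩ := exists_irred_trace (D := X.det ^ 2) (pow_ne_zero _ hXd)
    have hβ : l0 * l0 ^ 2 ≠ 0 := mul_ne_zero hl0 (pow_ne_zero _ hl0)
    obtain ⟨b', D', hGD, htr⟩ := exists_R3' hG hGd hβ (smul_ne_zero (pow_ne_zero 2 hl0) hc)
      (Y := Y) (hYd ▸ hXd) (fun hm => hYc (by
        rw [mulVec_smul] at hm
        obtain ⟨q, hq⟩ := mem_span_singleton.1 hm
        exact mem_span_singleton.2 ⟨q, smul_right_injective _ (pow_ne_zero 2 hl0) (by
          show l0 ^ 2 • q • c = l0 ^ 2 • (Y *ᵥ c)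
          rw [← hq, smul_comm])⟩)) B
    have hSd := schur_det hβ hGD.gc
    rw [hdet, det_upper hX] at hSd
    have hRd : (Y⁻¹ * schur (l0 * l0 ^ 2) (l0 ^ 2 • c) b' D').det = X.det ^ 2 := by
      rw [det_mul, det_nonsing_inv, hYd, Ring.inverse_eq_inv']
      field_simp at hSd ⊢
      linear_combination hSd
    have hirr : Irr2 (Y⁻¹ * schur (l0 * l0 ^ 2) (l0 ^ 2 • c) b' D') := fun z => by rw [htr, hRd]; exact hB z
    obtain ⟨y, y', hy, hy', hyy⟩ := two_range hXn hXd hρ hirr hRd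
    have hnc := nc_of_irr hirr (l := [y, y']) (by simpa using hyy)
    obtain ⟨l, hl1, hl2, hl3, hl4⟩ := glue hl0 hl0 hX hL (Ys := [y, y']) (by simp [hy, hy']) (hnc l0) hGD
      (by simp) (by simp) (by
        simp only [List.prod_cons, List.prod_nil, Matrix.mul_one]
        rw [hyy, mul_nonsing_inv_cancel_left _ _ (Ne.isUnit (hYd ▸ hXd))])
    exact ⟨l, by simpa using hl1, hl2, hl3, fun _ μ => hl4 μ (hnc μ) hc, fun a ha => absurd ha (hr a)⟩
  push Not at hr
  obtain ⟨a, ha⟩ := hr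
  have hgoodr : ∀ l : List (Matrix (Fin 3) (Fin 3) F), (∀ (_ : x.det ≠ a ^ 3 ∨ ¬ R1 (a ^ 3) G), NC a l) →
      Good x G l := fun l hl => ⟨fun h => absurd ha (h a), fun a' ha' hcond => by
    obtain rfl := r1_unique (m := 0) ha ha'
    exact hl hcond⟩
  obtain ⟨u, f, huf⟩ := ha
  have hu0 : u ≠ 0 := fun e => hx a (sub_eq_zero.1 (by rw [huf, e]; ext i j; simp [vecMulVec_apply]))
  obtain ⟨v, hfv, hvu⟩ := exists_orth_notMem (by omega : 3 ≤ 3) f u
  have hv : v ≠ 0 := fun e => hvu (by rw [e]; exact zero_mem _)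
  have he : x *ᵥ v = a • v := by rw [R1.apply huf v, hfv, zero_smul, add_zero]
  have ha0 : a ≠ 0 := fun e => hxd (Matrix.exists_mulVec_eq_zero_iff.1 ⟨v, hv, by rw [he, e, zero_smul]⟩)
  by_cases hkr : ∃ v : Fin 3 → F, v ≠ 0 ∧ G *ᵥ v ∉ span F ({v} : Set (Fin 3 → F)) ∧
      G *ᵥ (G *ᵥ v) ∉ span F ({v, G *ᵥ v} : Set (Fin 3 → F))
  · obtain ⟨v', hv', hne', hk'⟩ := hkr
    obtain ⟨b0, X, hX, hXs, hX1⟩ := quot_spec x hv he
    have hXn : ∀ c : F, X ≠ c • 1 := fun c hc => by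
      obtain rfl := r1_unique (m := 0) ⟨u, f, huf⟩ (R1.of_image (hXs c hc))
      obtain ⟨z, hz⟩ : ∃ z, f ⬝ᵥ z ≠ 0 := by
        by_contra! hz
        exact hx a (sub_eq_zero.1 (Matrix.ext_of_mulVec_single fun i => by
          rw [huf, vecMulVec_mulVec', hz, zero_smul, zero_mulVec]))
      obtain ⟨q, hq⟩ := mem_span_singleton.1 (hXs a hc z)
      rw [huf, vecMulVec_mulVec'] at hq
      have hq0 : q ≠ 0 := fun e => hu0 ((smul_eq_zero.1 (by rw [← hq, e, zero_smul] :
        (f ⬝ᵥ z) • u = 0)).resolve_left hz)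
      exact hvu (mem_span_singleton.2 ⟨q⁻¹ * (f ⬝ᵥ z), by
        rw [mul_smul, ← hq, smul_smul, inv_mul_cancel₀ hq0, one_smul]⟩)
    have hXd : X.det ≠ 0 := fun e => hxd (by rw [det_upper hX, e, mul_zero])
    have hρ : a ^ 2 - X.trace * a + X.det = 0 := root_of_nil2 (by
      obtain ⟨u', f', h'⟩ := hX1 a ⟨u, f, huf⟩
      rw [h', Matrix.det_fin_two]; simp [vecMulVec_apply]; ring)
    have hL := r1_lower (m := 0) hx ha0 huf
    set e0 : Fin 2 → F := Pi.single 0 1 with he0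
    set Y := a • 1 + (f ⬝ᵥ u) • vecMulVec e0 e0 with hYdef
    have hYd : Y.det = X.det := mul_left_cancel₀ ha0 ((det_lower hL.gc).symm.trans (det_upper hX))
    have he00 : e0 ≠ 0 := by simp [he0]
    have hYe : Y *ᵥ e0 = (a + f ⬝ᵥ u) • e0 := by
      rw [hYdef, add_mulVec, smul_mulVec, one_mulVec, smul_mulVec, vecMulVec_mulVec']
      simp [he0, add_smul]
    have hae : a + f ⬝ᵥ u ≠ 0 := fun e => he00 (mulVec_inj (hYd ▸ hXd) (by
      rw [hYe, e, zero_smul, mulVec_zero]))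
    have hβ : a * a ^ 2 ≠ 0 := mul_ne_zero ha0 (pow_ne_zero _ ha0)
    have hc0 : a ^ 2 • e0 ≠ 0 := smul_ne_zero (pow_ne_zero _ ha0) he00
    obtain ⟨b1, D1, hGD1, hS⟩ := exists_Gform_krylov hv' hne' hk' (a * a ^ 2) hc0
    obtain ⟨B, hB⟩ := exists_irred_trace (D := X.det ^ 2) (pow_ne_zero _ hXd)
    have hS1 := schur_det_ne hβ hGD1.gc hGd
    obtain ⟨b', D', hGD, htr, -⟩ := exists_R3 hβ hGD1 hGd (Y := Y) (fun hm => hS (by
      obtain ⟨q, hq⟩ := mem_span_singleton.1 hm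
      have h1 := congrArg (Y *ᵥ ·) hq
      simp only [mulVec_smul, mulVec_mulVec, mul_nonsing_inv _ (Ne.isUnit (hYd ▸ hXd : Y.det ≠ 0)),
        one_mulVec] at h1
      have hq0 : q ≠ 0 := fun e => hc0 (by rw [← h1, e, zero_smul])
      set S := schur (a * a ^ 2) (a ^ 2 • e0) b1 D1
      refine mem_span_singleton.2 ⟨q * (a + f ⬝ᵥ u), ?_⟩
      have h2 : Y⁻¹ *ᵥ (a ^ 2 • e0) = (a + f ⬝ᵥ u)⁻¹ • (a ^ 2 • e0) := by
        refine mulVec_inj (hYd ▸ hXd : Y.det ≠ 0) ?_
        rw [mulVec_mulVec, mul_nonsing_inv _ (Ne.isUnit (hYd ▸ hXd : Y.det ≠ 0)), one_mulVec, mulVec_smul,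
          mulVec_smul, hYe]
        simp only [smul_smul]
        congr 1
        field_simp
      rw [h2] at hq
      have h3 := congrArg (S *ᵥ ·) hq
      simp only [mulVec_smul, mulVec_mulVec, mul_nonsing_inv _ (Ne.isUnit hS1), one_mulVec] at h3
      rw [mulVec_smul, mul_comm, mul_smul, h3, smul_smul, mul_inv_cancel₀ hae, one_smul])) B
    have hSd := schur_det hβ hGD.gc
    rw [hdet, det_upper hX] at hSd
    have hRd : (Y⁻¹ * schur (a * a ^ 2) (a ^ 2 • e0) b' D').det = X.det ^ 2 := by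
      rw [det_mul, det_nonsing_inv, hYd, Ring.inverse_eq_inv']
      field_simp at hSd ⊢
      linear_combination hSd
    have hirr : Irr2 (Y⁻¹ * schur (a * a ^ 2) (a ^ 2 • e0) b' D') := fun z => by rw [htr, hRd]; exact hB z
    obtain ⟨y, y', hy, hy', hyy⟩ := two_range hXn hXd hρ hirr hRd
    have hnc := nc_of_irr hirr (l := [y, y']) (by simpa using hyy)
    obtain ⟨l, hl1, hl2, hl3, hl4⟩ := glue ha0 ha0 hX hL (Ys := [y, y']) (by simp [hy, hy']) (hnc a) hGD
      (by simp) (by simp) (by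
        simp only [List.prod_cons, List.prod_nil, Matrix.mul_one]
        rw [hyy, mul_nonsing_inv_cancel_left _ _ (Ne.isUnit (hYd ▸ hXd))])
    exact ⟨l, by simpa using hl1, hl2, hl3, hgoodr l fun _ => hl4 a (hnc a) he00⟩
  push Not at hkr
  obtain ⟨γ, hγ⟩ := r1_of_no_krylov hG hkr
  by_cases hplain : x.det = a ^ 3 ∧ R1 (a ^ 3) G
  · obtain ⟨l, h1, h2, h3⟩ := root_group_list (m := 0) h4 hx ha0 ⟨u, f, huf⟩ hplain.1 hplain.2 hdet
    exact ⟨l, h1, h2, h3, hgoodr l fun h => absurd h (by simp [hplain.1, hplain.2])⟩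
  have hg0 : γ ≠ 0 := by
    rintro rfl
    obtain ⟨u', f', h'⟩ := hγ
    rw [zero_smul, sub_zero] at h'
    obtain ⟨w, hw0, hw⟩ := exists_orth (by omega : 2 ≤ 3) f'
    exact hGd (Matrix.exists_mulVec_eq_zero_iff.1 ⟨w, hw0, by rw [h', vecMulVec_mulVec', hw, zero_smul]⟩)
  have ha3 : a ^ 3 ≠ 0 := pow_ne_zero _ ha0
  set g := γ / a ^ 3 with hgdef
  set e := x.det / a ^ 3 with hedef
  obtain ⟨P, Ms, hlen, hMs, hprod, hP1, hPd, hPn, hfix⟩ := three_refl (a := a) (e := e) (g := g)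
    (div_ne_zero hg0 ha3) (by
      by_contra! hh
      refine hplain ⟨?_, ?_⟩
      · have := hh.1; rw [hedef, div_eq_one_iff_eq ha3] at this; exact this
      · have := hh.2; rw [hgdef, div_eq_one_iff_eq ha3] at this; exact this ▸ hγ)
  have hsm : ∀ l : List (Matrix (Fin 3) (Fin 3) F),
      (l.map fun M => a • M).prod = a ^ l.length • l.prod := by
    intro l
    induction l with
    | nil => simp
    | cons M l ih =>
      rw [List.map_cons, List.prod_cons, ih, List.prod_cons, List.length_cons, Matrix.smul_mul, Matrix.mul_smul,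
        smul_smul, pow_succ']
  have hSCG : SC (a ^ 3 • P) G := by
    have h1 := hP1.smul (a ^ 3)
    rw [hgdef, mul_div_cancel₀ _ ha3] at h1
    refine r1_conj (m := 0) (fun c hc => hPn ((a ^ 3)⁻¹ * c) ?_) hG hg0 h1 hγ ?_
    · rw [mul_smul, ← hc, smul_smul, inv_mul_cancel₀ ha3, one_smul]
    · rw [hdet, det_smul, Fintype.card_fin, hPd, hedef]
      field_simp
      ring
  obtain ⟨h, hh, hhe⟩ := hSCG
  have hhu : IsUnit h.det := by rw [hh]; exact isUnit_one
  refine ⟨(Ms.map fun M => a • M).map fun y => h * y * h⁻¹, by simp [hlen], sc_map_conj hh ?_, ?_,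
    hgoodr _ fun _ => NC.map (fun w hw => hfix w fun M hM => ?_) hhu⟩
  · intro y hy
    obtain ⟨M, hM, rfl⟩ := List.mem_map.1 hy
    refine r1_conj (m := 0) hx ((hMs M hM).2.2 ha0) ha0 ⟨u, f, huf⟩ (hMs M hM).1 ?_
    rw [det_smul, Fintype.card_fin, (hMs M hM).2.1, hedef]
    field_simp
  · rw [prod_map_conj hhu, hsm, hlen, hprod, hhe, mul_nonsing_inv_cancel_right _ _ hhu]
  · have := hw _ (List.mem_map.2 ⟨M, hM, rfl⟩)
    rw [smul_mulVec] at this
    exact smul_right_injective _ ha0 this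

theorem famLemma (h4 : 4 ≤ Fintype.card F) : ∀ m : ℕ, FS F (m + 3) := by
  intro m
  induction m with
  | zero => exact fam_three h4
  | succ m ih =>
    intro x G hfam hx hxd hG hdet
    have hGd : G.det ≠ 0 := by rw [hdet]; exact pow_ne_zero _ hxd
    have hpow : ∀ q : F, q ^ (m + 1 + 3) = q * q ^ (m + 3) := fun q => by ring
    by_cases hr : ∀ a : F, ¬ R1 a x
    · obtain ⟨lam, v, hv, he⟩ := hfam.eig (by omega)
      have hlam : lam ≠ 0 := fun e => hxd (Matrix.exists_mulVec_eq_zero_iff.1 ⟨v, hv, by rw [he, e, zero_smul]⟩)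
      obtain ⟨b0, X, hX, hXs, -⟩ := quot_spec x hv he
      have hXn := quot_nonscalar hr hXs
      have hXd : X.det ≠ 0 := fun e => hxd (by rw [det_upper hX, e, mul_zero])
      have hXf := hfam.quot hX
      have hβ : lam * lam ^ (m + 3) ≠ 0 := mul_ne_zero hlam (pow_ne_zero _ hlam)
      have finish : ∀ (c : Fin (m + 3) → F) (Y : Matrix (Fin (m + 3)) (Fin (m + 3)) F)
          (b : Fin (m + 3) → F) (D : Matrix (Fin (m + 3)) (Fin (m + 3)) F), c ≠ 0 → SC x (bl lam c 0 Y) →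
          SC G (bl (lam * lam ^ (m + 3)) (lam ^ (m + 3) • c) b D) →
          (∀ t : F, Y⁻¹ * schur (lam * lam ^ (m + 3)) (lam ^ (m + 3) • c) b D ≠ t • 1) →
          ((∀ a, ¬ R1 a X) ∨ ∃ a, R1 a X ∧
            ¬ R1 (a ^ (m + 3)) (Y⁻¹ * schur (lam * lam ^ (m + 3)) (lam ^ (m + 3) • c) b D)) →
          ∃ l : List (Matrix (Fin (m + 1 + 3)) (Fin (m + 1 + 3)) F),
            l.length = m + 1 + 3 ∧ (∀ y ∈ l, SC x y) ∧ l.prod = G ∧ Good x G l := by
        intro c Y b D hc hL hGD hRn hor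
        have hYd : Y.det = X.det := mul_left_cancel₀ hlam ((det_lower hL.gc).symm.trans (det_upper hX))
        have hSd := schur_det hβ hGD.gc
        rw [hdet, det_upper hX, mul_pow, ← hpow lam] at hSd
        have hSd' := mul_left_cancel₀ (pow_ne_zero _ hlam) hSd
        rw [← hpow lam] at hGD hRn hor
        obtain ⟨Ys, h1, h2, h3, hgood⟩ := ih X _ hXf hXn hXd hRn (by
          rw [det_mul, det_nonsing_inv, hYd, hSd', Ring.inverse_eq_inv', hpow]
          field_simp)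
        have hnc : ∀ μ, NC μ Ys := by
          rcases hor with hor | ⟨a, ha, hns⟩
          · exact hgood.1 hor
          · exact nc_all_of_r1 ha (fun y hy => (h2 y hy).gc) h3 (by rwa [h1]) (hgood.2 a ha (Or.inr hns))
        obtain ⟨l, hl1, hl2, hl3, hl4⟩ := glue hlam hlam hX hL (fun Z hZ => (h2 Z hZ).gc) (hnc lam) hGD
          (by rw [h1, hpow]) (by rw [h1]) (by rw [h3, mul_nonsing_inv_cancel_left _ _ (Ne.isUnit (hYd ▸ hXd))])
        exact ⟨l, by rw [hl1, h1], hl2, hl3, fun _ μ => hl4 μ (hnc μ) hc, fun a ha => absurd ha (hr a)⟩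
      by_cases hXr : ∀ a, ¬ R1 a X
      · obtain ⟨c, Y, hc, hL⟩ := exists_lower hx ⟨v, hv, he⟩
        have hYd : Y.det = X.det := mul_left_cancel₀ hlam ((det_lower hL.gc).symm.trans (det_upper hX))
        obtain ⟨b, D, hGD, hRn⟩ := exists_R1 hG hGd hβ (smul_ne_zero (pow_ne_zero (m + 3) hlam) hc)
          (Y := Y) (hYd ▸ hXd)
        exact finish c Y b D hc hL hGD hRn (Or.inl hXr)
      · push Not at hXr
        obtain ⟨a, ha⟩ := hXr
        have ha0 : a ≠ 0 := by
          rintro rfl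
          obtain ⟨u', f', h'⟩ := ha
          rw [zero_smul, sub_zero] at h'
          obtain ⟨w, hw0, hw⟩ := exists_orth (by omega : 2 ≤ m + 3) f'
          exact hXd (Matrix.exists_mulVec_eq_zero_iff.1 ⟨w, hw0, by rw [h', vecMulVec_mulVec', hw, zero_smul]⟩)
        obtain ⟨c, Y, hc, hL, hYs⟩ := exists_lower_good hx hr ⟨v, hv, he⟩
        have hYd : Y.det = X.det := mul_left_cancel₀ hlam ((det_lower hL.gc).symm.trans (det_upper hX))
        obtain ⟨b, D, hGD, hns⟩ := exists_R2 hG hGd hβ (σ := a ^ (m + 3)) (pow_ne_zero _ ha0)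
          (smul_ne_zero (pow_ne_zero (m + 3) hlam) hc) (Y := Y) (hYd ▸ hXd)
          (fun s => by rw [span_singleton_smul_eq (Ne.isUnit (pow_ne_zero _ hlam))]; exact hYs s)
        obtain ⟨b, D, hGD, hns, hRn⟩ := fix_scalar hGd hβ (smul_ne_zero (pow_ne_zero (m + 3) hlam) hc)
          (hYd ▸ hXd) hGD hns
        exact finish c Y b D hc hL hGD hRn (Or.inr ⟨a, ha, hns⟩)
    push Not at hr
    obtain ⟨a, ha⟩ := hr
    have hgoodr : ∀ l : List (Matrix (Fin (m + 1 + 3)) (Fin (m + 1 + 3)) F),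
        (∀ (_ : x.det ≠ a ^ (m + 1 + 3) ∨ ¬ R1 (a ^ (m + 1 + 3)) G), NC a l) →
        Good x G l := fun l hl => ⟨fun h => absurd ha (h a), fun a' ha' hcond => by
      obtain rfl := r1_unique ha ha'
      exact hl hcond⟩
    obtain ⟨u, f, huf⟩ := ha
    have hu0 : u ≠ 0 := fun e => hx a (sub_eq_zero.1 (by rw [huf, e]; ext i j; simp [vecMulVec_apply]))
    obtain ⟨v, hfv, hvu⟩ := exists_orth_notMem (by omega : 3 ≤ m + 1 + 3) f u
    have hv : v ≠ 0 := fun e => hvu (by rw [e]; exact zero_mem _)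
    have he : x *ᵥ v = a • v := by rw [R1.apply huf v, hfv, zero_smul, add_zero]
    have ha0 : a ≠ 0 := fun e => hxd (Matrix.exists_mulVec_eq_zero_iff.1 ⟨v, hv, by rw [he, e, zero_smul]⟩)
    by_cases hplain : x.det = a ^ (m + 1 + 3) ∧ R1 (a ^ (m + 1 + 3)) G
    · obtain ⟨l, h1, h2, h3⟩ := root_group_list h4 hx ha0 ⟨u, f, huf⟩ hplain.1 hplain.2 hdet
      exact ⟨l, h1, h2, h3, hgoodr l fun h => absurd h (by simp [hplain.1, hplain.2])⟩
    obtain ⟨b0, X, hX, hXs, hX1⟩ := quot_spec x hv he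
    have hXn : ∀ c : F, X ≠ c • 1 := fun c hc => by
      obtain rfl := r1_unique ⟨u, f, huf⟩ (R1.of_image (hXs c hc))
      obtain ⟨z, hz⟩ : ∃ z, f ⬝ᵥ z ≠ 0 := by
        by_contra! hz
        exact hx a (sub_eq_zero.1 (Matrix.ext_of_mulVec_single fun i => by
          rw [huf, vecMulVec_mulVec', hz, zero_smul, zero_mulVec]))
      obtain ⟨q, hq⟩ := mem_span_singleton.1 (hXs a hc z)
      rw [huf, vecMulVec_mulVec'] at hq
      have hq0 : q ≠ 0 := fun e => hu0 ((smul_eq_zero.1 (by rw [← hq, e, zero_smul] :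
        (f ⬝ᵥ z) • u = 0)).resolve_left hz)
      exact hvu (mem_span_singleton.2 ⟨q⁻¹ * (f ⬝ᵥ z), by
        rw [mul_smul, ← hq, smul_smul, inv_mul_cancel₀ hq0, one_smul]⟩)
    have hXd : X.det ≠ 0 := fun e => hxd (by rw [det_upper hX, e, mul_zero])
    have hXf := hfam.quot hX
    have hXa := hX1 a ⟨u, f, huf⟩
    have hβ : a * a ^ (m + 3) ≠ 0 := mul_ne_zero ha0 (pow_ne_zero _ ha0)
    obtain ⟨c, Y, b, D, hc, hL, hGD, hRn, hcond⟩ : ∃ (c : Fin (m + 3) → F)
        (Y : Matrix (Fin (m + 3)) (Fin (m + 3)) F) (b : Fin (m + 3) → F)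
        (D : Matrix (Fin (m + 3)) (Fin (m + 3)) F), c ≠ 0 ∧ SC x (bl a c 0 Y) ∧
        SC G (bl (a * a ^ (m + 3)) (a ^ (m + 3) • c) b D) ∧
        (∀ t : F, Y⁻¹ * schur (a * a ^ (m + 3)) (a ^ (m + 3) • c) b D ≠ t • 1) ∧
        (X.det ≠ a ^ (m + 3) ∨
          ¬ R1 (a ^ (m + 3)) (Y⁻¹ * schur (a * a ^ (m + 3)) (a ^ (m + 3) • c) b D)) := by
      by_cases hdx : x.det = a ^ (m + 1 + 3)
      · have hns : ¬ R1 (a ^ (m + 1 + 3)) G := fun h => hplain ⟨hdx, h⟩
        have hfu : f ⬝ᵥ u = 0 := by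
          have := det_r1 ha0 huf
          rw [hdx, pow_succ _ (m + 3)] at this
          have h2 := mul_left_cancel₀ (pow_ne_zero _ ha0) this
          linear_combination -h2
        have hL := r1_lower hx ha0 huf
        rw [hfu, zero_smul, add_zero] at hL
        have hc : (Pi.single 0 1 : Fin (m + 1 + 2) → F) ≠ 0 := by simp
        have hc' : a ^ (m + 3) • (Pi.single 0 1 : Fin (m + 1 + 2) → F) ≠ 0 :=
          smul_ne_zero (pow_ne_zero _ ha0) hc
        have hYd : (a • (1 : Matrix (Fin (m + 3)) (Fin (m + 3)) F)).det ≠ 0 := by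
          rw [det_smul, det_one, mul_one]; exact pow_ne_zero _ ha0
        obtain ⟨b1, D1, hGD1, w, hw⟩ := exists_Gform_big hG hns hc'
        rw [hpow] at hGD1 hw
        obtain ⟨b2, D2, hGD2, hns2⟩ := exists_R2_step (σ := a ^ (m + 3)) hGd hβ hc' hYd hGD1
          ⟨w, by rwa [smul_smul, mul_comm (a ^ (m + 3)) a]⟩
        obtain ⟨b, D, hGD, hns3, hRn⟩ := fix_scalar hGd hβ hc' hYd hGD2 hns2
        exact ⟨_, _, b, D, hc, hL, hGD, hRn, Or.inr hns3⟩
      · obtain ⟨c, Y, hc, hL⟩ := exists_lower hx ⟨v, hv, he⟩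
        have hYd : Y.det = X.det := mul_left_cancel₀ ha0 ((det_lower hL.gc).symm.trans (det_upper hX))
        obtain ⟨b, D, hGD, hRn⟩ := exists_R1 hG hGd hβ (smul_ne_zero (pow_ne_zero (m + 3) ha0) hc)
          (Y := Y) (hYd ▸ hXd)
        exact ⟨c, Y, b, D, hc, hL, hGD, hRn, Or.inl fun e => hdx (by rw [det_upper hX, e, hpow])⟩
    have hYd : Y.det = X.det := mul_left_cancel₀ ha0 ((det_lower hL.gc).symm.trans (det_upper hX))
    have hSd := schur_det hβ hGD.gc
    rw [hdet, det_upper hX, mul_pow, ← hpow a] at hSd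
    have hSd' := mul_left_cancel₀ (pow_ne_zero _ ha0) hSd
    rw [← hpow a] at hGD hRn hcond
    obtain ⟨Ys, h1, h2, h3, hgood⟩ := ih X _ hXf hXn hXd hRn (by
      rw [det_mul, det_nonsing_inv, hYd, hSd', Ring.inverse_eq_inv', hpow]
      field_simp)
    have hnc := hgood.2 a hXa hcond
    obtain ⟨l, hl1, hl2, hl3, hl4⟩ := glue ha0 ha0 hX hL (fun Z hZ => (h2 Z hZ).gc) hnc hGD
      (by rw [h1, hpow]) (by rw [h1]) (by rw [h3, mul_nonsing_inv_cancel_left _ _ (Ne.isUnit (hYd ▸ hXd))])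
    exact ⟨l, by rw [hl1, h1], hl2, hl3, hgoodr l fun _ => hl4 a hnc hc⟩

end Cfsg.Agent.CovNum
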