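import Cfsg.Agent.Lib.CovNum.RankOne

/-!
# Covering number of `PSL(n, q)`: quotients at an eigenvector and special shapes of the target

* `Fam` : two eigenvalues with a quadratic relation, or a single one;
* `quot_spec` : the quotient at an eigenvector;
* `fam_of_no_tx` : without `Tx`, an eigenvalue forces `Fam`;
* `exists_Gform_big`, `exists_Gform_krylov`, `r1_of_no_krylov` : shapes of the target.
-/

set_option autoImplicit false
set_option linter.unusedSectionVars false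

namespace Cfsg.Agent.CovNum

open Matrix Submodule

variable {F : Type*} [Field F] {n m : ℕ}

/-- A single eigenvalue, or two with a quadratic relation. -/
def Fam (x : Matrix (Fin n) (Fin n) F) : Prop :=
  ∃ lam : F, (∃ k : ℕ, (x - lam • 1) ^ k = 0) ∨ ∃ nu : F, nu ≠ lam ∧ (x - lam • 1) * (x - nu • 1) = 0

theorem Fam.eig {x : Matrix (Fin n) (Fin n) F} (h : Fam x) (hn : 0 < n) :
    ∃ (lam : F) (v : Fin n → F), v ≠ 0 ∧ x *ᵥ v = lam • v := by
  have : Nonempty (Fin n) := ⟨⟨0, hn⟩⟩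
  have key : ∀ c : F, (x - c • 1).det = 0 → ∃ v : Fin n → F, v ≠ 0 ∧ x *ᵥ v = c • v := fun c hc => by
    obtain ⟨v, hv, he⟩ := Matrix.exists_mulVec_eq_zero_iff.2 hc
    exact ⟨v, hv, by rwa [sub_mulVec, smul_mulVec, one_mulVec, sub_eq_zero] at he⟩
  obtain ⟨lam, ⟨k, hk⟩ | ⟨nu, -, h2⟩⟩ := h
  · have := congrArg Matrix.det hk
    rw [det_pow, det_zero] at this
    exact ⟨lam, key lam (pow_eq_zero_iff'.1 this).1⟩
  · have := congrArg Matrix.det h2
    rw [det_mul, det_zero, mul_eq_zero] at this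
    rcases this with h3 | h3
    exacts [⟨lam, key lam h3⟩, ⟨nu, key nu h3⟩]

theorem upper_sub_smul (lam c : F) (b : Fin m → F) (X : Matrix (Fin m) (Fin m) F) :
    bl lam 0 b X - c • 1 = bl (lam - c) 0 b (X - c • 1) := by
  ext i j
  induction i using Fin.cases <;> induction j using Fin.cases <;>
    simp [Matrix.one_apply, (Fin.succ_ne_zero _).symm]

theorem upper_pow (p : F) (b : Fin m → F) (D : Matrix (Fin m) (Fin m) F) :
    ∀ k : ℕ, ∃ b' : Fin m → F, (bl p 0 b D) ^ k = bl (p ^ k) 0 b' (D ^ k)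
  | 0 => ⟨0, by simp [← one_bl]⟩
  | k + 1 => by
    obtain ⟨b', hb'⟩ := upper_pow p b D k
    exact ⟨p ^ k • b + b' ᵥ* D, by rw [pow_succ, hb', bl_mul]; simp [pow_succ]⟩

theorem gc_pow_sub {x y : Matrix (Fin n) (Fin n) F} (h : GC x y) {c : F} {k : ℕ} (hk : (x - c • 1) ^ k = 0) :
    (y - c • 1) ^ k = 0 := by
  obtain ⟨g, hg, he⟩ := h
  have h1 : SemiconjBy g (x - c • 1) (y - c • 1) := by
    show g * (x - c • 1) = (y - c • 1) * g
    rw [Matrix.mul_sub, Matrix.sub_mul, he, Matrix.mul_smul, Matrix.smul_mul, Matrix.mul_one, Matrix.one_mul]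
  have h2 := (h1.pow_right k).eq
  rw [hk, Matrix.mul_zero] at h2
  have := congrArg (· * g⁻¹) h2
  simpa [mul_nonsing_inv_cancel_right _ _ (Ne.isUnit hg)] using this.symm

theorem nil_quot {x : Matrix (Fin (m + 1)) (Fin (m + 1)) F} {lam c : F} {b : Fin m → F}
    {X : Matrix (Fin m) (Fin m) F} (h : GC x (bl lam 0 b X)) {k : ℕ} (hk : (x - c • 1) ^ k = 0) :
    (X - c • 1) ^ k = 0 := by
  have h1 := gc_pow_sub h hk
  rw [upper_sub_smul] at h1
  obtain ⟨b', hb'⟩ := upper_pow (lam - c) b (X - c • 1) k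
  rw [hb'] at h1
  have h2 : (0 : Matrix (Fin (m + 1)) (Fin (m + 1)) F) = bl 0 0 0 0 := by
    ext i j; induction i using Fin.cases <;> induction j using Fin.cases <;> simp
  rw [h2] at h1
  exact (bl_inj h1).2.2.2

theorem Fam.quot {x : Matrix (Fin (m + 1)) (Fin (m + 1)) F} (h : Fam x) {lam : F} {b : Fin m → F}
    {X : Matrix (Fin m) (Fin m) F} (hX : GC x (bl lam 0 b X)) : Fam X := by
  obtain ⟨c, ⟨k, hk⟩ | ⟨nu, hne, h2⟩⟩ := h
  · exact ⟨c, Or.inl ⟨k, nil_quot hX hk⟩⟩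
  · refine ⟨c, Or.inr ⟨nu, hne, ?_⟩⟩
    obtain ⟨g, hg, he⟩ := hX
    have h1 : ∀ c : F, g * (x - c • 1) = (bl lam 0 b X - c • 1) * g := fun c => by
      rw [Matrix.mul_sub, Matrix.sub_mul, he, Matrix.mul_smul, Matrix.smul_mul, Matrix.mul_one, Matrix.one_mul]
    have h3 : (bl lam 0 b X - c • 1) * (bl lam 0 b X - nu • 1) * g = 0 := by
      rw [Matrix.mul_assoc, ← h1, ← Matrix.mul_assoc, ← h1, Matrix.mul_assoc, h2, Matrix.mul_zero]
    have h4 := congrArg (· * g⁻¹) h3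
    simp only [mul_nonsing_inv_cancel_right _ _ (Ne.isUnit hg), Matrix.zero_mul] at h4
    rw [upper_sub_smul, upper_sub_smul, bl_mul] at h4
    have h0 : (0 : Matrix (Fin (m + 1)) (Fin (m + 1)) F) = bl 0 0 0 0 := by
      ext i j; induction i using Fin.cases <;> induction j using Fin.cases <;> simp
    rw [h0] at h4
    simpa using (bl_inj h4).2.2.2

theorem quot_spec (x : Matrix (Fin (m + 1)) (Fin (m + 1)) F) {v : Fin (m + 1) → F} {lam : F} (hv : v ≠ 0)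
    (he : x *ᵥ v = lam • v) : ∃ (b : Fin m → F) (X : Matrix (Fin m) (Fin m) F), GC x (bl lam 0 b X) ∧
      (∀ c : F, X = c • 1 → ∀ w, (x - c • 1) *ᵥ w ∈ span F ({v} : Set (Fin (m + 1) → F))) ∧
      ∀ a : F, R1 a x → R1 a X := by
  obtain ⟨r, hr, -⟩ := exists_sep (S := (⊥ : Submodule F (Fin (m + 1) → F))) (v := v) (by simpa using hv)
  obtain ⟨a, b, D, P, hP, hGC, hmul, hPv, -, hPa⟩ := exists_form_vec x hr
  have h00 : r ⬝ᵥ (x *ᵥ v) = lam := by rw [he, dotProduct_smul, hr, smul_eq_mul, mul_one]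
  rw [h00] at hPa hGC hmul
  rw [he, ← hPv, single_eq_cons, ← mulVec_smul] at hPa
  obtain ⟨-, ha⟩ := cons_eq_smul_cons (mulVec_inj hP hPa)
  rw [smul_zero] at ha
  subst ha
  have hsub : ∀ c : F, (x - c • 1) * P = P * bl (lam - c) 0 b (D - c • 1) := fun c => by
    rw [← upper_sub_smul, Matrix.sub_mul, Matrix.mul_sub, hmul, Matrix.smul_mul, Matrix.mul_smul, Matrix.one_mul,
      Matrix.mul_one]
  refine ⟨b, D, hGC, fun c hc w => ?_, fun a ha => ?_⟩
  · obtain ⟨w', rfl⟩ : ∃ w', P *ᵥ w' = w :=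
      ⟨P⁻¹ *ᵥ w, by rw [mulVec_mulVec, mul_nonsing_inv _ (Ne.isUnit hP), one_mulVec]⟩
    rw [mulVec_mulVec, hsub, ← mulVec_mulVec, ← Fin.cons_self_tail w', bl_mulVec, hc, sub_self, smul_zero,
      zero_add, zero_mulVec]
    refine mem_span_singleton.2 ⟨(lam - c) * w' 0 + b ⬝ᵥ Fin.tail w', ?_⟩
    rw [← hPv, single_eq_cons, ← mulVec_smul]
    congr 1
    ext i; induction i using Fin.cases <;> simp
  · obtain ⟨u, f, huf⟩ := ha
    refine ⟨Fin.tail (P⁻¹ *ᵥ u), Fin.tail (f ᵥ* P), ?_⟩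
    have h1 : bl (lam - a) 0 b (D - a • 1) = vecMulVec (P⁻¹ *ᵥ u) (f ᵥ* P) := by
      rw [← vecMulVec_mul, ← mul_vecMulVec, ← huf, Matrix.mul_assoc, hsub, ← Matrix.mul_assoc,
        nonsing_inv_mul _ (Ne.isUnit hP), Matrix.one_mul]
    ext i j
    simpa [vecMulVec_apply, Fin.tail] using congrFun (congrFun h1 i.succ) j.succ

theorem quot_nonscalar {x : Matrix (Fin (m + 1)) (Fin (m + 1)) F} {v : Fin (m + 1) → F}
    {X : Matrix (Fin m) (Fin m) F} (hr : ∀ a : F, ¬ R1 a x)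
    (h : ∀ c : F, X = c • 1 → ∀ w, (x - c • 1) *ᵥ w ∈ span F ({v} : Set (Fin (m + 1) → F))) :
    ∀ c : F, X ≠ c • 1 := fun c hc => hr c (R1.of_image (h c hc))

/-- Without `Tx`, an eigenvalue forces the family. -/
theorem fam_of_no_tx {x : Matrix (Fin n) (Fin n) F} {lam : F} (he : ∃ v : Fin n → F, v ≠ 0 ∧ x *ᵥ v = lam • v)
    (hno : ∀ μ : F, ¬ Tx μ x) : Fam x := by
  set M := x - lam • 1 with hM
  have hMx : M * x = x * M := by
    rw [hM, Matrix.sub_mul, Matrix.mul_sub, Matrix.smul_mul, Matrix.mul_smul, Matrix.one_mul, Matrix.mul_one]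
  have hpx : ∀ k, M ^ k * x = x * M ^ k := fun k => ((show Commute M x from hMx).pow_left k).eq
  have hstab : ∀ u, (M ^ (n + 1)) *ᵥ u = 0 → (M ^ n) *ᵥ u = 0 := by
    intro u hu
    have h1 := Module.End.ker_pow_eq_ker_pow_finrank_of_le (f := Matrix.toLin' M) (m := n + 1)
      (by rw [Module.finrank_fin_fun]; omega)
    rw [Module.finrank_fin_fun, ← Matrix.toLin'_pow, ← Matrix.toLin'_pow] at h1
    have : u ∈ LinearMap.ker (Matrix.toLin' (M ^ n)) := h1 ▸ LinearMap.mem_ker.2 (by rwa [Matrix.toLin'_apply])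
    rwa [LinearMap.mem_ker, Matrix.toLin'_apply] at this
  have hfree : ∀ w ∈ LinearMap.range (M ^ n).mulVecLin, x *ᵥ w = lam • w → w = 0 := by
    rintro _ ⟨u, rfl⟩ hu
    refine hstab u ?_
    rw [pow_succ', ← mulVec_mulVec, hM, sub_mulVec, smul_mulVec, one_mulVec, sub_eq_zero]
    exact hu
  obtain ⟨nu, hnu⟩ : ∃ nu : F, ∀ w ∈ LinearMap.range (M ^ n).mulVecLin, x *ᵥ w = nu • w := by
    by_contra! hcon
    refine hno lam ⟨he, _, ?_, hfree, fun c => hcon c⟩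
    rintro _ ⟨u, rfl⟩
    exact ⟨x *ᵥ u, by simp [mulVec_mulVec, hpx]⟩
  by_cases hzero : M ^ n = 0
  · exact ⟨lam, Or.inl ⟨n, hzero⟩⟩
  obtain ⟨u0, hu0⟩ : ∃ u0, (M ^ n) *ᵥ u0 ≠ 0 := by
    by_contra! h
    exact hzero (Matrix.ext_of_mulVec_single fun i => by rw [h, zero_mulVec])
  have hw0 := hnu _ ⟨u0, rfl⟩
  have hne : nu ≠ lam := fun e => hu0 (hfree _ ⟨u0, rfl⟩ (e ▸ hw0))
  have hMw : ∀ (k : ℕ) (w : Fin n → F) (c : F), x *ᵥ w = c • w → (M ^ k) *ᵥ w = (c - lam) ^ k • w := by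
    intro k w c hc
    induction k with
    | zero => simp
    | succ k ih =>
      rw [pow_succ', ← mulVec_mulVec, ih, mulVec_smul, hM, sub_mulVec, smul_mulVec, one_mulVec, hc, ← sub_smul,
        smul_smul, pow_succ]
  obtain ⟨c, hc⟩ : ∃ c : F, ∀ w ∈ LinearMap.ker (M ^ n).mulVecLin, x *ᵥ w = c • w := by
    by_contra! hcon
    refine hno nu ⟨⟨_, hu0, hw0⟩, _, fun w hw => ?_, fun w hw hxw => ?_, fun c => hcon c⟩
    · have hw' : (M ^ n) *ᵥ w = 0 := hw
      show (M ^ n) *ᵥ (x *ᵥ w) = 0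
      rw [mulVec_mulVec, hpx, ← mulVec_mulVec, hw', mulVec_zero]
    · have hw' : (M ^ n) *ᵥ w = 0 := hw
      rw [hMw n w nu hxw, smul_eq_zero] at hw'
      exact hw'.resolve_left (pow_ne_zero _ (sub_ne_zero.2 hne))
  obtain ⟨v, hv0, hv⟩ := he
  have hn0 : 0 < n := Nat.pos_of_ne_zero fun h => hv0 (funext fun i => absurd i.2 (by omega))
  have hcl : c = lam := by
    have hvK : v ∈ LinearMap.ker (M ^ n).mulVecLin := by
      show (M ^ n) *ᵥ v = 0
      rw [hMw n v lam hv, sub_self, zero_pow (by omega), zero_smul]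
    have h1 := hc v hvK
    rw [hv] at h1
    exact ((sub_eq_zero.1 ((smul_eq_zero.1 (by rw [sub_smul, h1, sub_self] : (lam - c) • v = 0)).resolve_right
      hv0))).symm
  refine ⟨lam, Or.inr ⟨nu, hne, Matrix.ext_of_mulVec_single fun i => ?_⟩⟩
  have hK : (x - nu • 1) *ᵥ Pi.single i 1 ∈ LinearMap.ker (M ^ n).mulVecLin := by
    show (M ^ n) *ᵥ ((x - nu • 1) *ᵥ Pi.single i 1) = 0
    have h1 := hnu _ ⟨Pi.single i 1, rfl⟩
    simp only [Matrix.mulVecLin_apply] at h1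
    rw [sub_mulVec, smul_mulVec, one_mulVec, mulVec_sub, mulVec_smul, mulVec_mulVec, hpx, ← mulVec_mulVec, h1,
      sub_self]
  have h2 := hc _ hK
  rw [hcl] at h2
  rw [← mulVec_mulVec, zero_mulVec]
  show (x - lam • 1) *ᵥ _ = 0
  rw [sub_mulVec, smul_mulVec, one_mulVec, h2, sub_self]

/-- Move the first column of the target by the special linear group. -/
theorem form_move {G : Matrix (Fin (m + 3)) (Fin (m + 3)) F} {β : F} {a b : Fin (m + 2) → F}
    {D : Matrix (Fin (m + 2)) (Fin (m + 2)) F} (h : GC G (bl β a b D)) (ha : a ≠ 0) {a0 : Fin (m + 2) → F}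
    (ha0 : a0 ≠ 0) : ∃ (b' : Fin (m + 2) → F) (D' g : Matrix _ _ F) (t : F), t ≠ 0 ∧ g.det = 1 ∧
      g *ᵥ a = t • a0 ∧ SC G (bl β a0 b' D') ∧ g * schur β a b D = schur β a0 b' D' * g := by
  obtain ⟨t, ht, hSC⟩ := sc_of_gc_bl h
  obtain ⟨P1, hP1, he1⟩ := exists_col_sl (v := t • a) (smul_ne_zero ht ha)
  obtain ⟨P2, hP2, he2⟩ := exists_col_sl ha0
  have hu : IsUnit P1.det := by rw [hP1]; exact isUnit_one
  set g := P2 * P1⁻¹ with hg
  have hgd : g.det = 1 := by rw [hg, det_mul, hP2, det_nonsing_inv, hP1]; simp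
  have hgu : IsUnit g.det := by rw [hgd]; exact isUnit_one
  have hga : g *ᵥ (t • a) = a0 := by
    rw [← he1, hg, mulVec_mulVec, Matrix.mul_assoc, nonsing_inv_mul _ hu, Matrix.mul_one, he2]
  refine ⟨(t⁻¹ • b) ᵥ* g⁻¹, g * D * g⁻¹, g, t⁻¹, inv_ne_zero ht, hgd, ?_, hSC.trans (sc_diag (g := g) ?_ ?_ ?_ ?_), ?_⟩
  · rw [← hga, mulVec_smul, smul_smul, inv_mul_cancel₀ ht, one_smul]
  · rw [hgd]; exact one_ne_zero
  · rw [nonsing_inv_mul_cancel_right _ _ hgu]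
  · rw [hgd, one_smul, hga]
  · rw [hgd, inv_one, one_smul, vecMul_vecMul, nonsing_inv_mul _ hgu, vecMul_one]
  · have e : vecMulVec (t • a) (t⁻¹ • b) = vecMulVec a b := by
      rw [Matrix.smul_vecMulVec, Matrix.vecMulVec_smul, smul_smul, mul_inv_cancel₀ ht, one_smul]
    unfold schur
    rw [Matrix.mul_sub, Matrix.sub_mul, nonsing_inv_mul_cancel_right _ _ hgu, Matrix.mul_smul, Matrix.smul_mul,
      ← e, mul_vecMulVec, hga, vecMulVec_mul, vecMul_vecMul, nonsing_inv_mul _ hgu, vecMul_one]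

theorem exists_Gform_big {G : Matrix (Fin (m + 4)) (Fin (m + 4)) F} (hG : ∀ c : F, G ≠ c • 1) {β : F}
    (hns : ¬ R1 β G) {a0 : Fin (m + 3) → F} (ha0 : a0 ≠ 0) :
    ∃ (b : Fin (m + 3) → F) (D : Matrix (Fin (m + 3)) (Fin (m + 3)) F), SC G (bl β a0 b D) ∧
      ∃ w, (schur β a0 b D - β • 1) *ᵥ w ∉ span F ({a0} : Set (Fin (m + 3) → F)) := by
  set N := G - β • 1 with hN
  obtain ⟨v, hv, hne, hv'⟩ : ∃ v : Fin (m + 4) → F, v ≠ 0 ∧ G *ᵥ v ∉ span F ({v} : Set (Fin (m + 4) → F)) ∧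
      ∃ w, N *ᵥ w ∉ span F ({v, N *ᵥ v} : Set (Fin (m + 4) → F)) := by
    by_cases htop : LinearMap.range N.mulVecLin = ⊤
    · obtain ⟨v, hv, hne⟩ := exists_noneig hG
      refine ⟨v, hv, hne, ?_⟩
      by_contra! hcon
      have hle : (⊤ : Submodule F (Fin (m + 4) → F)) ≤ span F {v, N *ᵥ v} := by
        rw [← htop]; rintro _ ⟨w, rfl⟩; exact hcon w
      have := Submodule.finrank_mono hle
      rw [finrank_top, Module.finrank_fin_fun] at this
      exact absurd (this.trans (SLComm.finrank_pair_le _ _)) (by omega)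
    · obtain ⟨v, hvR, hvK⟩ : ∃ v, v ∉ LinearMap.range N.mulVecLin ∧ v ∉ LinearMap.ker N.mulVecLin := by
        by_contra! h
        obtain ⟨p, hp⟩ : ∃ p, p ∉ LinearMap.range N.mulVecLin := by
          by_contra! h'; exact htop (eq_top_iff.2 fun z _ => h' z)
        obtain ⟨q, hq⟩ : ∃ q, q ∉ LinearMap.ker N.mulVecLin := by
          by_contra! h'
          exact hns ⟨0, 0, Matrix.ext_of_mulVec_single fun i => by
            rw [← hN, show N *ᵥ Pi.single i 1 = 0 from h' (Pi.single i 1)]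
            simp [vecMulVec_zero]
            ext j; simp⟩
        have hqR : q ∈ LinearMap.range N.mulVecLin := by_contra fun hh => hq (h q hh)
        have hpK := h p hp
        have hpq : p + q ∉ LinearMap.range N.mulVecLin := fun hh => hp (by
          simpa using sub_mem hh hqR)
        exact hq (by simpa using sub_mem (h _ hpq) hpK)
      have hv0 : v ≠ 0 := fun e => hvR (e ▸ zero_mem _)
      refine ⟨v, hv0, fun hG' => ?_, ?_⟩
      · obtain ⟨c, hc⟩ := mem_span_singleton.1 hG'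
        have e : N *ᵥ v = (c - β) • v := by rw [hN, sub_mulVec, smul_mulVec, one_mulVec, ← hc, sub_smul]
        by_cases hcb : c = β
        · exact hvK (LinearMap.mem_ker.2 (by simp [e, hcb]))
        · exact hvR ⟨(c - β)⁻¹ • v, by
            simp [e, smul_smul, mulVec_smul, inv_mul_cancel₀ (sub_ne_zero.2 hcb)]⟩
      · by_contra! hcon
        refine hns (R1.of_image (u := N *ᵥ v) fun w => ?_)
        obtain ⟨t, s, hts⟩ := mem_span_pair.1 (hcon w)
        by_cases ht : t = 0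
        · exact mem_span_singleton.2 ⟨s, by rw [← hN, ← hts, ht]; simp⟩
        · exact absurd ⟨t⁻¹ • (w - s • v), by
            simp [mulVec_smul, mulVec_sub, ← hts, smul_smul, inv_mul_cancel₀ ht]⟩ hvR
  obtain ⟨w, hw⟩ := hv'
  obtain ⟨r, hr1, hr2⟩ := exists_dual2 hv hne 1 β
  obtain ⟨a, b, D, P, hP, hGC, hmul, hPv, -, hPa⟩ := exists_form_vec G hr1
  rw [hr2] at hPa hGC hmul
  have hNP : ∀ z, N *ᵥ (P *ᵥ z) = P *ᵥ ((bl β a b D - β • 1) *ᵥ z) := fun z => by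
    rw [mulVec_mulVec, mulVec_mulVec, hN, Matrix.sub_mul, Matrix.mul_sub, hmul, Matrix.smul_mul, Matrix.mul_smul,
      Matrix.one_mul, Matrix.mul_one]
  have hN0 : N *ᵥ v = P *ᵥ Fin.cons 0 a := by
    rw [← hPv, hNP, single_eq_cons, sub_mulVec, bl_mulVec, smul_mulVec, one_mulVec]
    congr 1; ext i; induction i using Fin.cases <;> simp
  have ha : a ≠ 0 := by
    rintro rfl
    refine hne (mem_span_singleton.2 ⟨β, ?_⟩)
    rw [← hPa, ← hPv, single_eq_cons, ← mulVec_smul]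
    congr 1
    ext i; induction i using Fin.cases <;> simp
  obtain ⟨b', D', g, t, ht, hgd, hga, hSC, hS⟩ := form_move hGC ha ha0
  refine ⟨b', D', hSC, ?_⟩
  by_contra! hcon
  have hSa : ∀ z, (schur β a b D - β • 1) *ᵥ z ∈ span F ({a} : Set (Fin (m + 3) → F)) := fun z => by
    obtain ⟨k, hk⟩ := mem_span_singleton.1 (hcon (g *ᵥ z))
    refine mem_span_singleton.2 ⟨k * t⁻¹, mulVec_inj (M := g) (by rw [hgd]; exact one_ne_zero) ?_⟩
    rw [mulVec_smul, hga, smul_smul, mul_assoc, inv_mul_cancel₀ ht, mul_one, hk, mulVec_mulVec, mulVec_mulVec]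
    congr 1
    rw [Matrix.sub_mul, Matrix.mul_sub, hS, Matrix.smul_mul, Matrix.mul_smul, Matrix.one_mul, Matrix.mul_one]
  refine hw ?_
  obtain ⟨z, rfl⟩ : ∃ z, P *ᵥ z = w :=
    ⟨P⁻¹ *ᵥ w, by rw [mulVec_mulVec, mul_nonsing_inv _ (Ne.isUnit hP), one_mulVec]⟩
  obtain ⟨k, hk⟩ := mem_span_singleton.1 (hSa (Fin.tail z))
  refine mem_span_pair.2 ⟨b ⬝ᵥ Fin.tail z, z 0 + k + β⁻¹ * (b ⬝ᵥ Fin.tail z), ?_⟩
  rw [hNP, hN0, ← hPv, ← mulVec_smul, ← mulVec_smul, ← mulVec_add]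
  congr 1
  have hD : D *ᵥ Fin.tail z = β • Fin.tail z + (k + β⁻¹ * (b ⬝ᵥ Fin.tail z)) • a := by
    have : D = (schur β a b D - β • 1) + β • 1 + β⁻¹ • vecMulVec a b := by simp [schur]
    rw [this, add_mulVec, add_mulVec, ← hk, smul_mulVec, smul_mulVec, one_mulVec, vecMulVec_mulVec', smul_smul,
      add_smul]
    abel
  conv_rhs => rw [← Fin.cons_self_tail z, sub_mulVec, bl_mulVec, hD, smul_mulVec, one_mulVec]
  ext i
  induction i using Fin.cases with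
  | zero => simp
  | succ i => simp [Fin.tail]; ring

theorem exists_Gform_krylov {G : Matrix (Fin 3) (Fin 3) F} {v : Fin 3 → F} (hv : v ≠ 0)
    (hne : G *ᵥ v ∉ span F ({v} : Set (Fin 3 → F)))
    (hk : G *ᵥ (G *ᵥ v) ∉ span F ({v, G *ᵥ v} : Set (Fin 3 → F))) (β : F) {a0 : Fin 2 → F} (ha0 : a0 ≠ 0) :
    ∃ (b : Fin 2 → F) (D : Matrix (Fin 2) (Fin 2) F), SC G (bl β a0 b D) ∧
      schur β a0 b D *ᵥ a0 ∉ span F ({a0} : Set (Fin 2 → F)) := by
  obtain ⟨r, hr1, hr2⟩ := exists_dual2 hv hne 1 β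
  obtain ⟨a, b, D, P, hP, hGC, hmul, hPv, -, hPa⟩ := exists_form_vec G hr1
  rw [hr2] at hPa hGC hmul
  have ha : a ≠ 0 := by
    rintro rfl
    refine hne (mem_span_singleton.2 ⟨β, ?_⟩)
    rw [← hPa, ← hPv, single_eq_cons, ← mulVec_smul]
    congr 1
    ext i; induction i using Fin.cases <;> simp
  obtain ⟨b', D', g, t, ht, hgd, hga, hSC, hS⟩ := form_move (m := 0) hGC ha ha0
  refine ⟨b', D', hSC, fun hmem => hk ?_⟩
  obtain ⟨k, hkk⟩ := mem_span_singleton.1 hmem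
  have hSa : schur β a b D *ᵥ a = k • a := by
    refine mulVec_inj (M := g) (by rw [hgd]; exact one_ne_zero) ?_
    rw [mulVec_mulVec, hS, ← mulVec_mulVec, hga, mulVec_smul, mulVec_smul, hga, ← hkk, smul_comm]
  obtain ⟨q, hq⟩ : ∃ q, D *ᵥ a = q • a := by
    refine ⟨k + β⁻¹ * (b ⬝ᵥ a), ?_⟩
    have : D = schur β a b D + β⁻¹ • vecMulVec a b := by simp [schur]
    rw [this, add_mulVec, hSa, smul_mulVec, vecMulVec_mulVec', smul_smul, add_smul]
  refine mem_span_pair.2 ⟨β * β + b ⬝ᵥ a - (β + q) * β, β + q, ?_⟩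
  rw [← hPa, mulVec_mulVec, hmul, ← mulVec_mulVec, bl_mulVec, hq, ← hPv, single_eq_cons, ← mulVec_smul,
    ← mulVec_smul, ← mulVec_add]
  congr 1
  ext i
  induction i using Fin.cases with
  | zero => simp
  | succ i => simp; ring

theorem r1_of_no_krylov {G : Matrix (Fin 3) (Fin 3) F} (hG : ∀ c : F, G ≠ c • 1)
    (h : ∀ v : Fin 3 → F, v ≠ 0 → G *ᵥ v ∉ span F ({v} : Set (Fin 3 → F)) →
      G *ᵥ (G *ᵥ v) ∈ span F ({v, G *ᵥ v} : Set (Fin 3 → F))) : ∃ γ : F, R1 γ G := by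
  have h' : ∀ v : Fin 3 → F, G *ᵥ (G *ᵥ v) ∈ span F ({v, G *ᵥ v} : Set (Fin 3 → F)) := by
    intro v
    by_cases hv : v = 0
    · simp [hv]
    by_cases hne : G *ᵥ v ∈ span F ({v} : Set (Fin 3 → F))
    · obtain ⟨c, hc⟩ := mem_span_singleton.1 hne
      exact mem_span_pair.2 ⟨0, c, by rw [zero_smul, zero_add, ← mulVec_smul, hc]⟩
    exact h v hv hne
  obtain ⟨v, hv, hne⟩ := exists_noneig (m := 2) hG
  obtain ⟨q, p, hpq⟩ := mem_span_pair.1 (h' v)
  obtain ⟨U, hU⟩ : ∃ U, U = span F ({v, G *ᵥ v} : Set (Fin 3 → F)) := ⟨_, rfl⟩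
  have hU2 : Module.finrank F U = 2 := hU ▸ SLComm.finrank_pair_eq (SLComm.indep_pair hv hne)
  obtain ⟨w, hw⟩ : ∃ w, w ∉ U := by
    by_contra! hh
    have : U = ⊤ := eq_top_iff.2 fun z _ => hh z
    rw [this, finrank_top, Module.finrank_fin_fun] at hU2
    omega
  have htop : ∀ z, ∃ γ : F, z - γ • w ∈ U := by
    intro z
    have hlt : U < U ⊔ span F {w} := lt_of_le_of_ne le_sup_left fun e =>
      hw (e ▸ mem_sup_right (mem_span_singleton_self w))
    have h2 := Submodule.finrank_lt_finrank_of_lt hlt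
    have : U ⊔ span F {w} = ⊤ := Submodule.eq_top_of_finrank_eq (by
      have := Submodule.finrank_le (U ⊔ span F {w})
      rw [Module.finrank_fin_fun] at this ⊢
      omega)
    obtain ⟨u, hu, _, hs, rfl⟩ := mem_sup.1 (this ▸ mem_top : z ∈ U ⊔ span F {w})
    obtain ⟨γ, rfl⟩ := mem_span_singleton.1 hs
    exact ⟨γ, by simpa using hu⟩
  have hvU : v ∈ U := hU ▸ subset_span (by simp)
  have hGvU : G *ᵥ v ∈ U := hU ▸ subset_span (by simp)
  have hGU : ∀ u ∈ U, G *ᵥ u ∈ U := by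
    intro u hu
    obtain ⟨s, t, rfl⟩ := mem_span_pair.1 (hU ▸ hu : u ∈ span F ({v, G *ᵥ v} : Set (Fin 3 → F)))
    rw [mulVec_add, mulVec_smul, mulVec_smul]
    exact add_mem (U.smul_mem _ hGvU) (U.smul_mem _ (hU ▸ h' v))
  obtain ⟨γ, hγ⟩ := htop (G *ᵥ w)
  set u0 := G *ᵥ w - γ • w with hu0
  set t1 := G *ᵥ v - γ • v with ht1
  -- the translates are eigenvectors
  have heig : ∀ u ∈ U, ∃ κ : F, G *ᵥ (u0 + (G *ᵥ u - γ • u)) = κ • (u0 + (G *ᵥ u - γ • u)) := by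
    intro u hu
    obtain ⟨s, r, hsr⟩ := mem_span_pair.1 (h' (w + u))
    set z := u0 + (G *ᵥ u - γ • u) with hz
    have hzU : z ∈ U := add_mem hγ (sub_mem (hGU u hu) (U.smul_mem _ hu))
    have e1 : G *ᵥ (w + u) = γ • (w + u) + z := by rw [hz, hu0, mulVec_add]; module
    rw [e1, mulVec_add, mulVec_smul, e1] at hsr
    have e2 : (s + r * γ - γ * γ) • w = G *ᵥ z - (r - γ) • z - (s + r * γ - γ * γ) • u := by
      linear_combination (norm := module) hsr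
    have hc0 : s + r * γ - γ * γ = 0 := by
      by_contra hc
      refine hw ((Submodule.smul_mem_iff _ hc).1 ?_)
      rw [e2]
      exact sub_mem (sub_mem (hGU z hzU) (U.smul_mem _ hzU)) (U.smul_mem _ hu)
    refine ⟨r - γ, ?_⟩
    rw [hc0, zero_smul, zero_smul, sub_zero] at e2
    exact sub_eq_zero.1 e2.symm
  obtain ⟨α, δ, hαδ⟩ : ∃ α δ : F, u0 = α • v + δ • t1 := by
    obtain ⟨s, t, hst⟩ := mem_span_pair.1 (hU ▸ hγ : u0 ∈ span F ({v, G *ᵥ v} : Set (Fin 3 → F)))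
    exact ⟨s + t * γ, t, by rw [← hst, ht1]; module⟩
  have hkv : ∀ k : F, (∃ κ : F, G *ᵥ (k • v) = κ • (k • v)) → k = 0 := by
    intro k ⟨κ, hκ⟩
    by_contra hk
    refine hne (mem_span_singleton.2 ⟨κ, smul_right_injective _ hk ?_⟩)
    show k • κ • v = k • G *ᵥ v
    rw [← mulVec_smul, hκ, smul_comm]
  have hroot : γ * γ - p * γ - q = 0 := by
    by_contra hne0
    -- otherwise a translate equals `v`
    set kk := (1 - α) / -(γ * γ - p * γ - q) with hkk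
    obtain ⟨κ, hκ⟩ := heig ((kk * -(p - γ) - δ) • v + kk • (G *ᵥ v))
      (add_mem (U.smul_mem _ hvU) (U.smul_mem _ hGvU))
    have e : u0 + (G *ᵥ ((kk * -(p - γ) - δ) • v + kk • (G *ᵥ v)) -
        γ • ((kk * -(p - γ) - δ) • v + kk • (G *ᵥ v))) = (α + kk * -(γ * γ - p * γ - q)) • v := by
      rw [hαδ, ht1, mulVec_add, mulVec_smul, mulVec_smul, ← hpq]
      module
    rw [e, hkk, div_mul_cancel₀ _ (neg_ne_zero.2 hne0), add_sub_cancel] at hκ
    exact one_ne_zero (hkv 1 ⟨κ, hκ⟩)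
  have hα : α = 0 := by
    obtain ⟨κ, hκ⟩ := heig ((-δ) • v) (U.smul_mem _ hvU)
    refine hkv α ⟨κ, ?_⟩
    have e : u0 + (G *ᵥ ((-δ) • v) - γ • ((-δ) • v)) = α • v := by
      rw [hαδ, ht1, mulVec_smul]; module
    rwa [e] at hκ
  refine ⟨γ, R1.of_image (u := t1) fun z => ?_⟩
  obtain ⟨k, hk⟩ := htop z
  obtain ⟨s, t, hst⟩ := mem_span_pair.1 (hU ▸ hk : z - k • w ∈ span F ({v, G *ᵥ v} : Set (Fin 3 → F)))
  refine mem_span_singleton.2 ⟨k * δ + s + t * (p - γ), ?_⟩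
  have hz : z = s • v + t • (G *ᵥ v) + k • w := by linear_combination (norm := module) -hst
  rw [hz, sub_mulVec, smul_mulVec, one_mulVec, mulVec_add, mulVec_add, mulVec_smul, mulVec_smul, mulVec_smul,
    ← hpq, show G *ᵥ w = γ • w + u0 by rw [hu0]; abel, hαδ, hα, ht1,
    show q = γ * γ - p * γ by linear_combination -hroot]
  module

end Cfsg.Agent.CovNum
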