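import Cfsg.Agent.Lib.CovNum.Forms
import Cfsg.Agent.Lib.CovNum.Combine
import Cfsg.Agent.Lib.SLComm.RegSplit

/-!
# Covering number of `PSL(n, q)`: products of two triangular matrices

* `lu_pair` : prescribed contiguous diagonals with constant product away from the first entry;
* `r1_pair` : a matrix that is scalar up to rank one, as a product of two cyclic matrices.
-/

set_option autoImplicit false
set_option linter.unusedSectionVars false

namespace Cfsg.Agent.CovNum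

open Matrix Polynomial Submodule Cfsg.Agent.SLComm

variable {F : Type*} [Field F] {n m : ℕ}

theorem GC.inv {x y : Matrix (Fin n) (Fin n) F} (h : GC x y) (hx : x.det ≠ 0) : GC x⁻¹ y⁻¹ := by
  obtain ⟨g, hg, he⟩ := h
  have hy : y.det ≠ 0 := by rw [GC.det_eq (x := x) ⟨g, hg, he⟩]; exact hx
  refine ⟨g, hg, ?_⟩
  calc g * x⁻¹ = y⁻¹ * (y * g) * x⁻¹ := by rw [nonsing_inv_mul_cancel_left _ _ (Ne.isUnit hy)]
    _ = y⁻¹ * g := by rw [← he, Matrix.mul_assoc, mul_nonsing_inv_cancel_right _ _ (Ne.isUnit hx)]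

theorem pair_conj {R G : Matrix (Fin n) (Fin n) F} {P Q : Matrix (Fin n) (Fin n) F → Prop}
    (hP : ∀ M N, P M → GC M N → P N) (hQ : ∀ M N, Q M → GC M N → Q N)
    (h : ∃ M M', P M ∧ Q M' ∧ R = M * M') (hR : GC R G) : ∃ M M', P M ∧ Q M' ∧ G = M * M' := by
  obtain ⟨M, M', h1, h2, rfl⟩ := h
  obtain ⟨g, hg, he⟩ := hR
  have hu := Ne.isUnit hg
  refine ⟨g * M * g⁻¹, g * M' * g⁻¹, hP M _ h1 ⟨g, hg, ?_⟩, hQ M' _ h2 ⟨g, hg, ?_⟩, ?_⟩
  · rw [nonsing_inv_mul_cancel_right _ _ hu]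
  · rw [nonsing_inv_mul_cancel_right _ _ hu]
  · have : G = g * (M * M') * g⁻¹ := by rw [he, mul_nonsing_inv_cancel_right _ _ hu]
    rw [this]
    simp only [Matrix.mul_assoc, nonsing_inv_mul_cancel_left _ _ hu]

theorem upr_mul {A B : Matrix (Fin n) (Fin n) F} (hA : Upr A) (hB : Upr B) : Upr (A * B) := by
  intro i j hij
  rw [Matrix.mul_apply, Finset.sum_eq_zero]
  intro k _
  rcases lt_or_ge k i with h | h
  · rw [hA i k h, zero_mul]
  · rw [hB k j (lt_of_lt_of_le hij h), mul_zero]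

theorem upr_bl {β : F} {b : Fin m → F} {D : Matrix (Fin m) (Fin m) F} (h : Upr D) : Upr (bl β 0 b D) := by
  intro i j hij
  induction i using Fin.cases with
  | zero => simp at hij
  | succ i =>
    induction j using Fin.cases with
    | zero => simp
    | succ j => simpa using h i j (Fin.succ_lt_succ_iff.1 hij)

theorem super_bl {β : F} {b : Fin (m + 1) → F} {D : Matrix (Fin (m + 1)) (Fin (m + 1)) F} (hb : b 0 ≠ 0)
    (h : ∀ i j : Fin (m + 1), j.val = i.val + 1 → D i j ≠ 0) (i j : Fin (m + 2)) (hij : j.val = i.val + 1) :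
    bl β 0 b D i j ≠ 0 := by
  induction j using Fin.cases with
  | zero => simp at hij
  | succ j =>
    induction i using Fin.cases with
    | zero =>
      rw [show j = 0 from Fin.ext (by simpa using hij), bl_zero_succ]
      exact hb
    | succ i => simpa using h i j (by simpa using hij)

/-- Upper triangular with full superdiagonal and contiguous diagonal. -/
theorem upper_cls' {M : Matrix (Fin n) (Fin n) F} {d : Fin n → F} (hU : Upr M) (hd : ∀ i, M i i = d i)
    (hC : Contig d) (hs : ∀ i j : Fin n, j.val = i.val + 1 → M i j ≠ 0) :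
    Cls (rp (Finset.univ.val.map d)) M := by
  have := upper_cls hU (fun i j k h1 h2 h3 => by simp only [hd] at h3 ⊢; exact hC i j k h1 h2 h3)
    fun i j h _ => hs i j h
  rwa [show diagMs M = Finset.univ.val.map d from Multiset.map_congr rfl fun i _ => hd i] at this

theorem exists_vec {G : Matrix (Fin (m + 3)) (Fin (m + 3)) F} (hG : ∀ c : F, G ≠ c • 1) {β : F}
    (hns : ¬ R1 β G) : ∃ v : Fin (m + 3) → F, v ≠ 0 ∧ G *ᵥ v ∉ span F ({v} : Set (Fin (m + 3) → F)) ∧
      ∃ w, (G - β • 1) *ᵥ w ∉ span F ({v, (G - β • 1) *ᵥ v} : Set (Fin (m + 3) → F)) := by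
  set N := G - β • 1 with hN
  by_cases htop : LinearMap.range N.mulVecLin = ⊤
  · obtain ⟨v, hv, hne⟩ := exists_noneig hG
    refine ⟨v, hv, hne, ?_⟩
    by_contra! hcon
    have hle : (⊤ : Submodule F (Fin (m + 3) → F)) ≤ span F {v, N *ᵥ v} := by
      rw [← htop]; rintro _ ⟨w, rfl⟩; exact hcon w
    have := Submodule.finrank_mono hle
    rw [finrank_top, Module.finrank_fin_fun] at this
    exact absurd (this.trans (SLComm.finrank_pair_le _ _)) (by omega)
  · obtain ⟨v, hvR, hvK⟩ : ∃ v, v ∉ LinearMap.range N.mulVecLin ∧ v ∉ LinearMap.ker N.mulVecLin := by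
      by_contra! h
      obtain ⟨p, hp⟩ : ∃ p, p ∉ LinearMap.range N.mulVecLin := by
        by_contra! h'; exact htop (eq_top_iff.2 fun z _ => h' z)
      obtain ⟨q, hq⟩ : ∃ q, q ∉ LinearMap.ker N.mulVecLin := by
        by_contra! h'
        exact hns ⟨0, 0, Matrix.ext_of_mulVec_single fun i => by
          rw [← hN, show N *ᵥ Pi.single i 1 = 0 from h' (Pi.single i 1)]
          simp [vecMulVec_zero]
          ext j; simp⟩
      have hqR : q ∈ LinearMap.range N.mulVecLin := by_contra fun hh => hq (h q hh)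
      have hpq : p + q ∉ LinearMap.range N.mulVecLin := fun hh => hp (by simpa using sub_mem hh hqR)
      exact hq (by simpa using sub_mem (h _ hpq) (h p hp))
    have hv0 : v ≠ 0 := fun e => hvR (e ▸ zero_mem _)
    refine ⟨v, hv0, fun hG' => ?_, ?_⟩
    · obtain ⟨c, hc⟩ := mem_span_singleton.1 hG'
      have e : N *ᵥ v = (c - β) • v := by rw [hN, sub_mulVec, smul_mulVec, one_mulVec, ← hc, sub_smul]
      by_cases hcb : c = β
      · exact hvK (LinearMap.mem_ker.2 (by simp [e, hcb]))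
      · exact hvR ⟨(c - β)⁻¹ • v, by
          simp [e, smul_smul, mulVec_smul, inv_mul_cancel₀ (sub_ne_zero.2 hcb)]⟩
    · by_contra! hcon
      refine hns (R1.of_image (u := N *ᵥ v) fun w => ?_)
      obtain ⟨t, s, hts⟩ := mem_span_pair.1 (hcon w)
      by_cases ht : t = 0
      · exact mem_span_singleton.2 ⟨s, by rw [← hN, ← hts, ht]; simp⟩
      · exact absurd ⟨t⁻¹ • (w - s • v), by
          simp [mulVec_smul, mulVec_sub, ← hts, smul_smul, inv_mul_cancel₀ ht]⟩ hvR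

theorem eq_vecMulVec_of_pair {A : Matrix (Fin n) (Fin n) F} {a f : Fin n → F} (hf : f ≠ 0)
    (ha0 : a ≠ 0)
    (hA : ¬ ∀ w, A *ᵥ w ∈ span F ({a} : Set (Fin n → F))) {t1 t2 : F} (ht : t1 ≠ t2) {u1 g1 u2 g2 : Fin n → F}
    (h1 : A - t1 • vecMulVec a f = vecMulVec u1 g1) (h2 : A - t2 • vecMulVec a f = vecMulVec u2 g2) :
    ∃ u, A = vecMulVec u f := by
  obtain ⟨i, hi⟩ := Function.ne_iff.1 hf
  have hAw : ∀ w, A *ᵥ w = (g1 ⬝ᵥ w) • u1 + (t1 * (f ⬝ᵥ w)) • a := fun w => by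
    rw [← sub_add_cancel A (t1 • vecMulVec a f), h1, add_mulVec, smul_mulVec, vecMulVec_mulVec', vecMulVec_mulVec',
      smul_smul]
  have hca : ∀ w, ((t2 - t1) * (f ⬝ᵥ w)) • a = (g1 ⬝ᵥ w) • u1 - (g2 ⬝ᵥ w) • u2 := fun w => by
    rw [← vecMulVec_mulVec' u1, ← vecMulVec_mulVec' u2, ← h1, ← h2, ← sub_mulVec, sub_sub_sub_cancel_left, ← sub_smul,
      smul_mulVec, vecMulVec_mulVec', smul_smul]
  have hker : ∀ z, f ⬝ᵥ z = 0 → A *ᵥ z = 0 := by
    intro z hz
    by_contra hne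
    have e1 := hAw z
    rw [hz, mul_zero, zero_smul, add_zero] at e1
    have hg1 : g1 ⬝ᵥ z ≠ 0 := fun e => hne (by rw [e1, e, zero_smul])
    have hu1 : u1 ≠ 0 := fun e => hne (by rw [e1, e, smul_zero])
    have e2 := hca z
    rw [hz, mul_zero, zero_smul, eq_comm, sub_eq_zero] at e2
    have hg2 : g2 ⬝ᵥ z ≠ 0 := fun e => hne (by rw [e1, e2, e, zero_smul])
    have hu2 : u2 = ((g1 ⬝ᵥ z) / (g2 ⬝ᵥ z)) • u1 := by
      rw [div_eq_inv_mul, mul_smul, e2, inv_smul_smul₀ hg2]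
    obtain ⟨w, hw⟩ : ∃ w, f ⬝ᵥ w = 1 := ⟨(f i)⁻¹ • Pi.single i 1, by simp [inv_mul_cancel₀ (show f i ≠ 0 from hi)]⟩
    have e3 := hca w
    rw [hw, mul_one, hu2, smul_smul, ← sub_smul] at e3
    have ha : a ∈ span F ({u1} : Set (Fin n → F)) := (Submodule.smul_mem_iff _ (sub_ne_zero.2 ht.symm)).1
      (e3 ▸ smul_mem _ _ (mem_span_singleton_self u1))
    obtain ⟨k, hk⟩ := mem_span_singleton.1 ha
    refine hA fun w' => ?_
    have hk0 : k ≠ 0 := fun e => ha0 (by rw [← hk, e, zero_smul])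
    rw [hAw w', ← hk, smul_smul, ← add_smul]
    exact mem_span_singleton.2 ⟨((g1 ⬝ᵥ w') + t1 * (f ⬝ᵥ w') * k) * k⁻¹, by
      rw [smul_smul, mul_assoc, inv_mul_cancel₀ hk0, mul_one]⟩
  obtain ⟨w, hw⟩ : ∃ w, f ⬝ᵥ w = 1 := ⟨(f i)⁻¹ • Pi.single i 1, by simp [inv_mul_cancel₀ (show f i ≠ 0 from hi)]⟩
  refine ⟨A *ᵥ w, Matrix.ext_of_mulVec_single fun j => ?_⟩
  rw [vecMulVec_mulVec', ← mulVec_smul, ← sub_eq_zero, ← mulVec_sub]
  refine hker _ ?_
  rw [dotProduct_sub, dotProduct_smul (f ⬝ᵥ Pi.single j 1), hw, smul_eq_mul, mul_one, sub_self]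

theorem exists_step [Fintype F] (h4 : 4 ≤ Fintype.card F) {G : Matrix (Fin (m + 4)) (Fin (m + 4)) F}
    (hG : ∀ c : F, G ≠ c • 1) (hr : ∀ c : F, ¬ R1 c G) (hD : G.det ≠ 0) :
    ∃ (a b : Fin (m + 3) → F) (Dm : Matrix (Fin (m + 3)) (Fin (m + 3)) F), a ≠ 0 ∧ b ≠ 0 ∧
      GC G (bl G.det a b Dm) ∧ (schur G.det a b Dm).det = 1 ∧ (∀ c : F, schur G.det a b Dm ≠ c • 1) ∧
      ∀ l : Fin (m + 3) → F, ∃ w, (schur G.det a b Dm - 1) *ᵥ w ∉ span F ({l} : Set (Fin (m + 3) → F)) := by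
  classical
  set D := G.det with hDdef
  obtain ⟨v, hv, hne, w, hw⟩ := exists_vec hG (β := 1) (hr 1)
  obtain ⟨r, hr1, hr2⟩ := exists_dual2 hv hne 1 D
  obtain ⟨a, b, Dm, P, hP, hGC, hmul, hPv, -, hPa⟩ := exists_form_vec G hr1
  rw [hr2] at hPa hGC hmul
  have ha : a ≠ 0 := by
    rintro rfl
    refine hne (mem_span_singleton.2 ⟨D, ?_⟩)
    rw [← hPa, ← hPv, single_eq_cons, ← mulVec_smul]
    congr 1
    ext i; induction i using Fin.cases <;> simp
  set S := schur D a b Dm with hS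
  set A := S - 1 with hA
  have hAspan : ¬ ∀ z, A *ᵥ z ∈ span F ({a} : Set (Fin (m + 3) → F)) := by
    intro hcon
    refine hw ?_
    obtain ⟨z, rfl⟩ : ∃ z, P *ᵥ z = w :=
      ⟨P⁻¹ *ᵥ w, by rw [mulVec_mulVec, mul_nonsing_inv _ (Ne.isUnit hP), one_mulVec]⟩
    obtain ⟨k, hk⟩ := mem_span_singleton.1 (hcon (Fin.tail z))
    have hNP : ∀ z, (G - (1 : F) • 1) *ᵥ (P *ᵥ z) = P *ᵥ ((bl D a b Dm - (1 : F) • 1) *ᵥ z) := fun z => by
      rw [mulVec_mulVec, mulVec_mulVec, Matrix.sub_mul, Matrix.mul_sub, hmul, Matrix.smul_mul, Matrix.mul_smul,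
        Matrix.one_mul, Matrix.mul_one]
    refine mem_span_pair.2 ⟨(D - 1) * z 0 + b ⬝ᵥ Fin.tail z - (z 0 + k + D⁻¹ * (b ⬝ᵥ Fin.tail z)) * (D - 1),
      z 0 + k + D⁻¹ * (b ⬝ᵥ Fin.tail z), ?_⟩
    rw [hNP, ← hPv, hNP, single_eq_cons, ← mulVec_smul, ← mulVec_smul, ← mulVec_add]
    congr 1
    have hDz : Dm *ᵥ Fin.tail z = Fin.tail z + (k + D⁻¹ * (b ⬝ᵥ Fin.tail z)) • a := by
      have : Dm = A + 1 + D⁻¹ • vecMulVec a b := by simp [hA, hS, schur]
      rw [this, add_mulVec, add_mulVec, ← hk, smul_mulVec, one_mulVec, vecMulVec_mulVec', smul_smul, add_smul]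
      abel
    conv_rhs => rw [← Fin.cons_self_tail z, sub_mulVec, bl_mulVec, hDz, one_smul, one_mulVec]
    rw [sub_mulVec, one_smul, one_mulVec, bl_mulVec]
    ext i
    induction i using Fin.cases with
    | zero => simp; ring
    | succ i => simp [Fin.tail]; ring
  have hSd : S.det = 1 := by
    have := schur_det hD hGC
    exact mul_left_cancel₀ hD (this.trans (by rw [mul_one]))
  have hSu : IsUnit S.det := by rw [hSd]; exact isUnit_one
  obtain ⟨g, hg⟩ : ∃ g : Fin (m + 3) → F, ∀ u g', A = vecMulVec u g' → g' ∈ span F ({g} : Set (Fin (m + 3) → F)) := by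
    by_cases hex : ∃ u0 g0, A = vecMulVec u0 g0
    · obtain ⟨u0, g0, he0⟩ := hex
      refine ⟨g0, fun u g' he' => ?_⟩
      obtain ⟨i, hi⟩ : ∃ i, u i ≠ 0 := by
        by_contra! h
        exact hAspan fun z => by rw [he', vecMulVec_mulVec', show u = 0 from funext h, smul_zero]; exact zero_mem _
      refine mem_span_singleton.2 ⟨u0 i / u i, funext fun j => ?_⟩
      have := congrFun (congrFun (he0.symm.trans he') i) j
      simp only [vecMulVec_apply] at this
      rw [Pi.smul_apply, smul_eq_mul, div_mul_eq_mul_div, this, mul_div_cancel_left₀ _ hi]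
    · exact ⟨0, fun u g' he' => absurd ⟨u, g', he'⟩ hex⟩
  -- the functional
  set W : Submodule F (Fin (m + 3) → F) := LinearMap.ker (dotProductBilin F F a) with hW
  have hW2 : 2 ≤ Module.finrank F W := by
    have := finrank_orth (F := F) a
    rw [hW]; omega
  have hmemW : ∀ δ : Fin (m + 3) → F, δ ∈ W ↔ δ ⬝ᵥ a = 0 := fun δ => by
    rw [hW, LinearMap.mem_ker, dotProduct_comm]; rfl
  obtain ⟨δ, hδW, hδg, hδK⟩ : ∃ δ, δ ∈ W ∧ δ ᵥ* S ∉ span F ({g} : Set (Fin (m + 3) → F)) ∧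
      ((∃ δ' ∈ W, δ' ᵥ* (S - D • 1) ≠ 0) → δ ᵥ* (S - D • 1) ≠ 0) := by
    obtain ⟨x, hxW, hxg⟩ := exists_notMem_span hW2 (g ᵥ* S⁻¹)
    have hx : x ᵥ* S ∉ span F ({g} : Set (Fin (m + 3) → F)) := by
      intro h
      obtain ⟨k, hk⟩ := mem_span_singleton.1 h
      refine hxg (mem_span_singleton.2 ⟨k, ?_⟩)
      rw [← smul_vecMul, hk, vecMul_vecMul, mul_nonsing_inv _ hSu, vecMul_one]
    by_cases hK : ∃ δ' ∈ W, δ' ᵥ* (S - D • 1) ≠ 0
    swap
    · exact ⟨x, hxW, hx, fun h => absurd h hK⟩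
    obtain ⟨y, hyW, hy⟩ := hK
    by_cases h1 : x ᵥ* (S - D • 1) = 0
    swap
    · exact ⟨x, hxW, hx, fun _ => h1⟩
    by_cases h2 : y ᵥ* S ∈ span F ({g} : Set (Fin (m + 3) → F))
    swap
    · exact ⟨y, hyW, h2, fun _ => hy⟩
    refine ⟨x + y, add_mem hxW hyW, fun h => hx ?_, fun _ => by rw [add_vecMul, h1, zero_add]; exact hy⟩
    rw [add_vecMul] at h
    simpa using sub_mem h h2
  rw [hmemW] at hδW
  set f := D⁻¹ • (δ ᵥ* S) with hf
  have hfg : f ∉ span F ({g} : Set (Fin (m + 3) → F)) := fun h =>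
    hδg ((Submodule.smul_mem_iff _ (inv_ne_zero hD)).1 h)
  have hf0 : f ≠ 0 := fun e => hfg (e ▸ zero_mem _)
  -- the family
  set bt : F → (Fin (m + 3) → F) := fun t => b + t • (δ ᵥ* (S - D • 1)) with hbt
  set Dt : F → Matrix (Fin (m + 3)) (Fin (m + 3)) F := fun t => Dm - vecMulVec a (t • δ) with hDt
  have hδD : δ ᵥ* Dm = δ ᵥ* S := by
    rw [show Dm = S + D⁻¹ • vecMulVec a b by simp [hS, schur], vecMul_add, vecMul_smul, vecMul_vecMulVec, hδW,
      zero_smul, smul_zero, add_zero]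
  have hfam : ∀ t, GC G (bl D a (bt t) (Dt t)) ∧ schur D a (bt t) (Dt t) = S - t • vecMulVec a f := fun t => by
    refine ⟨hGC.trans ?_, ?_⟩
    · have h1 := (sc_shear D a b (t • δ) Dm).gc
      have e : b + (t • δ) ᵥ* Dm - (D + (t • δ) ⬝ᵥ a) • (t • δ) = bt t := by
        simp only [smul_dotProduct, hδW, smul_zero, add_zero, hbt, smul_vecMul, hδD, vecMul_sub, vecMul_smul, vecMul_one,
          smul_sub]
        rw [smul_comm D t, add_sub_assoc]
      rwa [e, show D + (t • δ) ⬝ᵥ a = D by rw [smul_dotProduct, hδW, smul_zero, add_zero]] at h1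
    · rw [hS]
      simp only [schur, hbt, hDt, hf, vecMulVec_add, Matrix.vecMulVec_smul, vecMul_sub, vecMul_smul, vecMul_one,
        Matrix.vecMulVec_sub, smul_add, smul_sub, smul_smul]
      rw [show D⁻¹ * (t * D) = t by field_simp]
      simp only [mul_comm D⁻¹ t]
      abel
  have hscal : ∀ t1 t2 : F, (∃ c : F, S - t1 • vecMulVec a f = c • 1) → (∃ c : F, S - t2 • vecMulVec a f = c • 1) →
      t1 = t2 := by
    rintro t1 t2 ⟨c1, h1⟩ ⟨c2, h2⟩
    have e : (t2 - t1) • vecMulVec a f = (c1 - c2) • (1 : Matrix (Fin (m + 3)) (Fin (m + 3)) F) := by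
      rw [sub_smul, sub_smul, ← h1, ← h2, sub_sub_sub_cancel_left]
    have hc : c1 - c2 = 0 := vecMulVec_eq_smul (by omega) (by simp) (e.symm.trans (Matrix.smul_vecMulVec _ _ _).symm)
    rw [hc, zero_smul, smul_eq_zero] at e
    rcases e with e | e
    · exact (sub_eq_zero.1 e).symm
    · rcases vecMulVec_eq_zero' e with e | e
      exacts [absurd e ha, absurd e hf0]
  have hone : ∀ t1 t2 : F, R1 1 (S - t1 • vecMulVec a f) → R1 1 (S - t2 • vecMulVec a f) → t1 = t2 := by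
    rintro t1 t2 ⟨u1, g1, h1⟩ ⟨u2, g2, h2⟩
    by_contra hne'
    rw [one_smul, sub_right_comm] at h1 h2
    obtain ⟨u, hu⟩ := eq_vecMulVec_of_pair hf0 ha hAspan hne' h1 h2
    exact hfg (hg u f hu)
  have hzero : ∀ t1 t2, bt t1 = 0 → bt t2 = 0 → t1 = t2 := by
    intro t1 t2 h1 h2
    by_cases hd : δ ᵥ* (S - D • 1) = 0
    · exfalso
      simp only [hbt, hd, smul_zero, add_zero] at h1
      have hK : ∀ δ' ∈ W, δ' ᵥ* (S - D • 1) = 0 := fun δ' hδ' => by
        by_contra hne'; exact hδK ⟨δ', hδ', hne'⟩ hd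
      subst h1
      refine hr D (R1.gc (R1.of_image (u := Fin.cons 0 a) fun z => ?_) hGC.symm)
      obtain ⟨k, hk⟩ := mem_span_singleton.1 (mem_span_of_annih (a := a) (z := (S - D • 1) *ᵥ Fin.tail z)
        fun f' hf' => by rw [dotProduct_mulVec, hK f' ((hmemW f').2 hf'), zero_dotProduct])
      refine mem_span_singleton.2 ⟨z 0 + k, ?_⟩
      have hSD : S = Dm := by simp [hS, schur, Matrix.vecMulVec_zero]
      rw [hSD, sub_mulVec, smul_mulVec, one_mulVec] at hk
      conv_rhs => rw [sub_mulVec, smul_mulVec, one_mulVec, ← Fin.cons_self_tail z, bl_mulVec]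
      ext i
      induction i using Fin.cases with
      | zero => simp
      | succ i =>
        have := congrFun hk i
        simp [Fin.tail] at this ⊢
        linear_combination this
    · have e : (t1 - t2) • (δ ᵥ* (S - D • 1)) = 0 := by
        rw [sub_smul, sub_eq_zero]
        exact add_left_cancel (h1.trans h2.symm)
      exact sub_eq_zero.1 ((smul_eq_zero.1 e).resolve_right hd)
  -- choose the parameter
  have pick : ∀ p : F → Prop, (∀ t1 t2, p t1 → p t2 → t1 = t2) → ∃ t0, ∀ t, p t → t = t0 := fun p hp => by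
    by_cases h : ∃ t, p t
    · obtain ⟨t0, h0⟩ := h; exact ⟨t0, fun t ht => hp t t0 ht h0⟩
    · exact ⟨0, fun t ht => absurd ⟨t, ht⟩ h⟩
  obtain ⟨ta, hta⟩ := pick _ hscal
  obtain ⟨tb, htb⟩ := pick _ hone
  obtain ⟨tc, htc⟩ := pick _ hzero
  obtain ⟨t, h1, h2, h3⟩ := exists_avoid_three h4 ta tb tc
  obtain ⟨hG', hS'⟩ := hfam t
  refine ⟨a, bt t, Dt t, ha, fun e => h3 (htc t e), hG', ?_, ?_, ?_⟩
  · exact mul_left_cancel₀ hD ((schur_det hD hG').trans (by rw [mul_one]))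
  · intro c hc; rw [hS'] at hc; exact h1 (hta t ⟨c, hc⟩)
  · intro l
    by_contra! hcon
    rw [hS'] at hcon
    exact h2 (htb t (R1.of_image (u := l) fun z => by rw [one_smul]; exact hcon z))

set_option maxHeartbeats 800000 in
/-- Prescribed triangular factors. -/
theorem lu_pair_generic [Fintype F] (h4 : 4 ≤ Fintype.card F) {lam mu : Fin (m + 4) → F} {β : F} (hβ : β ≠ 0)
    (hlam : ∀ i, lam i ≠ 0) (hrel : ∀ i, i ≠ 0 → lam i * mu i = β) (hmu : mu 0 ≠ 0) (hl : Contig lam)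
    (hmc : Contig mu) {G : Matrix (Fin (m + 4)) (Fin (m + 4)) F} (hG : ∀ c : F, G ≠ c • 1)
    (hr : ∀ c : F, ¬ R1 c G) (hdet : G.det = (∏ i, lam i) * ∏ i, mu i) :
    ∃ M M', Cls (rp (Finset.univ.val.map lam)) M ∧ Cls (rp (Finset.univ.val.map mu)) M' ∧ G = M * M' := by
  classical
  set G' := β⁻¹ • G with hG'
  have hGG : G = β • G' := by rw [hG', smul_smul, mul_inv_cancel₀ hβ, one_smul]
  have hD : G'.det = lam 0 * mu 0 * β⁻¹ := by
    rw [hG', det_smul, Fintype.card_fin, hdet, ← Finset.prod_mul_distrib, Fin.prod_univ_succ,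
      Finset.prod_congr rfl fun i _ => hrel i.succ (Fin.succ_ne_zero i), Finset.prod_const, Finset.card_univ,
      Fintype.card_fin, inv_pow, show β ^ (m + 4) = β ^ (m + 3) * β by ring]
    field_simp
  have hD0 : G'.det ≠ 0 := by rw [hD]; exact mul_ne_zero (mul_ne_zero (hlam 0) hmu) (inv_ne_zero hβ)
  obtain ⟨a, b, Dm, ha, hb, hGC, hSd, hSs, hSr⟩ := exists_step h4
    (fun c hc => hG (β * c) (by rw [hGG, hc, smul_smul]))
    (fun c hc => hr (β * c) (by rw [hGG]; exact hc.smul β)) hD0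
  set D := G'.det
  set S := schur D a b Dm with hS
  obtain ⟨B, L, U, x', hB, hL, hU, hBeq, hx', hx0, hb0⟩ := regSplit (Finset.univ : Finset F)
    (by rw [Finset.card_univ]; exact h4) (m + 2) S hSd (fun _ => ⟨hSs, hSr⟩) a b ha hb
  set u0 := mu 0 / β with hu0
  have hu00 : u0 ≠ 0 := div_ne_zero hmu hβ
  have hDu : lam 0 * u0 = D := by rw [hD, hu0]; ring
  set l' : Fin (m + 3) → F := fun i => lam i.succ with hl'
  set M1 := bl (lam 0) (u0⁻¹ • x') 0 (L * diagonal l') with hM1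
  set N1 := bl u0 0 ((lam 0)⁻¹ • (b ᵥ* B)) (diagonal (fun i => (l' i)⁻¹) * U) with hN1
  have hprod : M1 * N1 = bl D x' (b ᵥ* B) (D⁻¹ • vecMulVec x' (b ᵥ* B) + L * U) := by
    rw [hM1, hN1, bl_mul]
    congr 1
    · simp [hDu]
    · simp [smul_smul, hu00]
    · simp [smul_smul, hlam 0]
    · rw [Matrix.smul_vecMulVec, Matrix.vecMulVec_smul, smul_smul, ← hDu, mul_inv, mul_comm u0⁻¹,
        ← Matrix.mul_assoc (L * diagonal l'), Matrix.mul_assoc L, diagonal_mul_diagonal,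
        show (fun i => l' i * (l' i)⁻¹) = fun _ => (1 : F) from funext fun i => mul_inv_cancel₀ (hlam _),
        diagonal_one, Matrix.mul_one]
  have hconj : GC (M1 * N1) G' := by
    refine GC.trans ?_ hGC.symm
    refine ⟨bl 1 0 0 B, by rw [det_diag, one_mul]; exact hB, ?_⟩
    rw [hprod, diag_mul_bl, bl_mul_diag, one_mul, mul_one, one_smul, one_smul, hx', Matrix.mul_add,
      Matrix.mul_smul, mul_vecMulVec, hx', ← hBeq, hS, schur, Matrix.sub_mul, Matrix.smul_mul, vecMulVec_mul,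
      add_sub_cancel]
  have hM1c : Cls (rp (Finset.univ.val.map lam)) M1 := by
    refine Cls.of_transpose ?_ (rp_monic _)
    rw [hM1, bl_transpose, transpose_mul, diagonal_transpose]
    refine upper_cls' (upr_bl fun i j hij => ?_) (fun i => ?_) hl (super_bl ?_ fun i j hij => ?_)
    · rw [diagonal_mul, hL.1 i j hij, mul_zero]
    · induction i using Fin.cases with
      | zero => rfl
      | succ i => rw [bl_succ_succ, diagonal_mul, hL.2.1 i, mul_one]
    · simpa [hu00] using hx0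
    · rw [diagonal_mul]; exact mul_ne_zero (hlam _) (hL.2.2 i j hij)
  have hN1c : Cls (rp (Finset.univ.val.map mu)) (β • N1) := by
    refine upper_cls' ?_ (fun i => ?_) hmc ?_
    · intro i j hij
      rw [Matrix.smul_apply, hN1, upr_bl (fun i j hij => by rw [diagonal_mul, hU.1 i j hij, mul_zero]) i j hij,
        smul_zero]
    · induction i using Fin.cases with
      | zero => rw [Matrix.smul_apply, hN1, bl_zero_zero, hu0, smul_eq_mul, mul_div_cancel₀ _ hβ]
      | succ i =>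
        rw [Matrix.smul_apply, hN1, bl_succ_succ, diagonal_mul, hU.2.1 i, mul_one, smul_eq_mul,
          ← hrel i.succ (Fin.succ_ne_zero i), hl', mul_comm (lam i.succ), mul_assoc, mul_inv_cancel₀ (hlam _), mul_one]
    · intro i j hij
      rw [Matrix.smul_apply, hN1]
      refine smul_ne_zero hβ (super_bl ?_ (fun i j hij => ?_) i j hij)
      · simpa [hlam 0] using hb0
      · rw [diagonal_mul]; exact mul_ne_zero (inv_ne_zero (hlam _)) (hU.2.2 i j hij)
  refine pair_conj (fun M N h h' => h.of_gc h') (fun M N h h' => h.of_gc h')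
    ⟨M1, β • N1, hM1c, hN1c, rfl⟩ ?_
  rw [hGG, Matrix.mul_smul]
  exact hconj.smul β

/-- A matrix that is scalar up to rank one. -/
theorem r1_pair [Fintype F] (h4 : 4 ≤ Fintype.card F) {lam : Fin (m + 3) → F} (hlam : ∀ i, lam i ≠ 0) (hl : Contig lam) {f' : F[X]} (hf' : f'.Monic)
    (hdeg : f'.natDegree = m + 3) (hf0 : f'.coeff 0 ≠ 0) {G : Matrix (Fin (m + 3)) (Fin (m + 3)) F}
    (hG : ∀ c : F, G ≠ c • 1) {γ : F} (hr : R1 γ G) (hdet : G.det = (∏ i, lam i) * cdet f') :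
    ∃ M M', Cls (rp (Finset.univ.val.map lam)) M ∧ Cls f' M' ∧ G = M * M' := by
  classical
  set f := rp (Finset.univ.val.map lam) with hfdef
  have hfm : f.Monic := rp_monic _
  have hfd : f.natDegree = m + 3 := by rw [hfdef, rp_natDegree]; simp
  have hGd : G.det ≠ 0 := by
    rw [hdet]
    exact mul_ne_zero (Finset.prod_ne_zero_iff.2 fun i _ => hlam i)
      (mul_ne_zero (pow_ne_zero _ (neg_ne_zero.2 one_ne_zero)) hf0)
  have hγ : γ ≠ 0 := by
    rintro rfl
    obtain ⟨u, g, he⟩ := hr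
    obtain ⟨w, hw0, hw⟩ := exists_orth (by omega : 2 ≤ m + 3) g
    exact hGd (Matrix.exists_mulVec_eq_zero_iff.1 ⟨w, hw0, by rw [R1.apply he w, hw, zero_smul, zero_smul, add_zero]⟩)
  set g := invPoly f' with hg
  have hgm := invPoly_monic hf0
  have hgd : g.natDegree = m + 3 := by rw [hg, invPoly_natDegree hf0, hdeg]
  have hC' : Cls f' (cm (m := m + 2) f') := cls_cm hf' hdeg
  have hC'd : (cm (m := m + 2) f').det ≠ 0 := by
    rw [hC'.det hf']; exact mul_ne_zero (pow_ne_zero _ (neg_ne_zero.2 one_ne_zero)) hf0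
  set C := cm (m := m + 2) g with hC
  have hgc := (hC'.inv hf' hf0).gc (cls_cm (m := m + 2) hgm hgd)
  have hCi : Cls f' C⁻¹ := by
    refine hC'.of_gc ?_
    have := hgc.inv (by rw [det_nonsing_inv, Ring.inverse_eq_inv']; exact inv_ne_zero hC'd)
    rwa [nonsing_inv_nonsing_inv _ (Ne.isUnit hC'd)] at this
  have hCd : C.det ≠ 0 := by
    rw [hgc.det_eq, det_nonsing_inv, Ring.inverse_eq_inv']; exact inv_ne_zero hC'd
  set Δ := diagonal (fun i : Fin (m + 3) => γ ^ i.val) with hΔ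
  have hΔd : Δ.det ≠ 0 := by rw [hΔ, det_diagonal]; exact Finset.prod_ne_zero_iff.2 fun i _ => pow_ne_zero _ hγ
  set M := Δ * cm (m := m + 2) f * Δ⁻¹ with hM
  have hMc : Cls f M := (cls_cm hfm hfd).of_gc ⟨Δ, hΔd, by rw [hM, nonsing_inv_mul_cancel_right _ _ (Ne.isUnit hΔd)]⟩
  have hMe : ∀ j : Fin (m + 2), M *ᵥ Pi.single j.castSucc 1 = γ • Pi.single j.succ 1 := by
    intro j
    refine mulVec_inj (M := 1) (by simp) ?_
    have e1 : Δ *ᵥ Pi.single j.castSucc 1 = γ ^ j.val • Pi.single j.castSucc 1 := by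
      rw [hΔ, Matrix.mulVec_single_one]; ext i; simp [diagonal, Pi.single_apply]; split_ifs with h <;> simp [h]
    have e2 : Δ *ᵥ Pi.single j.succ 1 = (γ ^ j.val * γ) • Pi.single j.succ 1 := by
      rw [hΔ, Matrix.mulVec_single_one]; ext i; simp [diagonal, Pi.single_apply]; split_ifs with h <;> simp [h, pow_succ]
    have e3 : Δ⁻¹ *ᵥ Pi.single j.castSucc 1 = (γ ^ j.val)⁻¹ • Pi.single j.castSucc 1 := by
      refine mulVec_inj hΔd ?_
      rw [mulVec_mulVec, mul_nonsing_inv _ (Ne.isUnit hΔd), one_mulVec, mulVec_smul, e1, smul_smul,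
        inv_mul_cancel₀ (pow_ne_zero _ hγ), one_smul]
    rw [hM, ← mulVec_mulVec, ← mulVec_mulVec, e3, mulVec_smul, cm_mulVec_single, mulVec_smul, e2, smul_smul,
      ← mul_assoc, inv_mul_cancel₀ (pow_ne_zero _ hγ), one_mul]
  set Q := M * C⁻¹ with hQ
  have hQe : ∀ j : Fin (m + 2), Q *ᵥ Pi.single j.succ 1 = γ • Pi.single j.succ 1 := fun j => by
    rw [hQ, ← mulVec_mulVec, ← hMe]
    congr 1
    refine mulVec_inj hCd ?_
    rw [mulVec_mulVec, mul_nonsing_inv _ (Ne.isUnit hCd), one_mulVec, hC, cm_mulVec_single]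
  have hQ1 : R1 γ Q := by
    refine ⟨(Q - γ • 1) *ᵥ Pi.single 0 1, Pi.single 0 1, Matrix.ext_of_mulVec_single fun j => ?_⟩
    rw [vecMulVec_mulVec']
    induction j using Fin.cases with
    | zero => simp
    | succ j =>
      rw [sub_mulVec, smul_mulVec, one_mulVec, hQe, sub_self, single_dotProduct,
        Pi.single_eq_of_ne (Fin.succ_ne_zero j).symm, mul_zero, zero_smul]
  have hQd : Q.det = G.det := by
    rw [hdet, hQ, det_mul, hMc.det hfm, hCi.det hf', hfdef, cdet_rp, Finset.prod_eq_multiset_prod]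
  by_cases hQs : ∀ c : F, Q ≠ c • 1
  · exact pair_conj (fun M N h h' => h.of_gc h') (fun M N h h' => h.of_gc h') ⟨M, C⁻¹, hMc, hCi, rfl⟩
      (r1_conj hQs hG hγ hQ1 hr hQd.symm).gc
  push Not at hQs
  obtain ⟨c, hc⟩ := hQs
  obtain rfl : c = γ := by
    have := congrFun (hQe 0) (Fin.succ 0)
    rw [hc, smul_mulVec, one_mulVec] at this
    simpa using this
  set X : Matrix (Fin (m + 3)) (Fin (m + 3)) F :=
    Matrix.of fun i j => if i = j then lam i else if j.val = i.val + 1 then 1 else 0 with hX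
  have hXu : Upr X := fun i j hij => by
    have h' : j.val < i.val := hij
    simp only [hX, Matrix.of_apply]
    rw [if_neg (ne_of_gt hij), if_neg (by omega)]
  have hXs : ∀ i j : Fin (m + 3), j.val = i.val + 1 → X i j = 1 := fun i j hij => by
    simp only [hX, Matrix.of_apply]
    rw [if_neg (fun e => by rw [e] at hij; omega), if_pos hij]
  have hXc : Cls f X := upper_cls' hXu (fun i => by simp [hX]) hl fun i j hij => by rw [hXs i j hij]; exact one_ne_zero
  have hXd : X.det ≠ 0 := by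
    rw [Matrix.det_of_isUpperTriangular (fun i j h => hXu i j h)]
    exact Finset.prod_ne_zero_iff.2 fun i _ => by simpa [hX] using hlam i
  obtain ⟨hIu, hId, hIs⟩ := upper_inv hXu hXd
  have hIs' : ∀ i j : Fin (m + 3), j.val = i.val + 1 → X⁻¹ i j ≠ 0 := fun i j hij =>
    hIs i j hij (by rw [hXs i j hij]; exact one_ne_zero)
  have hMd : M.det ≠ 0 := fun e => hGd (by rw [← hQd, hQ, det_mul, e, zero_mul])
  have hCM : C⁻¹ = c • M⁻¹ := by
    rw [← nonsing_inv_mul_cancel_left M C⁻¹ (Ne.isUnit hMd), ← hQ, hc, Matrix.mul_smul, Matrix.mul_one]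
  have hY0 : Cls f' (c • X⁻¹) := hCi.of_gc (by rw [hCM]; exact ((hMc.gc hXc).inv hMd).smul c)
  set e01 : Matrix (Fin (m + 3)) (Fin (m + 3)) F := vecMulVec (Pi.single 0 1) (Pi.single 1 1) with he01
  obtain ⟨k, hk0, hk⟩ : ∃ k : F, k ≠ 0 ∧ k / lam 0 + X⁻¹ 0 1 ≠ 0 := by
    obtain ⟨k, h1, h2, -⟩ := exists_avoid_three h4 0 (-X⁻¹ 0 1 * lam 0) 0
    exact ⟨k, h1, fun e => h2 (by field_simp [hlam 0] at e; linear_combination e)⟩
  set T := 1 + k • e01 with hT
  have h01 : (0 : Fin (m + 3)) ≠ 1 := Fin.ne_of_val_ne (by simp)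
  have hTe : ∀ i j, T i j = if i = j then 1 else if i = 0 ∧ j = 1 then k else 0 := fun i j => by
    rw [hT, he01, Matrix.add_apply, Matrix.smul_apply, vecMulVec_apply, Pi.single_apply, Pi.single_apply, smul_eq_mul,
      Matrix.one_apply]
    by_cases h1 : i = j
    · subst h1
      by_cases h2 : i = 0
      · subst h2; simp [h01]
      · simp [h2]
    · by_cases h2 : i = 0 <;> by_cases h3 : j = 1
      · simp [h2, h3, h01]
      · simp [h1, h3]
      · simp [h1, h2]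
      · simp [h1, h2]
  have hTu : Upr T := fun i j hij => by
    rw [hTe, if_neg (ne_of_gt hij), if_neg]
    rintro ⟨rfl, rfl⟩
    exact absurd hij (by simp)
  have hY : Cls f' (c • (X⁻¹ * T)) := by
    refine hY0.of_gc (Cls.gc (f := rp (Finset.univ.val.map fun i => c * (lam i)⁻¹)) ?_ ?_)
    · refine upper_cls' (fun i j hij => by simp [hIu i j hij]) (fun i => by rw [Matrix.smul_apply, hId, smul_eq_mul]; simp [hX]) ?_ fun i j hij =>
        by simpa [hγ] using hIs' i j hij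
      exact fun i j k' h1 h2 h3 => by rw [hl i j k' h1 h2 (inv_inj.1 (mul_left_cancel₀ hγ h3))]
    · refine upper_cls' (fun i j hij => ?_) (fun i => ?_) ?_ fun i j hij => ?_
      · rw [Matrix.smul_apply, upr_mul hIu hTu i j hij, smul_zero]
      · rw [Matrix.smul_apply, tri_diag_mul hIu hTu, hId, hTe, if_pos rfl, mul_one, smul_eq_mul]
        simp [hX]
      · exact fun i j k' h1 h2 h3 => by rw [hl i j k' h1 h2 (inv_inj.1 (mul_left_cancel₀ hγ h3))]
      · rw [Matrix.smul_apply, tri_super_mul hIu hTu hij, hTe, hTe, if_pos rfl, mul_one,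
          if_neg (fun e => by rw [e] at hij; omega)]
        refine smul_ne_zero hγ ?_
        split_ifs with h
        · obtain ⟨rfl, rfl⟩ := h
          rw [hId]
          simpa [hX, div_eq_mul_inv, mul_comm k] using hk
        · simpa using hIs' i j hij
  refine pair_conj (fun M N h h' => h.of_gc h') (fun M N h h' => h.of_gc h') ⟨X, c • (X⁻¹ * T), hXc, hY, rfl⟩ ?_
  rw [Matrix.mul_smul, mul_nonsing_inv_cancel_left _ _ (Ne.isUnit hXd)]
  refine (r1_conj (fun d hd => ?_) hG hγ ⟨(c * k) • Pi.single 0 1, Pi.single 1 1, ?_⟩ hr ?_).gc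
  · have := congrFun (congrFun hd 0) 1
    simp [hTe, hγ, hk0] at this
  · rw [hT, he01, smul_add, add_sub_cancel_left, smul_smul, Matrix.smul_vecMulVec]
  · rw [← hQd, hc, det_smul, det_smul, Matrix.det_of_isUpperTriangular (fun i j h => hTu i j h)]
    simp [hTe]

/-- Prescribed contiguous diagonals with constant product away from the first entry. -/
theorem lu_pair [Fintype F] (h4 : 4 ≤ Fintype.card F) {lam mu : Fin (m + 4) → F} {β : F} (hβ : β ≠ 0)
    (hlam : ∀ i, lam i ≠ 0) (hrel : ∀ i, i ≠ 0 → lam i * mu i = β) (hmu : mu 0 ≠ 0) (hl : Contig lam)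
    (hmc : Contig mu) {G : Matrix (Fin (m + 4)) (Fin (m + 4)) F} (hG : ∀ c : F, G ≠ c • 1)
    (hdet : G.det = (∏ i, lam i) * ∏ i, mu i) :
    ∃ M M', Cls (rp (Finset.univ.val.map lam)) M ∧ Cls (rp (Finset.univ.val.map mu)) M' ∧ G = M * M' := by
  by_cases hr : ∃ γ : F, R1 γ G
  · obtain ⟨γ, hr⟩ := hr
    have hmu0 : (0 : F) ∉ Finset.univ.val.map mu := fun h0 => by
      obtain ⟨i, -, hi⟩ := Multiset.mem_map.1 h0
      by_cases h : i = 0
      · exact hmu (h ▸ hi)
      · exact hβ (by rw [← hrel i h, hi, mul_zero])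
    refine r1_pair (m := m + 1) h4 hlam hl (rp_monic _) ?_ (rp_coeff_zero hmu0) hG hr ?_
    · rw [rp_natDegree]; simp
    · rw [hdet, cdet_rp, Finset.prod_eq_multiset_prod Finset.univ mu]
  · push Not at hr
    exact lu_pair_generic h4 hβ hlam hrel hmu hl hmc hG hr hdet

end Cfsg.Agent.CovNum
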