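import Cfsg.Agent.Lib.CovNum.Basic
import Cfsg.Agent.Lib.SLComm.RegSelect
import Mathlib.FieldTheory.Finiteness
import Mathlib.LinearAlgebra.Matrix.ToLinearEquiv
import Mathlib.SetTheory.Cardinal.Finite

/-!
# Covering number of `PSL(n, q)`: linear algebra over a finite field

* `R1 c x` : `x - c` has rank at most one;
* `exists_notMem_of_card` : subspaces with too few elements in total do not cover;
* `exists_noneig` : a nonscalar matrix moves some line.
-/

set_option autoImplicit false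
set_option linter.unusedSectionVars false

namespace Cfsg.Agent.CovNum

open Matrix Submodule

variable {F : Type*} [Field F] {n m : ℕ}

/-- `x - c` has rank at most one. -/
def R1 (c : F) (x : Matrix (Fin n) (Fin n) F) : Prop := ∃ u f : Fin n → F, x - c • 1 = vecMulVec u f

theorem dual_eq_dot (φ : (Fin n → F) →ₗ[F] F) (w : Fin n → F) : φ w = (fun i => φ (Pi.single i 1)) ⬝ᵥ w := by
  conv_lhs => rw [pi_eq_sum_univ' w]
  simp [map_sum, dotProduct, mul_comm]

theorem exists_sep {S : Submodule F (Fin n → F)} {v : Fin n → F} (hv : v ∉ S) :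
    ∃ r : Fin n → F, r ⬝ᵥ v = 1 ∧ ∀ s ∈ S, r ⬝ᵥ s = 0 := by
  obtain ⟨φ, h1, h2⟩ := SLComm.dual_sep hv
  exact ⟨fun i => φ (Pi.single i 1), by rw [← dual_eq_dot, h1], fun s hs => by rw [← dual_eq_dot, h2 s hs]⟩

theorem exists_annih {S : Submodule F (Fin n → F)} (hS : S ≠ ⊤) :
    ∃ r : Fin n → F, r ≠ 0 ∧ ∀ s ∈ S, r ⬝ᵥ s = 0 := by
  obtain ⟨v, hv⟩ : ∃ v, v ∉ S := by
    by_contra! h
    exact hS (eq_top_iff.2 fun v _ => h v)
  obtain ⟨r, h1, h2⟩ := exists_sep hv
  exact ⟨r, fun h => by simp [h] at h1, h2⟩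

theorem exists_dual2 {v w : Fin n → F} (hv : v ≠ 0) (hw : w ∉ span F ({v} : Set (Fin n → F))) (α β : F) :
    ∃ r : Fin n → F, r ⬝ᵥ v = α ∧ r ⬝ᵥ w = β := by
  obtain ⟨r2, h21, h22⟩ := exists_sep hw
  have hv' : v ∉ span F ({w} : Set (Fin n → F)) := by
    intro h
    obtain ⟨k, hk⟩ := mem_span_singleton.1 h
    have hk0 : k ≠ 0 := fun e => hv (by rw [← hk, e, zero_smul])
    exact hw (mem_span_singleton.2 ⟨k⁻¹, by rw [← hk, smul_smul, inv_mul_cancel₀ hk0, one_smul]⟩)
  obtain ⟨r1, h11, h12⟩ := exists_sep hv'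
  refine ⟨α • r1 + β • r2, ?_, ?_⟩
  · simp [h11, h22 v (mem_span_singleton_self v)]
  · simp [h21, h12 w (mem_span_singleton_self w)]

theorem exists_noneig {x : Matrix (Fin (m + 1)) (Fin (m + 1)) F} (hx : ∀ c : F, x ≠ c • 1) :
    ∃ v : Fin (m + 1) → F, v ≠ 0 ∧ x *ᵥ v ∉ span F ({v} : Set (Fin (m + 1) → F)) := by
  by_contra! h
  have h' : ∀ v : Fin (m + 1) → F, ∃ c : F, c • v = x *ᵥ v := fun v => by
    by_cases hv : v = 0
    · exact ⟨0, by simp [hv]⟩
    · exact mem_span_singleton.1 (h v hv)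
  choose c hc using h'
  have hcol : ∀ i j, x j i = if j = i then c (Pi.single i 1) else 0 := fun i j => by
    have := congrFun (hc (Pi.single i 1)) j
    rw [Matrix.mulVec_single_one] at this
    simp [Pi.single_apply] at this
    rw [← this]
  refine hx (c (Pi.single 0 1)) (Matrix.ext fun i j => ?_)
  rw [hcol j i]
  by_cases hij : i = j
  · subst hij
    simp only [if_true, Matrix.smul_apply, Matrix.one_apply_eq, smul_eq_mul, mul_one]
    by_cases hi : i = 0
    · rw [hi]
    have e := hc (Pi.single 0 1 + Pi.single i 1)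
    rw [mulVec_add, ← hc, ← hc] at e
    have e1 := congrFun e i
    have e0 := congrFun e 0
    simp [hi, Ne.symm hi] at e1 e0
    rw [← e0, ← e1]
  · simp [hij, Matrix.one_apply_ne hij]

theorem exists_vecMulVec {M : Matrix (Fin n) (Fin n) F} {a : Fin n → F}
    (h : ∀ w, M *ᵥ w ∈ span F ({a} : Set (Fin n → F))) : ∃ f : Fin n → F, M = vecMulVec a f := by
  choose k hk using fun j => mem_span_singleton.1 (h (Pi.single j 1))
  refine ⟨k, Matrix.ext fun i j => ?_⟩
  have := congrFun (hk j) i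
  rw [Matrix.mulVec_single_one] at this
  simpa [vecMulVec_apply, mul_comm] using this.symm

theorem vecMulVec_mulVec' (a f w : Fin n → F) : vecMulVec a f *ᵥ w = (f ⬝ᵥ w) • a := by
  ext i
  simp [Matrix.vecMulVec_mulVec, mul_comm]

theorem mem_span_of_vecMulVec {a f : Fin n → F} (w : Fin n → F) :
    vecMulVec a f *ᵥ w ∈ span F ({a} : Set (Fin n → F)) := by
  rw [vecMulVec_mulVec']
  exact smul_mem _ _ (mem_span_singleton_self a)

theorem vecMulVec_eq_zero' {a f : Fin n → F} (h : vecMulVec a f = 0) : a = 0 ∨ f = 0 := by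
  by_contra! hh
  obtain ⟨⟨i, hi⟩, ⟨j, hj⟩⟩ := And.intro (Function.ne_iff.1 hh.1) (Function.ne_iff.1 hh.2)
  exact mul_ne_zero hi hj (by simpa [vecMulVec_apply] using congrFun (congrFun h i) j)

theorem card_submodule [Fintype F] (S : Submodule F (Fin n → F)) :
    Nat.card S = Fintype.card F ^ Module.finrank F S := by
  rw [Module.natCard_eq_pow_finrank (K := F), Nat.card_eq_fintype_card]

theorem exists_notMem_of_card [Fintype F] (L : List (Submodule F (Fin n → F)))
    (h : (L.map fun S : Submodule F (Fin n → F) => Fintype.card F ^ Module.finrank F S).sum < Fintype.card F ^ n) :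
    ∃ v : Fin n → F, ∀ S ∈ L, v ∉ S := by
  classical
  by_contra! hc
  have hle : ∀ L : List (Submodule F (Fin n → F)),
      ((Finset.univ : Finset (Fin n → F)).filter fun v => ∃ S ∈ L, v ∈ S).card ≤
        (L.map fun S : Submodule F (Fin n → F) => Fintype.card F ^ Module.finrank F S).sum := by
    intro L
    induction L with
    | nil => simp
    | cons S L ih =>
      rw [List.map_cons, List.sum_cons, ← card_submodule, Nat.card_eq_fintype_card, Fintype.card_subtype]
      refine le_trans (le_of_eq_of_le ?_ (Finset.card_union_le _ _)) (Nat.add_le_add le_rfl ih)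
      congr 1
      ext v
      simp
  have h1 := hle L
  rw [Finset.filter_true_of_mem (fun v _ => hc v), Finset.card_univ] at h1
  simp at h1
  omega

theorem mulVec_inj {M : Matrix (Fin n) (Fin n) F} (h : M.det ≠ 0) {v w : Fin n → F} (e : M *ᵥ v = M *ᵥ w) :
    v = w :=
  mulVec_injective_of_isUnit ((Matrix.isUnit_iff_isUnit_det M).2 (Ne.isUnit h)) e

theorem exists_eigvec_transpose {x : Matrix (Fin n) (Fin n) F} {lam : F}
    (h : ∃ v : Fin n → F, v ≠ 0 ∧ x *ᵥ v = lam • v) : ∃ v : Fin n → F, v ≠ 0 ∧ xᵀ *ᵥ v = lam • v := by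
  obtain ⟨v, hv, he⟩ := h
  have h1 : (x - lam • 1).det = 0 :=
    Matrix.exists_mulVec_eq_zero_iff.1 ⟨v, hv, by rw [sub_mulVec, he, smul_mulVec, one_mulVec, sub_self]⟩
  rw [← det_transpose, transpose_sub, transpose_smul, transpose_one] at h1
  obtain ⟨w, hw, hwe⟩ := Matrix.exists_mulVec_eq_zero_iff.2 h1
  exact ⟨w, hw, by rwa [sub_mulVec, smul_mulVec, one_mulVec, sub_eq_zero] at hwe⟩

theorem exists_avoid_three [Fintype F] (h4 : 4 ≤ Fintype.card F) (a b c : F) : ∃ x : F, x ≠ a ∧ x ≠ b ∧ x ≠ c := by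
  classical
  obtain ⟨x, -, hx⟩ := Finset.exists_mem_notMem_of_card_lt_card (s := ({a, b, c} : Finset F)) (t := Finset.univ)
    (lt_of_le_of_lt Finset.card_le_three (by rw [Finset.card_univ]; omega))
  simp only [Finset.mem_insert, Finset.mem_singleton, not_or] at hx
  exact ⟨x, hx⟩

end Cfsg.Agent.CovNum
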