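import Cfsg.Agent.Lib.CovNum.NoEigenGC

/-!
# Covering number of `PSL(n, q)`: matrices without eigenvalues, up to special conjugacy

* `ne_sc` : if the centraliser misses some determinant, the roots of one block are chosen outside its range.
-/

set_option autoImplicit false
set_option linter.unusedSectionVars false

namespace Cfsg.Agent.CovNum

open Matrix Polynomial Cfsg.Agent.SLComm

variable {F : Type*} [Field F] [Fintype F] {n m : ℕ}

theorem pow_mem_block {x : Matrix (Fin n) (Fin n) F} {L : List F[X]} (hL : ∀ h ∈ L, h.Monic)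
    (hs : Sim (Matrix.toLin' x) (dcyc L)) {P : F[X]} (hP : Irreducible P) (hPm : P.Monic) {e : ℕ} (he : 0 < e)
    (hh : P ^ e ∈ L) (t : Fˣ) : t ^ e ∈ detSub (Matrix.toLin' x) := by
  classical
  haveI := (hPm.pow e).finite_adjoinRoot
  haveI := finite_dcyc (L := L.erase (P ^ e)) fun p hp => hL p (List.mem_of_mem_erase hp)
  refine detSub_sim hs (detSub_sim (dcyc_perm (List.perm_cons_erase hh)) ?_)
  exact detSub_sim (dcyc_cons _ _) (detSub_prod_left _ _ (pow_mem_detSub hP hPm he t))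

/-- Roots of the blocks other than the first. -/
theorem achL_inS (h4 : 4 ≤ Fintype.card F) (S : Subgroup Fˣ) : ∀ (L : List F[X]), GoodBlocks L →
    (∀ h ∈ L, 3 ≤ h.natDegree ∧ ∃ u ∈ S, (u : F) = cdet h) →
    ∃ s : Multiset F, (∀ a ∈ s, ∃ u ∈ S, (u : F) = a) ∧ ∃ δ, AchL L s δ
  | [], _, _ => ⟨0, by simp, 1, achL_nil⟩
  | h :: L, hL, hd => by
    obtain ⟨hm, hr, -⟩ := hL h List.mem_cons_self
    obtain ⟨h3, u, hu, hud⟩ := hd h List.mem_cons_self
    obtain ⟨k, hk⟩ : ∃ k, h.natDegree = k + 1 := ⟨h.natDegree - 1, by omega⟩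
    have hL' : GoodBlocks L := fun g hg => hL g (List.mem_cons_of_mem _ hg)
    obtain ⟨s', hs', hδ⟩ := achL_inS h4 S L hL' fun g hg => hd g (List.mem_cons_of_mem _ hg)
    set s1 := cdet h ^ 2 ::ₘ Multiset.replicate k (1 : F) with hs1
    have hmem : ∀ a ∈ s1, ∃ u ∈ S, (u : F) = a := fun a ha => by
      rcases Multiset.mem_cons.1 ha with rfl | ha
      · exact ⟨u ^ 2, S.pow_mem hu 2, by rw [Units.val_pow_eq_pow_val, hud]⟩
      · exact ⟨1, S.one_mem, by rw [Multiset.eq_of_mem_replicate ha, Units.val_one]⟩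
    have h0 : (0 : F) ∉ s1 := fun h' => by obtain ⟨v, -, hv⟩ := hmem 0 h'; exact Units.ne_zero v hv
    obtain hA := achL_cons_B hm hr (by omega) h0
      (achB_big h4 hm hr h3 (by simp [hs1, hk]) h0 (by simp [hs1])) hL'.monic hδ
    exact ⟨s1 + s', fun a ha => (Multiset.mem_add.1 ha).elim (hmem a) (hs' a), hA⟩

/-- The first block, with an adjustable determinant. -/
theorem ach_first (h4 : 4 ≤ Fintype.card F) (S : Subgroup Fˣ) {h : F[X]} (hm : h.Monic)
    (hr : ∀ c : F, h.eval c ≠ 0) (hdeg : h.natDegree = m + 3) {T : Fˣ} (hT : T ∈ S) (hTd : (T : F) = cdet h ^ 2)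
    {t : Fˣ} (ht : t ∉ S) (htt : t ≠ t⁻¹) (hgen : ∀ v : Fˣ, ∃ k : ℕ, t ^ k = v) {e : ℕ} (he : 0 < e)
    (hem : e ≤ m + 2) (hte : t ^ e ∈ S) (c : Fˣ) :
    ∃ δ : Fˣ, δ * c ∈ S ∧ Ach (cm (m := m + 2) h)
      ((t : F) ::ₘ (t⁻¹ : Fˣ) ::ₘ (T : F) ::ₘ Multiset.replicate m 1) δ := by
  classical
  obtain ⟨δh, hδh, hbase⟩ := base (m := m + 1) h4 hm hdeg (eval_zero_ne hr)
  obtain ⟨M, hM⟩ := hgen (Units.mk0 δh hδh * c)
  set j := if M % e = 0 then e else M % e with hj
  have hj1 : 1 ≤ j ∧ j ≤ e := by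
    have := Nat.mod_lt M he
    rw [hj]; split_ifs <;> omega
  have hjM : t ^ M * (t ^ j)⁻¹ ∈ S := by
    have hq : (t ^ e) ^ (M / e) ∈ S := S.pow_mem hte _
    have e1 : t ^ M = (t ^ e) ^ (M / e) * t ^ (M % e) := by rw [← pow_mul, ← pow_add, Nat.div_add_mod]
    rw [e1, hj]
    split_ifs with h0
    · rw [h0, pow_zero, mul_one]; exact S.mul_mem hq (S.inv_mem hte)
    · rw [mul_inv_cancel_right]; exact hq
  -- positions
  set i0 : Fin (m + 3) := ⟨m + 2 - j, by omega⟩ with hi0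
  set il : Fin (m + 3) := Fin.last (m + 2) with hil
  set j0 : Fin (m + 3) := if i0.val = m + 1 then ⟨m, by omega⟩ else ⟨m + 1, by omega⟩ with hj0
  have hi0l : i0 ≠ il := Fin.ne_of_val_ne (by simp [hi0, hil]; omega)
  have hj0l : j0 ≠ il := by rw [hj0]; split_ifs <;> exact Fin.ne_of_val_ne (by simp [hil])
  have hj0i : j0 ≠ i0 := by
    rw [hj0]; split_ifs with h0
    · exact Fin.ne_of_val_ne (by simp only; omega)
    · exact fun e => h0 (by rw [← e])
  set rsU : Fin (m + 3) → Fˣ := fun l => if l = i0 then t else if l = il then t⁻¹ else if l = j0 then T else 1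
    with hrsU
  set rs : Fin (m + 3) → F := fun l => (rsU l : F) with hrs
  set R : Finset (Fin (m + 3)) := Finset.univ \ {i0, il, j0} with hR
  have hmap : Finset.univ.val.map rs = (t : F) ::ₘ (t⁻¹ : Fˣ) ::ₘ (T : F) ::ₘ Multiset.replicate m 1 := by
    have hu : (Finset.univ : Finset (Fin (m + 3))) = insert i0 (insert il (insert j0 R)) := by
      ext l; simp [hR]; tauto
    have hcard : R.card = m := by
      rw [hR, Finset.card_univ_diff, Fintype.card_fin, Finset.card_insert_of_notMem (by simp [hi0l, hj0i.symm]),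
        Finset.card_insert_of_notMem (by simp [hj0l.symm]), Finset.card_singleton]
      omega
    rw [hu, Finset.insert_val_of_notMem (by simp [hR, hi0l, hj0i.symm]),
      Finset.insert_val_of_notMem (by simp [hR, hj0l.symm]), Finset.insert_val_of_notMem (by simp [hR]),
      Multiset.map_cons, Multiset.map_cons, Multiset.map_cons, Multiset.map_congr (g := fun _ => (1 : F)) rfl ?_,
      Multiset.map_const', ← Finset.card_def, hcard]
    · simp [hrs, hrsU, hi0l.symm, hj0i, hj0l]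
    · intro l hl
      have hl' : l ∈ R := hl
      simp [hR] at hl'
      simp [hrs, hrsU, hl']
  have hlast : ∀ i, i ≠ il → rs i ≠ rs il := by
    intro i hi h'
    have h'' : rsU i = rsU il := Units.ext h'
    simp only [hrsU, if_neg hi, if_neg hi0l.symm, if_true] at h''
    split_ifs at h''
    · exact htt h''
    · exact ht (S.inv_mem_iff.1 (h'' ▸ hT))
    · exact ht (S.inv_mem_iff.1 (h'' ▸ S.one_mem))
  have hA := hbase rs (fun i => Units.ne_zero _) (by
    rw [Finset.prod_eq_multiset_prod, hmap]; simp [hTd]) (Or.inr hlast)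
  rw [hmap] at hA
  set P : Fˣ := ∏ a : Fin (m + 3), ∏ l ∈ Finset.Iio a, (rsU l)⁻¹ with hP
  have hPv : (P : F) = ∏ a : Fin (m + 3), ∏ l ∈ Finset.Iio a, (rs l)⁻¹ := by
    simp [hP, hrs]
  refine ⟨Units.mk0 δh hδh * P, ?_, by simpa [Units.val_mul, hPv] using hA⟩
  have hPq : P * t ^ j ∈ S := by
    have h1 : ∀ a : Fin (m + 3), (∏ l ∈ Finset.Iio a, (rsU l)⁻¹) * (if i0 < a then t else 1) ∈ S := by
      intro a
      have hne : ∀ l ∈ Finset.Iio a, l ≠ i0 → (rsU l)⁻¹ ∈ S := fun l hl hl0 => by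
        have hll : l ≠ il := ne_of_lt (lt_of_lt_of_le (Finset.mem_Iio.1 hl) (Fin.le_last a))
        simp only [hrsU, if_neg hl0, if_neg hll]
        split_ifs
        · exact S.inv_mem hT
        · simp
      split_ifs with hlt
      · rw [← Finset.mul_prod_erase _ _ (Finset.mem_Iio.2 hlt), mul_right_comm,
          show (rsU i0)⁻¹ * t = 1 by simp [hrsU], one_mul]
        exact S.prod_mem fun l hl => hne l (Finset.mem_of_mem_erase hl) (Finset.ne_of_mem_erase hl)
      · rw [mul_one]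
        exact S.prod_mem fun l hl => hne l hl fun e => hlt (e ▸ Finset.mem_Iio.1 hl)
    have h2 : (∏ a : Fin (m + 3), (if i0 < a then t else (1 : Fˣ))) = t ^ j := by
      rw [← Finset.prod_filter, Finset.prod_const, Finset.filter_lt_eq_Ioi, Fin.card_Ioi]
      congr 1
      simp only [hi0]
      omega
    rw [← h2, hP, ← Finset.prod_mul_distrib]
    exact S.prod_mem fun a _ => h1 a
  have h3 := S.mul_mem hPq hjM
  rw [hM] at h3
  convert h3 using 1
  rw [mul_assoc P, mul_comm (t ^ j), inv_mul_cancel_right]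
  ac_rfl

theorem contig_four {a b c : F} (ha : a ≠ c) (hb : b ≠ c) : Contig ![a, b, c, c] := by
  intro i j k h1 h2 h3
  fin_cases i <;> fin_cases k <;> simp at h1 h2 h3 <;> fin_cases j <;> simp at h1 h2 ⊢ <;> simp_all

/-- Products of special conjugates of a matrix of determinant one without eigenvalues. -/
theorem ne_sc (h4 : 4 ≤ Fintype.card F) {x : Matrix (Fin (m + 3)) (Fin (m + 3)) F} (hx : NoEig x)
    (hxd : x.det = 1) {G : Matrix (Fin (m + 3)) (Fin (m + 3)) F} (hGd : G.det = 1)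
    (hG : (∀ c : F, G ≠ c • 1) ∨ G = 1) : Prd SC x (m + 3) G := by
  classical
  by_cases hc : CentSurj (Matrix.toLin' x)
  · exact (ne_gc h4 hx (by rw [hGd, hxd, one_pow]) (hG.imp id fun h => ⟨hxd, h⟩)).sc hc
  set S := detSub (Matrix.toLin' x) with hS
  obtain ⟨t, ht⟩ := IsCyclic.exists_generator (α := Fˣ)
  have htS : t ∉ S := fun h => hc fun c hc0 => by
    obtain ⟨k, hk⟩ := Subgroup.mem_zpowers_iff.1 (ht (Units.mk0 c hc0))
    obtain ⟨z, hz, hzd⟩ := mem_detSub.1 (show Units.mk0 c hc0 ∈ S from hk ▸ S.zpow_mem h k)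
    exact ⟨z, hz, by rw [hzd, Units.val_mk0]⟩
  have hgen : ∀ v : Fˣ, ∃ k : ℕ, t ^ k = v := fun v => by
    have := ht v
    rwa [← mem_powers_iff_mem_zpowers, Submonoid.mem_powers_iff] at this
  have htt : t ≠ t⁻¹ := fun e => by
    have h2 : t ^ 2 = 1 := by rw [sq]; nth_rw 2 [e]; exact mul_inv_cancel t
    have h1 := Nat.le_of_dvd (by omega) (orderOf_dvd_of_pow_eq_one h2)
    rw [orderOf_eq_card_of_forall_mem_zpowers ht, Nat.card_units, Nat.card_eq_fintype_card] at h1
    omega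
  obtain ⟨L, hP, hL, hsim⟩ := exists_good hx
  have hblock : ∀ h ∈ L, 4 ≤ h.natDegree ∧ (∃ u ∈ S, (u : F) = cdet h) ∧
      ∃ e, 0 < e ∧ e * 2 ≤ h.natDegree ∧ t ^ e ∈ S ∧ h.natDegree ≠ 5 := by
    intro h hh
    obtain ⟨P, e, hPi, hPm, he, rfl, hP2⟩ := hP h hh
    have he2 : 2 ≤ e := by
      by_contra hlt
      obtain rfl : e = 1 := by omega
      rw [pow_one] at hh
      exact hc ((centSurj_dcyc_prime hPi hPm hL.monic hh).sim hsim)
    have hmem := fun v => pow_mem_block hL.monic hsim hPi hPm he hh v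
    have hcd : cdet P ≠ 0 := fun e0 => cdet_ne (hL _ hh).2.1 (by rw [cdet_pow hPm, e0, zero_pow he.ne'])
    refine ⟨?_, ⟨_, hmem (Units.mk0 _ hcd), by rw [Units.val_pow_eq_pow_val, Units.val_mk0, cdet_pow hPm]⟩,
      e, he, ?_, hmem t, ?_⟩
    · rw [hPm.natDegree_pow]; exact Nat.mul_le_mul he2 hP2 |>.trans' (by norm_num)
    · rw [hPm.natDegree_pow]; exact Nat.mul_le_mul_left e hP2
    · rw [hPm.natDegree_pow]
      intro h5
      rcases (Nat.dvd_prime Nat.prime_five).1 ⟨_, h5.symm⟩ with h | h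
      · omega
      · rw [h] at h5; omega
  have hsum := sum_deg hL.monic hsim
  obtain ⟨h, L', rfl⟩ : ∃ h L', L = h :: L' := by
    cases L with
    | nil => simp at hsum
    | cons h L' => exact ⟨h, L', rfl⟩
  rw [List.map_cons, List.sum_cons] at hsum
  obtain ⟨hd4, ⟨u, hu, hud⟩, e, he, he2, hte, hn5⟩ := hblock h List.mem_cons_self
  obtain ⟨hm, hr, -⟩ := hL h List.mem_cons_self
  obtain ⟨k, hk⟩ : ∃ k, h.natDegree = k + 3 := ⟨h.natDegree - 3, by omega⟩
  have hL' : GoodBlocks L' := fun g hg => hL g (List.mem_cons_of_mem _ hg)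
  obtain ⟨s2, hs2, δ2, hA2⟩ := achL_inS h4 S L' hL' fun g hg => by
    obtain ⟨h1, h2, -⟩ := hblock g (List.mem_cons_of_mem _ hg)
    exact ⟨by omega, h2⟩
  have hδ20 : δ2 ≠ 0 := by
    haveI := finite_dcyc hL'.monic
    obtain ⟨X, hX⟩ := exists_matrix_sim (dcyc L')
    exact (hA2 _ X hX).1
  obtain ⟨δ1, hδ, hA1⟩ := ach_first (m := k) h4 S hm hr hk (T := u ^ 2) (S.pow_mem hu 2)
    (by rw [Units.val_pow_eq_pow_val, hud]) htS htt hgen he (by omega) hte (Units.mk0 δ2 hδ20)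
  set s1 : Multiset F := (t : F) ::ₘ (t⁻¹ : Fˣ) ::ₘ ((u ^ 2 : Fˣ) : F) ::ₘ Multiset.replicate k 1 with hs1
  have h01 : (0 : F) ∉ s1 := by
    simp [hs1, Multiset.mem_replicate, (Units.ne_zero t).symm, (pow_ne_zero 2 (Units.ne_zero u)).symm]
  have hAx := achL_cons (m := k + 2) hm hk hr h01 hA1 hL'.monic hA2 _ x hsim
  have hnotS : ∀ v ∈ S, (t : F) ≠ v := fun v hv e => htS (Units.ext e ▸ hv)
  have hcnt : (s1 + s2).count (t : F) = 1 := by
    rw [Multiset.count_add, hs1, Multiset.count_cons_self, Multiset.count_eq_zero.2, Multiset.count_eq_zero.2]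
    · intro h'
      obtain ⟨v, hv, hve⟩ := hs2 _ h'
      exact hnotS v hv hve.symm
    · simp only [Multiset.mem_cons, Multiset.mem_replicate, not_or]
      refine ⟨fun e => htt (Units.ext e), fun e => hnotS _ (S.pow_mem hu 2) e, fun e => hnotS 1 S.one_mem ?_⟩
      rw [e.2, Units.val_one]
  have h0 : (0 : F) ∉ s1 + s2 := by
    rw [Multiset.mem_add, not_or]
    exact ⟨h01, fun h' => by obtain ⟨v, -, hv⟩ := hs2 _ h'; exact Units.ne_zero v hv⟩
  have hcs : CS x ((δ1 : F) * δ2) := by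
    have := cs_of_detSub (show δ1 * Units.mk0 δ2 hδ20 ∈ detSub (Matrix.toLin' x) from hδ)
    simpa using this
  have h2c : ∀ M, Cls (rp (s1 + s2)) M → Prd SC x 2 M := fun M hM => ach_sc hAx hcs hcnt hM
  have hdet : G.det = x.det ^ (m + 3) := by rw [hGd, hxd, one_pow]
  by_cases hm3 : 3 ≤ m
  · obtain ⟨p, rfl⟩ : ∃ p, m = p + 3 := ⟨m - 3, by omega⟩
    exact c_route (fun _ h => h) hx.nonscalar hx.det_ne hAx.prod h0 hAx.card hcnt h2c hdet
  -- four
  rcases L' with _ | ⟨g, rest⟩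
  swap
  · have := (hblock g (by simp)).1
    simp at hsum
    omega
  simp at hsum
  obtain rfl : k = 1 := by omega
  obtain rfl : m = 1 := by omega
  obtain rfl : s2 = 0 := by
    have := hAx.card
    rw [Multiset.card_add, hs1] at this
    simpa using this
  have hu2 : ((u ^ 2 : Fˣ) : F) = 1 := by
    have := hsim.trans (dcyc_singleton h)
    rw [Units.val_pow_eq_pow_val, hud, ← (show Cls h x from this).det hm, hxd, one_pow]
  have hti : ((t⁻¹ : Fˣ) : F) = (t : F)⁻¹ := Units.val_inv_eq_inv_val t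
  have ht0 : (t : F) ≠ 0 := Units.ne_zero t
  have ht1 : (t : F) ≠ 1 := fun e => htS (by rw [Units.ext (show (t : F) = ((1 : Fˣ) : F) by simpa using e)]; exact S.one_mem)
  have hti1 : (t : F)⁻¹ ≠ 1 := fun e => ht1 (inv_eq_one.1 e)
  refine lu_route (m := 0) h4 (fun _ h => h) hx.nonscalar hx.det_ne hAx.prod h0 h2c (β := 1) one_ne_zero
    (lam := ![(t : F), (t : F)⁻¹, 1, 1]) (mu := ![(t : F)⁻¹, (t : F), 1, 1]) ?_ ?_ (fun i hi => ?_) ?_ ?_
    (fun _ _ => ?_) hdet (hG.imp id fun h => ⟨hxd, h⟩)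
  · rw [hs1, hu2, hti, add_zero, Fin.univ_val_map]
    simp [List.ofFn_succ]
    rfl
  · rw [hs1, hu2, hti, add_zero, Fin.univ_val_map]
    simp [List.ofFn_succ]
    rw [← Multiset.cons_coe, ← Multiset.cons_coe, Multiset.cons_swap]
    rfl
  · fin_cases i <;> simp [ht0] at hi ⊢
  · exact contig_four ht1 hti1
  · exact contig_four hti1 ht1
  · rw [add_zero, hs1, hu2, hti]
    simp [Multiset.cons_swap]

end Cfsg.Agent.CovNum
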