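import Cfsg.Agent.Lib.CovNum.EigenTop
import Cfsg.Agent.Lib.CovNum.NoEigenSC
import Mathlib.LinearAlgebra.Matrix.ProjectiveSpecialLinearGroup
import Mathlib.LinearAlgebra.Matrix.Transvection

/-!
# Covering number of `PSL(n, q)`

* `covering_upper` : every element is a product of `n` conjugates of any non-identity element;
* `covering_lower` : `n - 1` conjugates of a transvection do not suffice.
-/

set_option autoImplicit false
set_option linter.unusedSectionVars false

namespace Cfsg.Agent.CovNum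

open Matrix Polynomial Cfsg.Agent.SLComm
open scoped MatrixGroups

variable {F : Type*} [Field F] [Fintype F] {n m : ℕ}

theorem eig_or_not (x : Matrix (Fin n) (Fin n) F) :
    (∃ (lam : F) (v : Fin n → F), v ≠ 0 ∧ x *ᵥ v = lam • v) ∨ NoEig x := by
  by_cases h : ∃ (lam : F) (v : Fin n → F), v ≠ 0 ∧ x *ᵥ v = lam • v
  · exact Or.inl h
  · exact Or.inr fun c v hv => by_contra fun hv0 => h ⟨c, v, hv0, hv⟩

theorem pg_all (h4 : 4 ≤ Fintype.card F) : ∀ n, 3 ≤ n → PG F n := by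
  intro n
  induction n using Nat.strong_induction_on with
  | _ n ih =>
    intro hn x G hx hxd hG hdet
    obtain ⟨m, rfl⟩ : ∃ m, n = m + 3 := ⟨n - 3, by omega⟩
    rcases eig_or_not x with he | he
    · exact (eig_nonscalar h4 (fun k h1 h2 => ih k h2 h1) hx hxd he hG hdet).gc
    · exact ne_gc h4 he hdet (Or.inl hG)

theorem cover_matrix (h4 : 4 ≤ Fintype.card F) {x : Matrix (Fin (m + 3)) (Fin (m + 3)) F}
    (hx : ∀ c : F, x ≠ c • 1) (hxd : x.det = 1) {G : Matrix (Fin (m + 3)) (Fin (m + 3)) F} (hGd : G.det = 1) :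
    ∃ μ : F, μ ^ (m + 3) = 1 ∧ Prd SC x (m + 3) (μ • G) := by
  have hxd0 : x.det ≠ 0 := by rw [hxd]; exact one_ne_zero
  have hPG : ∀ k, 3 ≤ k → k < m + 3 → PG F k := fun k h1 _ => pg_all h4 k h1
  by_cases hG : ∀ c : F, G ≠ c • 1
  · refine ⟨1, one_pow _, ?_⟩
    rw [one_smul]
    rcases eig_or_not x with he | he
    · exact eig_nonscalar h4 hPG hx hxd0 he hG (by rw [hGd, hxd, one_pow])
    · exact ne_sc h4 he hxd hGd (Or.inl hG)
  push Not at hG
  obtain ⟨c, rfl⟩ := hG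
  have hc : c ^ (m + 3) = 1 := by simpa [det_smul] using hGd
  have hc0 : c ≠ 0 := fun e => by rw [e, zero_pow (by omega)] at hc; exact zero_ne_one hc
  obtain ⟨μ, hμ, h⟩ : ∃ μ : F, μ ^ (m + 3) = 1 ∧ Prd SC x (m + 3) (μ • 1) := by
    rcases eig_or_not x with he | he
    · exact eig_one h4 hPG hx hxd he
    · exact ⟨1, one_pow _, by rw [one_smul]; exact ne_sc h4 he hxd det_one (Or.inr rfl)⟩
  refine ⟨μ / c, by rw [div_pow, hμ, hc, div_one], ?_⟩
  rwa [smul_smul, div_mul_cancel₀ _ hc0]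

theorem mk_eq_of_smul {A B : Matrix.SpecialLinearGroup (Fin n) F} {μ : F} (hμ : μ ^ n = 1)
    (h : (A : Matrix (Fin n) (Fin n) F) = μ • (B : Matrix (Fin n) (Fin n) F)) :
    (QuotientGroup.mk A : PSL(n, F)) = QuotientGroup.mk B := by
  rw [eq_comm, QuotientGroup.eq, Matrix.SpecialLinearGroup.mem_center_iff]
  refine ⟨μ, by rwa [Fintype.card_fin], ?_⟩
  rw [Matrix.SpecialLinearGroup.coe_mul, h, Matrix.mul_smul, ← Matrix.SpecialLinearGroup.coe_mul,
    inv_mul_cancel, Matrix.SpecialLinearGroup.coe_one, Matrix.scalar_apply, smul_one_eq_diagonal]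

theorem covering_upper (h4 : 4 ≤ Fintype.card F) (hn : 3 ≤ n) (x : PSL(n, F)) (hx : x ≠ 1) (g : PSL(n, F)) :
    ∃ f : Fin n → PSL(n, F), g = (List.ofFn fun i => f i * x * (f i)⁻¹).prod := by
  obtain ⟨m, rfl⟩ : ∃ m, n = m + 3 := ⟨n - 3, by omega⟩
  induction x using QuotientGroup.induction_on with | _ X => ?_
  induction g using QuotientGroup.induction_on with | _ G => ?_
  have hX : ∀ c : F, (X : Matrix (Fin (m + 3)) (Fin (m + 3)) F) ≠ c • 1 := fun c hc => by
    refine hx ((QuotientGroup.eq_one_iff X).2 (Matrix.SpecialLinearGroup.mem_center_iff.2 ⟨c, ?_, ?_⟩))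
    · have := X.2
      rw [show X.1 = c • 1 from hc, det_smul, det_one, mul_one] at this
      exact this
    · rw [hc, Matrix.scalar_apply, smul_one_eq_diagonal]
  obtain ⟨μ, hμ, l, hlen, hl, hprod⟩ := cover_matrix h4 hX X.2 G.2
  have hg : ∀ i : Fin (m + 3), ∃ g : Matrix.SpecialLinearGroup (Fin (m + 3)) F,
      ((g * X * g⁻¹ : Matrix.SpecialLinearGroup (Fin (m + 3)) F) : Matrix (Fin (m + 3)) (Fin (m + 3)) F) =
        l.get (Fin.cast hlen.symm i) := fun i => by
    obtain ⟨g, hgd, hge⟩ := hl _ (l.get_mem (Fin.cast hlen.symm i))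
    obtain ⟨gS, hgS⟩ : ∃ gS : Matrix.SpecialLinearGroup (Fin (m + 3)) F,
        (gS : Matrix (Fin (m + 3)) (Fin (m + 3)) F) = g := ⟨⟨g, hgd⟩, rfl⟩
    refine ⟨gS, ?_⟩
    rw [Matrix.SpecialLinearGroup.coe_mul, Matrix.SpecialLinearGroup.coe_mul, Matrix.SpecialLinearGroup.coe_inv, hgS,
      hge, Matrix.mul_assoc, mul_adjugate, hgd, one_smul, Matrix.mul_one]
  choose f hf using hg
  refine ⟨fun i => QuotientGroup.mk (f i), ?_⟩
  have hp : (((List.ofFn fun i => f i * X * (f i)⁻¹).prod : Matrix.SpecialLinearGroup (Fin (m + 3)) F) :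
      Matrix (Fin (m + 3)) (Fin (m + 3)) F) = l.prod := by
    have aux : ∀ L : List (Matrix.SpecialLinearGroup (Fin (m + 3)) F),
        ((L.prod : Matrix.SpecialLinearGroup (Fin (m + 3)) F) : Matrix (Fin (m + 3)) (Fin (m + 3)) F) =
          (L.map fun A : Matrix.SpecialLinearGroup (Fin (m + 3)) F =>
            (A : Matrix (Fin (m + 3)) (Fin (m + 3)) F)).prod := by
      intro L
      induction L with
      | nil => simp
      | cons a L ih => rw [List.prod_cons, List.map_cons, List.prod_cons, ← ih, Matrix.SpecialLinearGroup.coe_mul]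
    rw [aux, List.map_ofFn]
    congr 1
    refine List.ext_get (by simp [hlen]) fun i h1 h2 => ?_
    simp only [List.get_eq_getElem, List.getElem_ofFn, Function.comp_apply]
    exact hf ⟨i, by simp at h1; omega⟩
  calc (QuotientGroup.mk G : PSL(m + 3, F))
      = QuotientGroup.mk (List.ofFn fun i => f i * X * (f i)⁻¹).prod :=
        (mk_eq_of_smul hμ (by rw [hp, hprod])).symm
    _ = _ := by
        rw [show (QuotientGroup.mk (List.ofFn fun i => f i * X * (f i)⁻¹).prod : PSL(m + 3, F)) =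
          QuotientGroup.mk' _ (List.ofFn fun i => f i * X * (f i)⁻¹).prod from rfl, map_list_prod, List.map_ofFn]
        rfl

theorem covering_lower (h4 : 4 ≤ Fintype.card F) (hn : 3 ≤ n) :
    ∃ x : PSL(n, F), x ≠ 1 ∧ ∃ g : PSL(n, F),
      ∀ f : Fin (n - 1) → PSL(n, F), g ≠ (List.ofFn fun i => f i * x * (f i)⁻¹).prod := by
  classical
  obtain ⟨m, rfl⟩ : ∃ m, n = m + 3 := ⟨n - 3, by omega⟩
  have h01 : (0 : Fin (m + 3)) ≠ 1 := Fin.ne_of_val_ne (by simp)
  obtain ⟨T, hT⟩ : ∃ T : Matrix.SpecialLinearGroup (Fin (m + 3)) F,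
      (T : Matrix (Fin (m + 3)) (Fin (m + 3)) F) = transvection 0 1 1 :=
    ⟨⟨transvection 0 1 1, det_transvection_of_ne _ _ h01 1⟩, rfl⟩
  refine ⟨QuotientGroup.mk T, fun h => ?_, ?_⟩
  · obtain ⟨r, -, hr⟩ := Matrix.SpecialLinearGroup.mem_center_iff.1 ((QuotientGroup.eq_one_iff T).1 h)
    have := congrFun (congrFun hr 0) 1
    simp [hT, transvection, Matrix.single, Matrix.diagonal, h01] at this
  -- a polynomial without nonzero root
  set c0 : F := (-1) ^ (m + 3) with hc0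
  have hc00 : c0 ≠ 0 := pow_ne_zero _ (neg_ne_zero.2 one_ne_zero)
  obtain ⟨c1, hc1⟩ : ∃ c1 : F, c1 ∉ (Finset.univ.erase (0 : F)).image fun z => -(z ^ (m + 3) + c0) / z := by
    obtain ⟨c, -, hc⟩ := Finset.exists_mem_notMem_of_card_lt_card
      (s := (Finset.univ.erase (0 : F)).image fun z => -(z ^ (m + 3) + c0) / z) (t := Finset.univ)
      (lt_of_le_of_lt Finset.card_image_le (by
        rw [Finset.card_erase_of_mem (Finset.mem_univ _), Finset.card_univ]; omega))
    exact ⟨c, hc⟩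
  set p : F[X] := Polynomial.X ^ (m + 3) + (Polynomial.C c1 * Polynomial.X + Polynomial.C c0) with hp
  have hdeg : (Polynomial.C c1 * Polynomial.X + Polynomial.C c0).degree < ((m + 3 : ℕ) : WithBot ℕ) :=
    lt_of_le_of_lt degree_linear_le (by exact_mod_cast (by omega : 1 < m + 3))
  have hpm : p.Monic := monic_X_pow_add hdeg
  have hpd : p.natDegree = m + 3 := by
    rw [hp, natDegree_add_eq_left_of_degree_lt (by rwa [degree_X_pow]), natDegree_X_pow]
  have hp0 : p.coeff 0 = c0 := by simp [hp]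
  have hroot : ∀ z : F, p.eval z ≠ 0 := fun z hz => by
    simp [hp] at hz
    by_cases hz0 : z = 0
    · simp [hz0, hc00] at hz
    · refine hc1 (Finset.mem_image.2 ⟨z, Finset.mem_erase.2 ⟨hz0, Finset.mem_univ _⟩, ?_⟩)
      field_simp
      linear_combination -hz
  have hC : Cls p (cm (m := m + 2) p) := cls_cm hpm hpd
  have hCd : (cm (m := m + 2) p).det = 1 := by
    rw [hC.det hpm, cdet, hpd, hp0, hc0, ← mul_pow]; simp
  obtain ⟨Cg, hCg⟩ : ∃ Cg : Matrix.SpecialLinearGroup (Fin (m + 3)) F,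
      (Cg : Matrix (Fin (m + 3)) (Fin (m + 3)) F) = cm (m := m + 2) p := ⟨⟨cm (m := m + 2) p, hCd⟩, rfl⟩
  refine ⟨QuotientGroup.mk Cg, fun f hf => ?_⟩
  choose g hg using fun i => QuotientGroup.mk_surjective (f i)
  set L := List.ofFn fun i => g i * T * (g i)⁻¹ with hL
  have hf' : (QuotientGroup.mk Cg : PSL(m + 3, F)) = QuotientGroup.mk L.prod := by
    rw [hf, show (QuotientGroup.mk L.prod : PSL(m + 3, F)) = QuotientGroup.mk' _ L.prod from rfl, map_list_prod, hL,
      List.map_ofFn]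
    congr 1
    congr 1
    funext i
    simp only [Function.comp_apply, map_mul, map_inv, QuotientGroup.mk'_apply, hg]
  rw [QuotientGroup.eq, Matrix.SpecialLinearGroup.mem_center_iff] at hf'
  obtain ⟨r, hr, hre⟩ := hf'
  -- a common fixed vector
  let Ψ : (Fin (m + 3) → F) →ₗ[F] (Fin (m + 3 - 1) → F) := LinearMap.pi fun i =>
    (LinearMap.proj (1 : Fin (m + 3))).comp ((((g i)⁻¹ : Matrix.SpecialLinearGroup (Fin (m + 3)) F) : Matrix (Fin (m + 3)) (Fin (m + 3)) F).mulVecLin)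
  have hker : LinearMap.ker Ψ ≠ ⊥ := LinearMap.ker_ne_bot_of_finrank_lt (by simp)
  obtain ⟨v, hv, hv0⟩ := Submodule.exists_mem_ne_zero_of_ne_bot hker
  rw [LinearMap.mem_ker] at hv
  have hfix : ∀ y ∈ L, (y : Matrix (Fin (m + 3)) (Fin (m + 3)) F) *ᵥ v = v := by
    intro y hy
    rw [hL, List.mem_ofFn] at hy
    obtain ⟨i, rfl⟩ := hy
    have h1 : ((((g i)⁻¹ : Matrix.SpecialLinearGroup (Fin (m + 3)) F) : Matrix (Fin (m + 3)) (Fin (m + 3)) F) *ᵥ v) 1 = 0 := congrFun hv i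
    set w := (((g i)⁻¹ : Matrix.SpecialLinearGroup (Fin (m + 3)) F) : Matrix (Fin (m + 3)) (Fin (m + 3)) F) *ᵥ v with hw
    have h2 : (T : Matrix (Fin (m + 3)) (Fin (m + 3)) F) *ᵥ w = w := by
      rw [hT, transvection, add_mulVec, one_mulVec, Matrix.single_mulVec, h1, mul_zero]
      ext j; simp [Pi.single_apply]
    rw [Matrix.SpecialLinearGroup.coe_mul, ← mulVec_mulVec, ← hw, Matrix.SpecialLinearGroup.coe_mul, ← mulVec_mulVec,
      h2, hw, mulVec_mulVec, ← Matrix.SpecialLinearGroup.coe_mul, mul_inv_cancel,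
      Matrix.SpecialLinearGroup.coe_one, one_mulVec]
  have hprodfix : ∀ K : List (Matrix.SpecialLinearGroup (Fin (m + 3)) F), (∀ y ∈ K, (y : Matrix (Fin (m + 3)) (Fin (m + 3)) F) *ᵥ v = v) →
      (K.prod : Matrix (Fin (m + 3)) (Fin (m + 3)) F) *ᵥ v = v := by
    intro K
    induction K with
    | nil => intro _; simp
    | cons y K ih =>
      intro hK
      rw [List.prod_cons, Matrix.SpecialLinearGroup.coe_mul, ← mulVec_mulVec,
        ih fun z hz => hK z (List.mem_cons_of_mem _ hz), hK y List.mem_cons_self]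
  have hPv := hprodfix L hfix
  have e1 : (L.prod : Matrix (Fin (m + 3)) (Fin (m + 3)) F) = r • (Cg : Matrix (Fin (m + 3)) (Fin (m + 3)) F) := by
    have := congrArg ((Cg : Matrix (Fin (m + 3)) (Fin (m + 3)) F) * ·) hre
    simp only [Matrix.scalar_apply, ← Matrix.SpecialLinearGroup.coe_mul, mul_inv_cancel_left] at this
    rw [← this, ← smul_one_eq_diagonal, Matrix.mul_smul, Matrix.mul_one]
  rw [e1, smul_mulVec] at hPv
  have hr0 : r ≠ 0 := fun e => by rw [e, zero_smul] at hPv; exact hv0 hPv.symm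
  refine hv0 (hC.noEig hpm hroot r⁻¹ v ?_)
  calc cm (m := m + 2) p *ᵥ v = r⁻¹ • (r • ((Cg : Matrix (Fin (m + 3)) (Fin (m + 3)) F) *ᵥ v)) := by rw [inv_smul_smul₀ hr0, hCg]
    _ = r⁻¹ • v := by rw [hPv]

end Cfsg.Agent.CovNum
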