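import Cfsg.Agent.Lib.CovNum.Routes
import Mathlib.FieldTheory.Finite.Trace

/-!
# Covering number of `PSL(n, q)`: matrices without eigenvalues, up to general conjugacy

* `three_case` : dimension three;
* `ne_gc` : the general case.
-/

set_option autoImplicit false
set_option linter.unusedSectionVars false

namespace Cfsg.Agent.CovNum

open Matrix Polynomial Submodule Cfsg.Agent.SLComm

variable {F : Type*} [Field F] [Fintype F] {n m : ℕ}

theorem achB_avoid (h4 : 4 ≤ Fintype.card F) {h : F[X]} (hm : h.Monic) (hr : ∀ c : F, h.eval c ≠ 0)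
    (h2 : 2 ≤ h.natDegree) {w : F} (hw : w ≠ 0) (hq : h.natDegree = 2 → cdet h = w) :
    ∃ s : Multiset F, (0 : F) ∉ s ∧ w ∉ s ∧ AchB h s := by
  have hd := cdet_ne hr
  rcases Nat.lt_or_ge 2 h.natDegree with h3 | h3
  · obtain ⟨k, hk⟩ : ∃ k, h.natDegree = k + 3 := ⟨h.natDegree - 3, by omega⟩
    obtain ⟨z, hz0, hzw, -⟩ := exists_avoid_three h4 0 w 0
    set T := cdet h ^ 2 / z ^ (k + 1) with hT
    have hT0 : T ≠ 0 := div_ne_zero (pow_ne_zero 2 hd) (pow_ne_zero _ hz0)
    obtain ⟨x, hx0, hxw, hxT⟩ := exists_avoid_three h4 0 w (T / w)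
    have hy0 : T / x ≠ 0 := div_ne_zero hT0 hx0
    have hyw : T / x ≠ w := fun e => hxT (by rw [← e]; field_simp)
    set s := x ::ₘ (T / x) ::ₘ Multiset.replicate (k + 1) z with hs
    have hs0 : (0 : F) ∉ s := by simp [hs, Multiset.mem_replicate, hz0.symm, hx0.symm, hy0.symm]
    have hsw : w ∉ s := by simp [hs, Multiset.mem_replicate, hzw.symm, hxw.symm, hyw.symm]
    refine ⟨s, hs0, hsw, achB_big h4 hm hr (by omega) (by simp [hs]; omega) hs0 ?_⟩
    rw [hs, Multiset.prod_cons, Multiset.prod_cons, Multiset.prod_replicate, hT]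
    field_simp
  · have h2' : h.natDegree = 2 := by omega
    obtain ⟨a, ha0, haw, haw'⟩ := exists_avoid_three h4 0 w (-w)
    have hb : w ^ 2 / a ≠ a := fun e => by
      field_simp at e
      have : (w - a) * (w + a) = 0 := by linear_combination e
      rcases mul_eq_zero.1 this with h | h
      · exact haw (sub_eq_zero.1 h).symm
      · exact haw' (eq_neg_of_add_eq_zero_right h)
    have hbw : w ^ 2 / a ≠ w := fun e => haw (by field_simp at e; linear_combination (-1 : F) * e)
    refine ⟨{a, w ^ 2 / a}, ?_, ?_, achB_quad h4 hm hr h2' ha0 hb.symm ?_⟩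
    · simp [ha0.symm, hw, (div_ne_zero (pow_ne_zero 2 hw) ha0).symm]
    · simp [haw.symm, hbw.symm]
    · rw [hq h2', mul_div_cancel₀ _ ha0]

theorem achL_avoid (h4 : 4 ≤ Fintype.card F) {w : F} (hw : w ≠ 0) : ∀ (L : List F[X]), GoodBlocks L →
    (∀ h ∈ L, h.natDegree = 2 → cdet h = w) → ∃ s : Multiset F, (0 : F) ∉ s ∧ w ∉ s ∧ ∃ δ, AchL L s δ
  | [], _, _ => ⟨0, by simp, by simp, 1, achL_nil⟩
  | h :: L, hL, hq => by
    obtain ⟨hm, hr, h2⟩ := hL h List.mem_cons_self
    have hL' : GoodBlocks L := fun g hg => hL g (List.mem_cons_of_mem _ hg)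
    obtain ⟨s1, a1, a2, a3⟩ := achB_avoid h4 hm hr h2 hw (hq h List.mem_cons_self)
    obtain ⟨s2, b1, b2, b3⟩ := achL_avoid h4 hw L hL' fun g hg => hq g (List.mem_cons_of_mem _ hg)
    exact ⟨s1 + s2, by simp [a1, b1], by simp [a2, b2], achL_cons_B hm hr (by omega) a1 a3 hL'.monic b3⟩

theorem achL_count (h4 : 4 ≤ Fintype.card F) [DecidableEq F] {L : List F[X]} (hL : GoodBlocks L) {h : F[X]} (hh : h ∈ L)
    (h3 : 3 ≤ h.natDegree) (hq : ∀ f ∈ L, ∀ g ∈ L, f.natDegree = 2 → g.natDegree = 2 → cdet f = cdet g) :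
    ∃ (s : Multiset F) (w δ : F), (0 : F) ∉ s ∧ s.count w = 1 ∧ AchL L s δ := by
  classical
  obtain ⟨w, hw, hwq⟩ : ∃ w : F, w ≠ 0 ∧ ∀ f ∈ L, f.natDegree = 2 → cdet f = w := by
    by_cases hex : ∃ f ∈ L, f.natDegree = 2
    · obtain ⟨f, hf, hf2⟩ := hex
      exact ⟨cdet f, cdet_ne (hL f hf).2.1, fun g hg hg2 => hq g hg f hf hg2 hf2⟩
    · exact ⟨1, one_ne_zero, fun g hg hg2 => absurd ⟨g, hg, hg2⟩ hex⟩
  have hL' : GoodBlocks (L.erase h) := fun g hg => hL g (List.mem_of_mem_erase hg)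
  obtain ⟨s2, b1, b2, b3⟩ := achL_avoid h4 hw (L.erase h) hL' fun g hg => hwq g (List.mem_of_mem_erase hg)
  obtain ⟨hm, hr, -⟩ := hL h hh
  obtain ⟨k, hk⟩ : ∃ k, h.natDegree = k + 3 := ⟨h.natDegree - 3, by omega⟩
  obtain ⟨z, hz0, hzw, -⟩ := exists_avoid_three h4 0 w 0
  set T := cdet h ^ 2 / (w * z ^ k) with hT
  have hT0 : T ≠ 0 := div_ne_zero (pow_ne_zero 2 (cdet_ne hr)) (mul_ne_zero hw (pow_ne_zero _ hz0))
  obtain ⟨x, hx0, hxw, hxT⟩ := exists_avoid_three h4 0 w (T / w)
  have hy0 : T / x ≠ 0 := div_ne_zero hT0 hx0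
  have hyw : T / x ≠ w := fun e => hxT (by rw [← e]; field_simp)
  set s1 := w ::ₘ x ::ₘ (T / x) ::ₘ Multiset.replicate k z with hs
  have hs0 : (0 : F) ∉ s1 := by simp [hs, Multiset.mem_replicate, hw.symm, hz0.symm, hx0.symm, hy0.symm]
  have hA : AchB h s1 := by
    refine achB_big h4 hm hr h3 (by simp [hs]; omega) hs0 ?_
    rw [hs, Multiset.prod_cons, Multiset.prod_cons, Multiset.prod_cons, Multiset.prod_replicate, hT]
    field_simp
  obtain ⟨δ, hδ⟩ := achL_cons_B hm hr (by omega) hs0 hA hL'.monic b3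
  refine ⟨s1 + s2, w, δ, by simp [hs0, b1], ?_, hδ.perm (List.perm_cons_erase hh)⟩
  rw [Multiset.count_add, Multiset.count_eq_zero.2 b2, hs, Multiset.count_cons_self, Multiset.count_eq_zero.2]
  simp [Multiset.mem_replicate, hzw.symm, hxw.symm, hyw.symm]

theorem achL_quads (h4 : 4 ≤ Fintype.card F) {a b : F} (ha : a ≠ 0) (hb : b ≠ 0) (hab : a ≠ b) :
    ∀ (L : List F[X]), GoodBlocks L → (∀ h ∈ L, h.natDegree = 2 ∧ cdet h ^ 2 = a * b) →
    ∃ δ, AchL L (Multiset.replicate L.length a + Multiset.replicate L.length b) δ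
  | [], _, _ => ⟨1, by simpa using achL_nil⟩
  | h :: L, hL, hq => by
    obtain ⟨hm, hr, h2⟩ := hL h List.mem_cons_self
    have hL' : GoodBlocks L := fun g hg => hL g (List.mem_cons_of_mem _ hg)
    obtain ⟨hd, hc⟩ := hq h List.mem_cons_self
    obtain ⟨δ, h'⟩ := achL_cons_B hm hr (by omega) (s := {a, b}) (by simp [ha.symm, hb.symm])
      (achB_quad h4 hm hr hd ha hab hc.symm) hL'.monic
      (achL_quads h4 ha hb hab L hL' fun g hg => hq g (List.mem_cons_of_mem _ hg))
    refine ⟨δ, ?_⟩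
    convert h' using 1
    simp only [List.length_cons, Multiset.replicate_succ, Multiset.insert_eq_cons, ← Multiset.singleton_add]
    abel

theorem map_split {r : ℕ} {a b : F} :
    (Finset.univ.val.map fun i : Fin (r + r) => if i.val < r then a else b) =
      Multiset.replicate r a + Multiset.replicate r b := by
  rw [Fin.univ_val_map]
  have e : (fun i : Fin (r + r) => if i.val < r then a else b) = Fin.append (fun _ => a) (fun _ => b) := by
    funext i
    induction i using Fin.addCases with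
    | left i => simp
    | right i => rw [Fin.append_right, if_neg (by simp)]
  rw [e, List.ofFn_fin_append, List.ofFn_const, List.ofFn_const, ← Multiset.coe_add, Multiset.coe_replicate,
    Multiset.coe_replicate]

theorem contig_split {n r : ℕ} {a b : F} (hab : a ≠ b) :
    Contig fun i : Fin n => if i.val < r then a else b := by
  intro i j k hij hjk h
  have h1 : i.val < j.val := hij
  have h2 : j.val < k.val := hjk
  dsimp only at h ⊢
  split_ifs at h ⊢ <;> first | rfl | omega | exact absurd h hab | exact absurd h.symm hab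

theorem contig_first {n : ℕ} (a : F) : Contig fun i : Fin n => if i.val = 0 then a else 1 := by
  intro i j k hij hjk h
  have h1 : i.val < j.val := hij
  have h2 : j.val < k.val := hjk
  dsimp only at h ⊢
  rw [if_neg (show ¬ k.val = 0 by omega)] at h
  rw [if_neg (show ¬ j.val = 0 by omega), h]

/-- One block. -/
theorem ne_single (h4 : 4 ≤ Fintype.card F) {x : Matrix (Fin (m + 4)) (Fin (m + 4)) F} (hx : NoEig x) {h : F[X]}
    (hm : h.Monic) (hr : ∀ c : F, h.eval c ≠ 0) (hsim : Sim (Matrix.toLin' x) (dcyc [h]))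
    {G : Matrix (Fin (m + 4)) (Fin (m + 4)) F} (hdet : G.det = x.det ^ (m + 4))
    (hG : (∀ c : F, G ≠ c • 1) ∨ x.det = 1 ∧ G = 1) : Prd GC x (m + 4) G := by
  have hd : h.natDegree = m + 4 := by
    have := sum_deg (L := [h]) (by simpa using hm) hsim
    simpa using this
  have hxd : x.det = cdet h := (show Cls h x from hsim.trans (dcyc_singleton h)).det hm
  set lam : Fin (m + 4) → F := fun i => if i.val = 0 then x.det ^ 2 else 1 with hlam
  set s := Finset.univ.val.map lam with hs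
  have hd0 : x.det ≠ 0 := hx.det_ne
  have hlam0 : ∀ i, lam i ≠ 0 := fun i => by
    simp only [hlam]; split_ifs
    exacts [pow_ne_zero 2 hd0, one_ne_zero]
  have hs0 : (0 : F) ∉ s := fun h0 => by
    obtain ⟨i, -, hi⟩ := Multiset.mem_map.1 h0
    exact hlam0 i hi
  have hsp : s.prod = x.det ^ 2 := by
    rw [hs, ← Finset.prod_eq_multiset_prod, Fin.prod_univ_succ, Finset.prod_eq_one, mul_one]
    · simp [hlam]
    · intro i _; simp [hlam]
  obtain ⟨δ, hA⟩ := achL_cons_B hm hr (by omega) hs0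
    (achB_big h4 hm hr (by omega) (by rw [hs, hd]; simp) hs0 (by rw [hsp, hxd])) (L := []) (by simp) ⟨1, achL_nil⟩
  rw [add_zero] at hA
  refine lu_route h4 (fun y => SC.gc) hx.nonscalar hd0 hsp hs0 (fun M => ach_gc (hA _ x hsim))
    (β := 1) one_ne_zero hs.symm hs.symm (fun i hi => ?_) (contig_first _) (contig_first _) (fun h1 _ => ?_) hdet hG
  · have : i.val ≠ 0 := fun e => hi (Fin.ext e)
    simp [hlam, this, hi]
  · rw [hs, Multiset.map_map]
    refine Multiset.map_congr rfl fun i _ => ?_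
    simp [hlam, h1]

theorem cyclic_three {G : Matrix (Fin 3) (Fin 3) F} {v : Fin 3 → F} (hv : v ≠ 0)
    (h1 : G *ᵥ v ∉ span F ({v} : Set (Fin 3 → F)))
    (h2 : G *ᵥ (G *ᵥ v) ∉ span F ({v, G *ᵥ v} : Set (Fin 3 → F))) :
    ∃ f : F[X], f.Monic ∧ Cls f G := by
  set S := cspan (Matrix.toLin' G) v with hS
  have hvS : v ∈ S := self_mem_cspan _ _
  have hGS : ∀ u ∈ S, G *ᵥ u ∈ S := fun u hu => by
    simpa using map_mem_cspan (φ := Matrix.toLin' G) _ hu
  have hle : span F ({v, G *ᵥ v} : Set (Fin 3 → F)) ≤ S :=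
    span_le.2 (by simp [Set.insert_subset_iff, hvS, hGS v hvS])
  have hlt : span F ({v, G *ᵥ v} : Set (Fin 3 → F)) < S :=
    lt_of_le_of_ne hle fun e => h2 (e ▸ hGS _ (hGS v hvS))
  have h3 := Submodule.finrank_lt_finrank_of_lt hlt
  rw [SLComm.finrank_pair_eq (SLComm.indep_pair hv h1)] at h3
  have htop : S = ⊤ := Submodule.eq_top_of_finrank_eq (by
    have := Submodule.finrank_le S
    rw [Module.finrank_fin_fun] at this ⊢
    omega)
  exact ⟨_, (Matrix.toLin' G).charpoly_monic, sim_cyc_charpoly htop⟩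

/-- The product of the three Frobenius conjugates. -/
theorem three_one {x : Matrix (Fin 3) (Fin 3) F} {h : F[X]} (hm : h.Monic) (hirr : Irreducible h)
    (hd : h.natDegree = 3) (hx : Cls h x) (hdet : x.det = 1) : Prd GC x 3 1 := by
  haveI := Fact.mk hirr
  haveI := hm.finite_adjoinRoot
  haveI : Finite (AdjoinRoot h) := Module.finite_of_finite F
  obtain ⟨e, he⟩ := id hx
  set α := AdjoinRoot.root h with hα
  set φ := FiniteField.frobeniusAlgEquivOfAlgebraic F (AdjoinRoot h) with hφ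
  let T : AdjoinRoot h → Matrix (Fin 3) (Fin 3) F := fun c =>
    LinearMap.toMatrix' (e.symm.conjRingEquiv (LinearMap.mulLeft F c) : Module.End F (Fin 3 → F))
  have hT : ∀ c, ∀ v, T c *ᵥ v = e.symm (c * e v) := fun c v => by
    rw [← Matrix.toLin'_apply, Matrix.toLin'_toMatrix']
    rfl
  have hgc : ∀ σ : AdjoinRoot h ≃ₐ[F] AdjoinRoot h, GC x (T (σ α)) := fun σ => gc_of_sim
    ⟨e.trans (σ.toLinearEquiv.trans e.symm), fun v => by
      rw [Matrix.toLin'_apply _ (e.trans _ v), hT]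
      show e.symm (σ (e (Matrix.toLin' x v))) = _
      rw [he]
      show e.symm (σ (α * e v)) = e.symm (σ α * e (e.symm (σ (e v))))
      rw [e.apply_symm_apply, map_mul]⟩
  refine ⟨[T α, T (φ α), T (φ (φ α))], rfl, ?_, ?_⟩
  · intro y hy
    simp only [List.mem_cons, List.not_mem_nil, or_false] at hy
    rcases hy with rfl | rfl | rfl
    exacts [hgc AlgEquiv.refl, hgc φ, hgc (φ.trans φ)]
  · have hnorm := FiniteField.algebraMap_norm_eq_prod_pow (K := F) (L := AdjoinRoot h) α
    rw [finrank_adjoinRoot hm, hd, show Algebra.norm F α = LinearMap.det (Cyc h) from rfl,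
      ← Sim.det_eq hx, LinearMap.det_toLin', hdet, map_one, Finset.prod_range_succ, Finset.prod_range_succ,
      Finset.prod_range_one, pow_zero, pow_one, pow_one, Nat.card_eq_fintype_card] at hnorm
    simp only [List.prod_cons, List.prod_nil, Matrix.mul_one]
    refine Matrix.ext_of_mulVec_single fun i => ?_
    rw [one_mulVec, ← mulVec_mulVec, ← mulVec_mulVec, hT, hT, hT, e.apply_symm_apply, e.apply_symm_apply, ← mul_assoc,
      ← mul_assoc]
    have h2 : φ (φ α) = α ^ Fintype.card F ^ 2 := by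
      simp only [hφ, FiniteField.coe_frobeniusAlgEquivOfAlgebraic, ← pow_mul, sq]
    rw [h2, show φ α = α ^ Fintype.card F from rfl, ← hnorm, one_mul, e.symm_apply_apply]

theorem three_case (h4 : 4 ≤ Fintype.card F) {x : Matrix (Fin 3) (Fin 3) F} (hx : NoEig x)
    {G : Matrix (Fin 3) (Fin 3) F} (hdet : G.det = x.det ^ 3)
    (hG : (∀ c : F, G ≠ c • 1) ∨ x.det = 1 ∧ G = 1) : Prd GC x 3 G := by
  classical
  obtain ⟨L, -, hL, hsim⟩ := exists_good hx
  have hsum := sum_deg hL.monic hsim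
  obtain ⟨h, rfl⟩ : ∃ h, L = [h] := by
    rcases L with _ | ⟨h, _ | ⟨g, L⟩⟩
    · simp at hsum
    · exact ⟨h, rfl⟩
    · simp at hsum
      have := (hL h (by simp)).2.2
      have := (hL g (by simp)).2.2
      omega
  obtain ⟨hm, hr, -⟩ := hL h List.mem_cons_self
  have hd : h.natDegree = 3 := by simpa using hsum
  have hxc : Cls h x := hsim.trans (dcyc_singleton h)
  set d := x.det with hd'
  have hd0 : d ≠ 0 := hx.det_ne
  have hxd : cdet h = d := (hxc.det hm).symm
  have two : ∀ s : Multiset F, Multiset.card s = 3 → (0 : F) ∉ s → s.prod = d ^ 2 → ∀ M, Cls (rp s) M →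
      Prd GC x 2 M := by
    intro s hc hs hp M hM
    obtain ⟨δ, hA⟩ := achL_cons_B hm hr (by omega) hs
      (achB_big h4 hm hr (by omega) (by omega) hs (by rw [hp, hxd])) (L := []) (by simp) ⟨1, achL_nil⟩
    rw [add_zero] at hA
    exact ach_gc (hA _ x hsim) hM
  rcases hG with hG | ⟨h1, rfl⟩
  swap
  · exact three_one hm (irreducible_small hm hr (by omega) (by omega)) hd hxc h1
  by_cases hrr : ∃ γ : F, R1 γ G
  · obtain ⟨γ, hrr⟩ := hrr
    set lam : Fin 3 → F := fun i => if i.val = 0 then d ^ 2 else 1 with hlam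
    have hlam0 : ∀ i, lam i ≠ 0 := fun i => by
      simp only [hlam]; split_ifs
      exacts [pow_ne_zero 2 hd0, one_ne_zero]
    have hp : ∏ i, lam i = d ^ 2 := by simp [hlam, Fin.prod_univ_three]
    obtain ⟨M, M', hM, hM', rfl⟩ := r1_pair (m := 0) h4 hlam0 (contig_first _) hm hd (eval_zero_ne hr) hG hrr
      (by rw [hdet, hp, hxd]; ring)
    refine (two _ (by simp) (fun h0 => ?_) (by rw [← Finset.prod_eq_multiset_prod, hp]) M hM).mul
      (Prd.one (hxc.gc hM'))
    obtain ⟨i, -, hi⟩ := Multiset.mem_map.1 h0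
    exact hlam0 i hi
  push Not at hrr
  obtain ⟨v, hv, h1, h2⟩ : ∃ v : Fin 3 → F, v ≠ 0 ∧ G *ᵥ v ∉ span F ({v} : Set (Fin 3 → F)) ∧
      G *ᵥ (G *ᵥ v) ∉ span F ({v, G *ᵥ v} : Set (Fin 3 → F)) := by
    by_contra! hno
    obtain ⟨γ, hγ⟩ := r1_of_no_krylov hG hno
    exact hrr γ hγ
  obtain ⟨fQ, hfQ, hQ⟩ := cyclic_three hv h1 h2
  obtain ⟨u, w, hu, huw, huwp⟩ : ∃ (u : Fin 2 → F) (w : F), (∀ i, u i ≠ 0) ∧ (∀ i, u i ≠ w) ∧
      (∏ i, u i) * w = d ^ 2 := by
    by_cases hd2 : d ^ 2 = 1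
    · obtain ⟨c, hc0, hc1, hc2⟩ := exists_avoid_three h4 0 1 (-1)
      refine ⟨![1, c], c⁻¹, fun i => by fin_cases i <;> simpa, fun i => ?_, ?_⟩
      · fin_cases i
        · exact fun e => hc1 (inv_eq_one.1 e.symm)
        · intro e
          have : (c - 1) * (c + 1) = 0 := by
            have h' : c * c = 1 := by
              have e' : c = c⁻¹ := e
              nth_rw 2 [e']; exact mul_inv_cancel₀ hc0
            linear_combination h'
          rcases mul_eq_zero.1 this with h | h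
          · exact hc1 (sub_eq_zero.1 h)
          · exact hc2 (eq_neg_of_add_eq_zero_left h)
      · simp [Fin.prod_univ_two, hd2, hc0]
    · exact ⟨![1, 1], d ^ 2, fun i => by fin_cases i <;> simp, fun i => by fin_cases i <;> simpa using Ne.symm hd2,
        by simp [Fin.prod_univ_two]⟩
  have hf0 := eval_zero_ne hr
  have hgm := invPoly_monic hf0
  have hC : Cls h (cm (m := 2) h) := cls_cm hm hd
  have hCi := hC.inv hm hf0
  have hCd : (cm (m := 2) h).det = d := by rw [hC.det hm, hxd]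
  have hgdet : cdet (invPoly h) = d⁻¹ := by
    rw [← hCi.det hgm, det_nonsing_inv, Ring.inverse_eq_inv', hCd]
  obtain ⟨Y, hY, hT⟩ := tri_factor hfQ hQ (by rw [hdet]; exact pow_ne_zero _ hd0) hgm
    (by rw [invPoly_natDegree hf0, hd]) hu huw (by rw [hdet, hgdet, huwp]; field_simp)
  have hYd : Y.det = d⁻¹ := by rw [hY.det hgm, hgdet]
  have hYd0 : Y.det ≠ 0 := by rw [hYd]; exact inv_ne_zero hd0
  have hYC : GC x Y⁻¹ := by
    have := (hCi.gc hY).inv (by rw [det_nonsing_inv, Ring.inverse_eq_inv', hCd]; exact inv_ne_zero hd0)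
    rw [nonsing_inv_nonsing_inv _ (by rw [hCd]; exact Ne.isUnit hd0)] at this
    exact (hxc.gc hC).trans this
  have hw0 : w ≠ 0 := fun e => pow_ne_zero 2 hd0 (by rw [← huwp, e, mul_zero])
  have := (two _ (by simp) (by simp [hw0.symm, (hu 0).symm, (hu 1).symm])
    (by rw [Multiset.prod_cons, ← Finset.prod_eq_multiset_prod, mul_comm, huwp]) _ hT).mul (Prd.one hYC)
  rwa [mul_nonsing_inv_cancel_right _ _ (Ne.isUnit hYd0)] at this

/-- Products of conjugates of a matrix without eigenvalues. -/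
theorem ne_gc (h4 : 4 ≤ Fintype.card F) {x : Matrix (Fin (m + 3)) (Fin (m + 3)) F} (hx : NoEig x)
    {G : Matrix (Fin (m + 3)) (Fin (m + 3)) F} (hdet : G.det = x.det ^ (m + 3))
    (hG : (∀ c : F, G ≠ c • 1) ∨ x.det = 1 ∧ G = 1) : Prd GC x (m + 3) G := by
  classical
  rcases Nat.eq_zero_or_pos m with rfl | hm
  · exact three_case h4 hx hdet hG
  obtain ⟨p, rfl⟩ : ∃ p, m = p + 1 := ⟨m - 1, by omega⟩
  obtain ⟨L0, -, hL0, hsim0⟩ := exists_good hx
  obtain ⟨L, hL, hsim1, hq⟩ := merge_quad L0 hL0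
  have hsim := hsim0.trans hsim1
  have hsum := sum_deg hL.monic hsim
  by_cases hbig : ∃ h ∈ L, 3 ≤ h.natDegree
  · obtain ⟨h, hh, h3⟩ := hbig
    by_cases hp2 : 2 ≤ p
    · obtain ⟨q, rfl⟩ : ∃ q, p = q + 2 := ⟨p - 2, by omega⟩
      obtain ⟨s, w, δ, hs, hw, hA⟩ := achL_count h4 hL hh h3 hq
      have hx' := hA _ x hsim
      exact c_route (fun y => SC.gc) hx.nonscalar hx.det_ne hx'.prod hs hx'.card hw (fun M => ach_gc hx') hdet
    -- four or five
    obtain ⟨hd, hdm, hdr, hs'⟩ : ∃ hd : F[X], hd.Monic ∧ (∀ c : F, hd.eval c ≠ 0) ∧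
        Sim (Matrix.toLin' x) (dcyc [hd]) := by
      obtain ⟨hhm, hhr, -⟩ := hL h hh
      rcases L with _ | ⟨f, _ | ⟨g, rest⟩⟩
      · simp at hh
      · obtain ⟨hfm, hfr, -⟩ := hL f List.mem_cons_self
        exact ⟨f, hfm, hfr, hsim⟩
      · obtain ⟨hfm, hfr, hf2⟩ := hL f List.mem_cons_self
        obtain ⟨hgm, hgr, hg2⟩ := hL g (by simp)
        rcases rest with _ | ⟨e, rest⟩
        swap
        · have := (hL e (by simp)).2.2
          simp at hsum
          omega
        simp at hsum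
        have hne : f.natDegree ≠ g.natDegree := by
          simp only [List.mem_cons, List.not_mem_nil, or_false] at hh
          rcases hh with rfl | rfl <;> omega
        refine ⟨f * g, hfm.mul hgm, fun c => by rw [eval_mul]; exact mul_ne_zero (hfr c) (hgr c),
          hsim.trans (dcyc_merge hfm hgm (coprime_of_primes (irreducible_small hfm hfr hf2 (by omega))
            (irreducible_small hgm hgr hg2 (by omega)) hfm hgm (fun e => hne (by rw [e]))) [])⟩
    exact ne_single h4 hx hdm hdr hs' hdet hG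
  push Not at hbig
  have h2 : ∀ h ∈ L, h.natDegree = 2 := fun h hh => by have := hbig h hh; have := (hL h hh).2.2; omega
  have hr : L.length + L.length = p + 4 := by
    rw [← hsum, List.map_congr_left (g := fun _ => 2) h2]
    simp [mul_two]
  obtain ⟨h0, hh0⟩ : ∃ h, h ∈ L := List.exists_mem_of_length_pos (by omega)
  set e := cdet h0 with he
  have he0 : e ≠ 0 := cdet_ne (hL h0 hh0).2.1
  obtain ⟨a, ha0, hae, hae'⟩ := exists_avoid_three h4 0 e (-e)
  set b := e ^ 2 / a with hb
  have hb0 : b ≠ 0 := div_ne_zero (pow_ne_zero 2 he0) ha0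
  have hab : a ≠ b := fun h => by
    rw [hb] at h
    field_simp at h
    have : (a - e) * (a + e) = 0 := by linear_combination h
    rcases mul_eq_zero.1 this with h | h
    · exact hae (sub_eq_zero.1 h)
    · exact hae' (eq_neg_of_add_eq_zero_left h)
  have habe : a * b = e ^ 2 := by rw [hb, mul_div_cancel₀ _ ha0]
  obtain ⟨δ, hA⟩ := achL_quads h4 ha0 hb0 hab L hL fun h hh =>
    ⟨h2 h hh, by rw [hq h hh h0 hh0 (h2 h hh) (h2 h0 hh0), habe]⟩
  set r := L.length with hrdef
  have hx' := hA _ x hsim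
  have hmul : ∀ c c' : F, (Finset.univ.val.map fun i : Fin (p + 4) => if i.val < r then c else c') =
      Multiset.replicate r c + Multiset.replicate r c' := by
    intro c c'; rw [← hr]; exact map_split
  have hs0 : (0 : F) ∉ Multiset.replicate r a + Multiset.replicate r b := by
    simp [Multiset.mem_replicate, ha0.symm, hb0.symm]
  refine lu_route h4 (fun y => SC.gc) hx.nonscalar hx.det_ne hx'.prod hs0 (fun M => ach_gc hx')
    (β := e ^ 2) (pow_ne_zero 2 he0) (lam := fun i => if i.val < r then a else b)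
    (mu := fun i => if i.val < r then b else a) (hmul a b) ((hmul b a).trans (add_comm _ _))
    (fun i _ => ?_) (contig_split hab) (contig_split hab.symm) (fun h1 hp => ?_) hdet hG
  · split_ifs
    exacts [habe, by rw [mul_comm, habe]]
  · subst hp
    have hr2 : r = 2 := by omega
    have he2 : e ^ 2 = 1 := by
      have hd : x.det = (L.map cdet).prod := by
        rw [← LinearMap.det_toLin', hsim.det_eq, det_dcyc hL.monic]
        rfl
      rw [h1, List.map_congr_left (g := fun _ => e) (fun h hh => hq h hh h0 hh0 (h2 h hh) (h2 h0 hh0))] at hd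
      simp [← hrdef, hr2] at hd
      rw [sq]; exact hd.symm
    have hbi : b = a⁻¹ := eq_inv_of_mul_eq_one_right (habe.trans he2)
    simp [Multiset.map_replicate, hbi, add_comm]

end Cfsg.Agent.CovNum
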