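import Cfsg.Agent.Lib.CovNum.TLemma

/-!
# Covering number of `PSL(n, q)`: scalar plus rank one

* `r1_unique` : the scalar is unique in dimension at least three;
* `r1_conj` : nonscalar `a +` rank one matrices of one determinant are conjugate;
* `image_of_common` : products of such conjugates with a common eigenvector;
* `root_group_list` : the products inside one root group.
-/

set_option autoImplicit false
set_option linter.unusedSectionVars false

namespace Cfsg.Agent.CovNum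

open Matrix Submodule

variable {F : Type*} [Field F] {n m : ℕ}

theorem R1.apply {c : F} {x : Matrix (Fin n) (Fin n) F} {u f : Fin n → F} (h : x - c • 1 = vecMulVec u f)
    (w : Fin n → F) : x *ᵥ w = c • w + (f ⬝ᵥ w) • u := by
  rw [← sub_add_cancel x (c • 1), h, add_mulVec, vecMulVec_mulVec', smul_mulVec, one_mulVec, add_comm]

theorem R1.of_image {c : F} {x : Matrix (Fin n) (Fin n) F} {u : Fin n → F}
    (h : ∀ w, (x - c • 1) *ᵥ w ∈ span F ({u} : Set (Fin n → F))) : R1 c x := by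
  obtain ⟨f, hf⟩ := exists_vecMulVec h
  exact ⟨u, f, hf⟩

theorem R1.smul {c : F} {x : Matrix (Fin n) (Fin n) F} (h : R1 c x) (k : F) : R1 (k * c) (k • x) := by
  obtain ⟨u, f, he⟩ := h
  exact ⟨k • u, f, by rw [Matrix.smul_vecMulVec, ← he, smul_sub, smul_smul]⟩

theorem R1.gc {c : F} {x y : Matrix (Fin n) (Fin n) F} (h : R1 c x) (hxy : GC x y) : R1 c y := by
  obtain ⟨u, f, he⟩ := h
  obtain ⟨g, hg, hge⟩ := hxy
  refine R1.of_image (u := g *ᵥ u) fun w => ?_
  have e : y - c • 1 = g * (x - c • 1) * g⁻¹ := by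
    rw [Matrix.mul_sub, hge, Matrix.mul_smul, Matrix.mul_one, Matrix.sub_mul, Matrix.smul_mul,
      mul_nonsing_inv_cancel_right _ _ (Ne.isUnit hg), mul_nonsing_inv _ (Ne.isUnit hg)]
  rw [e, he, mul_vecMulVec, vecMulVec_mul]
  exact mem_span_of_vecMulVec w

theorem r1_unique {x : Matrix (Fin (m + 3)) (Fin (m + 3)) F} {a b : F} (ha : R1 a x) (hb : R1 b x) : a = b := by
  obtain ⟨u, f, hu⟩ := ha
  obtain ⟨u', f', hu'⟩ := hb
  obtain ⟨w, hw, hwn⟩ := exists_orth_notMem (by omega : 3 ≤ m + 3) f (0 : Fin (m + 3) → F)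
  obtain ⟨w', hw', hwn'⟩ := exists_orth_notMem (by omega : 3 ≤ m + 3) f w
  by_contra hab
  have h1 : ∀ z, f ⬝ᵥ z = 0 → (a - b) • z = (f' ⬝ᵥ z) • u' := fun z hz => by
    have e1 := R1.apply hu z
    have e2 := R1.apply hu' z
    rw [hz, zero_smul, add_zero] at e1
    rw [e1] at e2
    linear_combination (norm := module) e2
  have hw0 : w ≠ 0 := fun e => hwn (by rw [e]; exact zero_mem _)
  have hk : f' ⬝ᵥ w ≠ 0 := fun e => by
    have := h1 w hw
    rw [e, zero_smul, smul_eq_zero] at this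
    exact this.elim (sub_ne_zero.2 hab) hw0
  refine hwn' ((Submodule.smul_mem_iff _ (sub_ne_zero.2 hab)).1 ?_)
  rw [h1 w' hw', show (f' ⬝ᵥ w') • u' = ((f' ⬝ᵥ w') / (f' ⬝ᵥ w) * (a - b)) • w by
    rw [mul_smul, h1 w hw, smul_smul, div_mul_cancel₀ _ hk]]
  exact smul_mem _ _ (mem_span_singleton_self w)

theorem det_r1 {x : Matrix (Fin (m + 1)) (Fin (m + 1)) F} {a : F} (ha : a ≠ 0) {u f : Fin (m + 1) → F}
    (he : x - a • 1 = vecMulVec u f) : x.det = a ^ m * (a + f ⬝ᵥ u) := by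
  have : x = a • (1 + vecMulVec (a⁻¹ • u) f) := by
    rw [smul_add, Matrix.smul_vecMulVec, smul_smul, mul_inv_cancel₀ ha, one_smul, ← he, add_sub_cancel]
  rw [this, det_smul, vecMulVec_eq Unit, det_one_add_replicateCol_mul_replicateRow, dotProduct_smul,
    Fintype.card_fin, smul_eq_mul]
  field_simp
  ring

/-- The normal form. -/
theorem r1_form {x : Matrix (Fin (m + 3)) (Fin (m + 3)) F} (hx : ∀ c : F, x ≠ c • 1) {a : F}
    {u f : Fin (m + 3) → F} (he : x - a • 1 = vecMulVec u f) :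
    SC x (bl (a + f ⬝ᵥ u) 0 (Pi.single 0 1) (a • 1)) := by
  have hu : u ≠ 0 := fun e => hx a (sub_eq_zero.1 (by rw [he, e]; ext i j; simp [vecMulVec_apply]))
  have hf : f ≠ 0 := fun e => hx a (sub_eq_zero.1 (by rw [he, e]; ext i j; simp [vecMulVec_apply]))
  obtain ⟨P, hP, hPu⟩ := exists_col_sl hu
  have hPd : P.det ≠ 0 := by rw [hP]; exact one_ne_zero
  set ρ : Fin (m + 2) → F := fun j => (f ᵥ* P) j.succ with hρ
  have h0 : (f ᵥ* P) 0 = f ⬝ᵥ u := by
    rw [← hPu, dotProduct_mulVec, dotProduct_single, mul_one]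
  have h1 : SC x (bl (a + f ⬝ᵥ u) 0 ρ (a • 1)) := by
    refine SC.symm ⟨P, hP, ?_⟩
    have e : bl (a + f ⬝ᵥ u) 0 ρ (a • 1) = a • 1 + vecMulVec (Pi.single 0 1) (f ᵥ* P) := by
      ext i j
      induction i using Fin.cases <;> induction j using Fin.cases <;>
        simp [vecMulVec_apply, h0, hρ, Fin.succ_ne_zero, Matrix.one_apply, (Fin.succ_ne_zero _).symm]
    rw [e, Matrix.mul_add, mul_vecMulVec, hPu, ← vecMulVec_mul, Matrix.mul_smul, Matrix.mul_one, ← he,
      Matrix.sub_mul, Matrix.smul_mul, Matrix.one_mul, add_sub_cancel]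
  refine h1.trans ?_
  by_cases hρ0 : ρ = 0
  · have hfu : f ⬝ᵥ u ≠ 0 := fun e => hf (by
      have hfP : f ᵥ* P = 0 := funext fun j => by
        induction j using Fin.cases with
        | zero => rw [h0, e]; rfl
        | succ j => exact congrFun hρ0 j
      have := congrArg (· ᵥ* P⁻¹) hfP
      simpa [vecMul_vecMul, mul_nonsing_inv _ (Ne.isUnit hPd)] using this)
    have := sc_shear (a + f ⬝ᵥ u) (0 : Fin (m + 2) → F) ρ (-(f ⬝ᵥ u)⁻¹ • Pi.single 0 1) (a • 1)
    convert this using 2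
    · simp
    · rw [hρ0, dotProduct_zero, vecMul_smul, vecMul_one, zero_add, add_zero, smul_smul, smul_smul, ← sub_smul]
      conv_lhs => rw [← one_smul F (Pi.single 0 1 : Fin (m + 2) → F)]
      congr 1
      field_simp
      ring
    · simp
  · obtain ⟨P1, hP1, e1⟩ := exists_col_sl hρ0
    obtain hu1 : IsUnit P1.det := by rw [hP1]; exact isUnit_one
    refine sc_diag (g := P1ᵀ) ?_ ?_ ?_ ?_
    · rw [det_transpose, hP1]; exact one_ne_zero
    · simp
    · simp
    · rw [det_transpose, hP1, inv_one, one_smul, vecMul_transpose, e1]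

theorem r1_conj {x y : Matrix (Fin (m + 3)) (Fin (m + 3)) F} (hx : ∀ c : F, x ≠ c • 1) (hy : ∀ c : F, y ≠ c • 1)
    {a : F} (ha : a ≠ 0) (h1 : R1 a x) (h2 : R1 a y) (hd : y.det = x.det) : SC x y := by
  obtain ⟨u, f, he⟩ := h1
  obtain ⟨u', f', he'⟩ := h2
  rw [det_r1 ha he', det_r1 ha he] at hd
  have e : f' ⬝ᵥ u' = f ⬝ᵥ u := by simpa [ha] using hd
  have := r1_form hy he'
  rw [e] at this
  exact (r1_form hx he).trans this.symm

theorem r1_lower {x : Matrix (Fin (m + 3)) (Fin (m + 3)) F} (hx : ∀ c : F, x ≠ c • 1) {a : F} (ha : a ≠ 0)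
    {u f : Fin (m + 3) → F} (he : x - a • 1 = vecMulVec u f) :
    SC x (bl a (Pi.single 0 1) 0 (a • 1 + (f ⬝ᵥ u) • vecMulVec (Pi.single 0 1) (Pi.single 0 1))) := by
  set e0 : Fin (m + 2) → F := Pi.single 0 1 with he0
  set L := bl a e0 0 (a • 1 + (f ⬝ᵥ u) • vecMulVec e0 e0) with hL
  have hL1 : L - a • 1 = vecMulVec (Fin.cons 0 e0 : Fin (m + 3) → F) (Fin.cons 1 ((f ⬝ᵥ u) • e0)) := by
    ext i j
    induction i using Fin.cases <;> induction j using Fin.cases <;>
      simp [hL, vecMulVec_apply, Fin.succ_ne_zero, Matrix.one_apply, (Fin.succ_ne_zero _).symm, mul_left_comm]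
  refine r1_conj hx (fun c hc => ?_) ha ⟨u, f, he⟩ ⟨_, _, hL1⟩ ?_
  · have := congrFun (congrFun hc (Fin.succ 0)) 0
    rw [hL, bl_succ_zero, Matrix.smul_apply, Matrix.one_apply_ne (Fin.succ_ne_zero _)] at this
    simp [he0] at this
  · rw [det_r1 ha hL1, det_r1 ha he]
    simp [dotProduct, Fin.sum_univ_succ, he0, Pi.single_apply]

theorem image_of_common {a μ : F} (ha : μ ≠ a) {w : Fin n → F} (hw0 : w ≠ 0) :
    ∀ l : List (Matrix (Fin n) (Fin n) F), (∀ y ∈ l, R1 a y ∧ y *ᵥ w = μ • w) →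
      ∀ z, (l.prod - a ^ l.length • 1) *ᵥ z ∈ span F ({w} : Set (Fin n → F))
  | [], _, z => by simp
  | y :: l, h, z => by
    obtain ⟨⟨u, f, he⟩, hyw⟩ := h y List.mem_cons_self
    have hfw : (f ⬝ᵥ w) • u = (μ - a) • w := by
      have := R1.apply he w
      rw [hyw] at this
      linear_combination (norm := module) -this
    have hk : f ⬝ᵥ w ≠ 0 := fun e => by
      rw [e, zero_smul] at hfw
      exact (smul_eq_zero.1 hfw.symm).elim (sub_ne_zero.2 ha) hw0
    have hu : u ∈ span F ({w} : Set (Fin n → F)) :=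
      (Submodule.smul_mem_iff _ hk).1 (hfw ▸ smul_mem _ _ (mem_span_singleton_self w))
    have hy : ∀ q ∈ span F ({w} : Set (Fin n → F)), y *ᵥ q ∈ span F ({w} : Set (Fin n → F)) := by
      intro q hq
      obtain ⟨k, rfl⟩ := mem_span_singleton.1 hq
      rw [mulVec_smul, hyw]
      exact smul_mem _ _ (smul_mem _ _ (mem_span_singleton_self w))
    have e : (y :: l).prod - a ^ (y :: l).length • 1 =
        y * (l.prod - a ^ l.length • 1) + a ^ l.length • (y - a • 1) := by
      rw [List.prod_cons, List.length_cons, Matrix.mul_sub, Matrix.mul_smul, Matrix.mul_one, smul_sub, smul_smul,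
        pow_succ]
      abel
    rw [e, add_mulVec, ← mulVec_mulVec, smul_mulVec, he, vecMulVec_mulVec']
    exact add_mem (hy _ (image_of_common ha hw0 l (fun y' hy' => h y' (List.mem_cons_of_mem _ hy')) z))
      (smul_mem _ _ (smul_mem _ _ hu))

theorem nc_all_of_r1 {x : Matrix (Fin n) (Fin n) F} {a : F} (hx : R1 a x) {l : List (Matrix (Fin n) (Fin n) F)}
    (hl : ∀ y ∈ l, GC x y) {G : Matrix (Fin n) (Fin n) F} (hG : l.prod = G) (hns : ¬ R1 (a ^ l.length) G)
    (hnc : NC a l) (μ : F) : NC μ l := by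
  intro w hw
  by_cases h : μ = a
  · exact hnc w (h ▸ hw)
  by_contra hw0
  exact hns (hG ▸ R1.of_image (image_of_common h hw0 l fun y hy => ⟨hx.gc (hl y hy), hw y hy⟩))

variable [Fintype F]

theorem exists_params (h4 : 4 ≤ Fintype.card F) :
    ∀ (k : ℕ) (s : F), ∃ ts : List F, ts.length = k + 2 ∧ (∀ t ∈ ts, t ≠ 0) ∧ ts.sum = s
  | 0, s => by
    obtain ⟨t, h0, hs, -⟩ := exists_avoid_three h4 0 s 0
    exact ⟨[t, s - t], rfl, by simpa using ⟨h0, sub_ne_zero.2 (Ne.symm hs)⟩, by simp⟩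
  | k + 1, s => by
    obtain ⟨ts, h1, h2, h3⟩ := exists_params h4 k (s - 1)
    exact ⟨1 :: ts, by simp [h1], List.forall_mem_cons.2 ⟨one_ne_zero, h2⟩, by rw [List.sum_cons, h3]; ring⟩

/-- Products inside one root group. -/
theorem root_group_list (h4 : 4 ≤ Fintype.card F) {x : Matrix (Fin (m + 3)) (Fin (m + 3)) F}
    (hx : ∀ c : F, x ≠ c • 1) {a : F} (ha : a ≠ 0) (hx1 : R1 a x) (hxd : x.det = a ^ (m + 3))
    {G : Matrix (Fin (m + 3)) (Fin (m + 3)) F} (hG1 : R1 (a ^ (m + 3)) G) (hGd : G.det = x.det ^ (m + 3)) :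
    Prd SC x (m + 3) G := by
  obtain ⟨u0, f0, he0⟩ := hG1
  obtain ⟨u, f, hu, hf, hfu, σ, hσ⟩ : ∃ (u f : Fin (m + 3) → F), u ≠ 0 ∧ f ≠ 0 ∧ f ⬝ᵥ u = 0 ∧
      ∃ σ : F, G = a ^ (m + 3) • (1 + σ • vecMulVec u f) := by
    have hd := det_r1 (pow_ne_zero (m + 3) ha) he0
    rw [hGd, hxd, pow_succ _ (m + 2)] at hd
    have h0 : f0 ⬝ᵥ u0 = 0 := by
      have := mul_left_cancel₀ (pow_ne_zero _ (pow_ne_zero _ ha)) hd
      linear_combination -this
    by_cases hz : u0 = 0 ∨ f0 = 0
    · refine ⟨Pi.single 0 1, Pi.single 1 1, by simp, by simp, by simp, 0, ?_⟩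
      rw [zero_smul, add_zero, ← sub_eq_zero, he0]
      rcases hz with rfl | rfl <;> ext i j <;> simp [vecMulVec_apply]
    · push Not at hz
      refine ⟨u0, f0, hz.1, hz.2, h0, (a ^ (m + 3))⁻¹, ?_⟩
      rw [smul_add, smul_smul, mul_inv_cancel₀ (pow_ne_zero _ ha), one_smul, ← he0, add_sub_cancel]
  obtain ⟨ts, hlen, hne, hsum⟩ := exists_params h4 (m + 1) σ
  refine ⟨ts.map fun t => a • (1 + t • vecMulVec u f), by simpa using hlen, fun y hy => ?_, ?_⟩
  · obtain ⟨t, ht, rfl⟩ := List.mem_map.1 hy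
    have ey : a • (1 + t • vecMulVec u f) - a • 1 = vecMulVec ((a * t) • u) f := by
      rw [smul_add, add_sub_cancel_left, smul_smul, Matrix.smul_vecMulVec]
    refine r1_conj hx (fun c hc => ?_) ha hx1 ⟨_, _, ey⟩ ?_
    · obtain ⟨⟨i, hi⟩, ⟨j, hj⟩⟩ := And.intro (Function.ne_iff.1 hu) (Function.ne_iff.1 hf)
      have h2 : (a * t) • u = 0 := by
        obtain ⟨w, hw0, hw⟩ := exists_orth (by omega : 2 ≤ m + 3) f
        have e1 := congrArg (· *ᵥ w) hc
        simp only [smul_mulVec, add_mulVec, one_mulVec, vecMulVec_mulVec', hw, zero_smul, smul_zero,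
          add_zero] at e1
        have hac : a = c := sub_eq_zero.1 ((smul_eq_zero.1 (by rw [sub_smul, e1, sub_self] :
          (a - c) • w = 0)).resolve_right hw0)
        subst hac
        obtain ⟨v, hv1, -⟩ := exists_sep (S := (⊥ : Submodule F (Fin (m + 3) → F))) (v := f) (by simpa using hf)
        have e2 := congrArg (· *ᵥ v) hc
        simp only [smul_mulVec, add_mulVec, one_mulVec, vecMulVec_mulVec', dotProduct_comm f v, hv1, one_smul,
          smul_add, smul_smul, add_eq_left] at e2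
        exact e2
      exact hu ((smul_eq_zero.1 h2).resolve_left (mul_ne_zero ha (hne t ht)))
    · rw [det_r1 ha ey, hxd, dotProduct_smul, hfu, smul_zero, add_zero, ← pow_succ]
  · have hN : vecMulVec u f * vecMulVec u f = 0 := by
      rw [vecMulVec_mul_vecMulVec, hfu, zero_smul, ← vecMulVec_zero u]
    have hprod : ∀ ts : List F, (ts.map fun t => a • (1 + t • vecMulVec u f)).prod =
        a ^ ts.length • (1 + ts.sum • vecMulVec u f) := by
      intro ts
      induction ts with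
      | nil => simp
      | cons t ts ih =>
        rw [List.map_cons, List.prod_cons, ih, List.length_cons, List.sum_cons, Matrix.smul_mul, Matrix.mul_smul,
          smul_smul, ← pow_succ', Matrix.add_mul, Matrix.one_mul, Matrix.smul_mul, Matrix.mul_add, Matrix.mul_one,
          Matrix.mul_smul, hN, smul_zero, add_zero, add_smul]
        congr 1
        abel
    rw [hprod, hlen, hsum, hσ]

end Cfsg.Agent.CovNum
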