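import Cfsg.Agent.Lib.CovNum.Lin
import Mathlib.LinearAlgebra.Matrix.Trace
import Mathlib.FieldTheory.Finite.Basic

/-!
# Covering number of `PSL(n, q)`: two by two matrices

* `gc_two` : nonscalar matrices with one trace and determinant are conjugate;
* `exists_conj_map` : a nonscalar matrix has conjugates with a prescribed value at a vector;
* `two_range` : an irreducible matrix is a product of two conjugates of any split nonscalar one;
* `exists_irred_trace` : some trace is irreducible for a given determinant.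
-/

set_option autoImplicit false
set_option linter.unusedSectionVars false

namespace Cfsg.Agent.CovNum

open Matrix Submodule

variable {F : Type*} [Field F]

/-- The characteristic equation has no root. -/
def Irr2 (R : Matrix (Fin 2) (Fin 2) F) : Prop := ∀ z : F, z ^ 2 - R.trace * z + R.det ≠ 0

theorem cayley_two (x : Matrix (Fin 2) (Fin 2) F) (v : Fin 2 → F) :
    x *ᵥ (x *ᵥ v) = x.trace • (x *ᵥ v) - x.det • v := by
  ext i
  fin_cases i <;>
    simp [Matrix.mulVec, dotProduct, Fin.sum_univ_two, Matrix.trace_fin_two, Matrix.det_fin_two] <;> ring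

theorem no_eigvec_of_irr {R : Matrix (Fin 2) (Fin 2) F} (h : Irr2 R) {v : Fin 2 → F} {c : F}
    (he : R *ᵥ v = c • v) : v = 0 := by
  have h2 := cayley_two R v
  rw [he, mulVec_smul, he, smul_smul, smul_smul, ← sub_smul] at h2
  have h3 : (c ^ 2 - R.trace * c + R.det) • v = 0 := by
    have : (c * c) • v - (R.trace * c - R.det) • v = 0 := sub_eq_zero.2 h2
    linear_combination (norm := module) this
  exact (smul_eq_zero.1 h3).resolve_left (h c)

theorem det_pair {v w : Fin 2 → F} (hv : v ≠ 0) (hw : w ∉ span F ({v} : Set (Fin 2 → F))) :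
    (Matrix.of fun i j => ![v, w] j i).det ≠ 0 := by
  intro h0
  obtain ⟨u, hu0, hu⟩ := Matrix.exists_mulVec_eq_zero_iff.2 h0
  have e : u 0 • v + u 1 • w = 0 := by
    ext i
    have := congrFun hu i
    simp [Matrix.mulVec, dotProduct, Fin.sum_univ_two] at this
    simp [mul_comm (u 0), mul_comm (u 1), this]
  obtain ⟨e0, e1⟩ := SLComm.indep_pair hv hw _ _ e
  exact hu0 (funext fun i => by fin_cases i <;> assumption)

theorem gc_companion {x : Matrix (Fin 2) (Fin 2) F} (hx : ∀ c : F, x ≠ c • 1) :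
    GC x !![0, -x.det; 1, x.trace] := by
  obtain ⟨v, hv, hw⟩ := exists_noneig (m := 1) hx
  refine GC.symm ⟨Matrix.of fun i j => ![v, x *ᵥ v] j i, det_pair hv hw, Matrix.ext fun i j => ?_⟩
  have h2 := congrFun (cayley_two x v) i
  simp only [Pi.sub_apply, Pi.smul_apply, smul_eq_mul] at h2
  simp only [Matrix.mulVec, dotProduct, Fin.sum_univ_two] at h2
  fin_cases i <;> fin_cases j <;>
    simp [Matrix.mul_apply, Matrix.mulVec, dotProduct, Fin.sum_univ_two] at h2 ⊢ <;> linear_combination -h2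

theorem gc_two {x y : Matrix (Fin 2) (Fin 2) F} (hx : ∀ c : F, x ≠ c • 1) (hy : ∀ c : F, y ≠ c • 1)
    (ht : y.trace = x.trace) (hd : y.det = x.det) : GC x y := by
  have h1 := gc_companion hy
  rw [ht, hd] at h1
  exact (gc_companion hx).trans h1.symm

theorem exists_conj_map {X : Matrix (Fin 2) (Fin 2) F} (hX : ∀ c : F, X ≠ c • 1) {a u : Fin 2 → F} (ha : a ≠ 0)
    (hu : u ∉ span F ({a} : Set (Fin 2 → F))) :
    ∃ Y : Matrix (Fin 2) (Fin 2) F, GC X Y ∧ Y *ᵥ a = u := by
  obtain ⟨v, hv, hw⟩ := exists_noneig (m := 1) hX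
  set P1 : Matrix (Fin 2) (Fin 2) F := Matrix.of fun i j => ![v, X *ᵥ v] j i with hP1
  set P2 : Matrix (Fin 2) (Fin 2) F := Matrix.of fun i j => ![a, u] j i with hP2
  have h1 : P1.det ≠ 0 := det_pair hv hw
  have h2 : P2.det ≠ 0 := det_pair ha hu
  have hu1 := Ne.isUnit h1
  have hu2 := Ne.isUnit h2
  have hgd : (P2 * P1⁻¹).det ≠ 0 := by rw [det_mul, det_nonsing_inv]; simpa [h2] using h1
  refine ⟨P2 * P1⁻¹ * X * (P2 * P1⁻¹)⁻¹, ⟨_, hgd, by rw [nonsing_inv_mul_cancel_right _ _ (Ne.isUnit hgd)]⟩, ?_⟩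
  have e1 : P1⁻¹ *ᵥ (X *ᵥ v) = Pi.single 1 1 := by
    refine mulVec_inj h1 ?_
    rw [mulVec_mulVec, mul_nonsing_inv _ hu1, one_mulVec, Matrix.mulVec_single_one]
    ext i; simp [hP1]
  have e2 : (P2 * P1⁻¹)⁻¹ *ᵥ a = v := by
    refine mulVec_inj hgd ?_
    rw [mulVec_mulVec, mul_nonsing_inv _ (Ne.isUnit hgd), one_mulVec, ← mulVec_mulVec]
    have : P1⁻¹ *ᵥ v = Pi.single 0 1 := by
      refine mulVec_inj h1 ?_
      rw [mulVec_mulVec, mul_nonsing_inv _ hu1, one_mulVec, Matrix.mulVec_single_one]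
      ext i; simp [hP1]
    rw [this, Matrix.mulVec_single_one]
    ext i; simp [hP2]
  rw [← mulVec_mulVec, e2, ← mulVec_mulVec, ← mulVec_mulVec, e1, Matrix.mulVec_single_one]
  ext i; simp [hP2]

variable [Fintype F]

theorem exists_irred_trace {D : F} (hD : D ≠ 0) : ∃ B : F, ∀ z : F, z ^ 2 - B * z + D ≠ 0 := by
  classical
  obtain ⟨B, hB⟩ : ∃ B, B ∉ ((Finset.univ : Finset F).erase 0).image fun z => z + D / z := by
    refine ((Finset.eq_univ_iff_forall.not).1 fun h => ?_) |> not_forall.1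
    have h1 := congrArg Finset.card h
    have h2 := Finset.card_image_le (s := (Finset.univ : Finset F).erase 0) (f := fun z => z + D / z)
    rw [Finset.card_erase_of_mem (Finset.mem_univ _)] at h2
    rw [Finset.card_univ] at h1 h2
    have : 0 < Fintype.card F := Fintype.card_pos
    omega
  refine ⟨B, fun z hz => hB (Finset.mem_image.2 ?_)⟩
  have hz0 : z ≠ 0 := fun e => hD (by simpa [e] using hz)
  refine ⟨z, Finset.mem_erase.2 ⟨hz0, Finset.mem_univ _⟩, ?_⟩
  field_simp
  linear_combination hz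

/-- An anisotropic conic has a point. -/
theorem exists_conic {B D : F} (hirr : ∀ z : F, z ^ 2 - B * z + D ≠ 0) (u v w : F) :
    ∃ p s : F, p ^ 2 + B * p * s + D * s ^ 2 + u * p + v * s + w = 0 := by
  have hD : D ≠ 0 := fun e => hirr 0 (by simp [e])
  have hdisc : 4 * D - B ^ 2 ≠ 0 := by
    intro h0
    by_cases h2 : (2 : F) = 0
    · have hc : ringChar F = 2 := by
        by_contra hc
        exact Ring.two_ne_zero hc h2
      obtain ⟨z, hz⟩ := FiniteField.isSquare_of_char_two hc D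
      have hB : B = 0 := pow_eq_zero_iff (two_ne_zero) |>.1 (by linear_combination (2 * D) * h2 - h0)
      exact hirr z (by rw [hB, hz]; linear_combination (z * z) * h2)
    · exact hirr (B / 2) (by field_simp; linear_combination h0)
  set e := 4 * D - B ^ 2 with he
  obtain ⟨p0, s0, hp0, hs0⟩ : ∃ p0 s0 : F, 2 * p0 + B * s0 + u = 0 ∧ B * p0 + 2 * D * s0 + v = 0 :=
    ⟨(B * v - 2 * D * u) / e, (B * u - 2 * v) / e, by field_simp; rw [he]; ring, by field_simp; rw [he]; ring⟩
  obtain ⟨c, hc⟩ : ∃ c, c = p0 ^ 2 + B * p0 * s0 + D * s0 ^ 2 + u * p0 + v * s0 + w := ⟨_, rfl⟩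
  obtain ⟨p, s, hps⟩ : ∃ p s : F, p ^ 2 + B * p * s + D * s ^ 2 + c = 0 := by
    by_cases hchar : ringChar F = 2
    · obtain ⟨s, hs⟩ := FiniteField.isSquare_of_char_two hchar (-c / D)
      exact ⟨0, s, by field_simp at hs; linear_combination -hs⟩
    · have h2 : (2 : F) ≠ 0 := Ring.two_ne_zero hchar
      have h4 : (4 : F) ≠ 0 := by
        have := mul_ne_zero h2 h2
        rwa [show (2 : F) * 2 = 4 by ring] at this
      open Polynomial in
      obtain ⟨a, b, hab⟩ := FiniteField.exists_root_sum_quadratic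
        (f := (X ^ 2 + C c : F[X])) (g := (C (e / 4) * X ^ 2 : F[X]))
        (degree_X_pow_add_C (by norm_num) _) (by rw [degree_C_mul (div_ne_zero hdisc h4), degree_X_pow]; rfl)
        (FiniteField.odd_card_of_char_ne_two hchar)
      simp only [Polynomial.eval_add, Polynomial.eval_pow, Polynomial.eval_X, Polynomial.eval_C,
        Polynomial.eval_mul] at hab
      refine ⟨a - B / 2 * b, b, ?_⟩
      field_simp at hab ⊢
      rw [he] at hab
      linear_combination hab
  exact ⟨p0 + p, s0 + s, by linear_combination hps - hc + p * hp0 + s * hs0⟩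

/-- An irreducible matrix is a product of two conjugates of a split nonscalar matrix. -/
theorem two_range {X R : Matrix (Fin 2) (Fin 2) F} (hX : ∀ c : F, X ≠ c • 1) (hXd : X.det ≠ 0)
    {ρ : F} (hρ : ρ ^ 2 - X.trace * ρ + X.det = 0) (hR : Irr2 R) (hdR : R.det = X.det ^ 2) :
    ∃ y y' : Matrix (Fin 2) (Fin 2) F, GC X y ∧ GC X y' ∧ y * y' = R := by
  set τ := X.trace
  set d := X.det
  set B := R.trace
  set D := R.det
  have hRn : ∀ c : F, R ≠ c • 1 := fun c hc => hR c (by simp [hc, Matrix.det_fin_two]; ring)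
  obtain ⟨p, s, hps⟩ := exists_conic (B := B) (D := D) hR (-τ) (-(τ * d)) d
  set y : Matrix (Fin 2) (Fin 2) F := !![p, s * D + p * B - τ * d; s, τ - p] with hy
  have hyt : y.trace = τ := by simp [hy, Matrix.trace_fin_two]
  have hyd : y.det = d := by rw [hy, Matrix.det_fin_two_of]; linear_combination -hps
  have hu : IsUnit y.det := by rw [hyd]; exact Ne.isUnit hXd
  have hC : GC R !![0, -D; 1, B] := gc_companion hRn
  set C : Matrix (Fin 2) (Fin 2) F := !![0, -D; 1, B] with hCd
  have ht' : (y⁻¹ * C).trace = τ := by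
    have hinv : y⁻¹ = d⁻¹ • !![τ - p, -(s * D + p * B - τ * d); -s, p] := by
      rw [Matrix.inv_def, Ring.inverse_eq_inv', hyd, hy, Matrix.adjugate_fin_two_of]
    rw [hinv, Matrix.smul_mul, Matrix.trace_smul, hCd]
    simp [Matrix.trace_fin_two, Matrix.mul_apply, Fin.sum_univ_two]
    field_simp
  have hd' : (y⁻¹ * C).det = d := by
    rw [det_mul, det_nonsing_inv, hyd, hCd, Matrix.det_fin_two_of, Ring.inverse_eq_inv']
    field_simp
    linear_combination hdR
  have hyn : ∀ c : F, y ≠ c • 1 := by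
    intro c hc
    have e1 : τ = 2 * c := by rw [← hyt, hc]; simp [Matrix.trace_fin_two]; ring
    have e2 : d = c ^ 2 := by rw [← hyd, hc]; simp [Matrix.det_fin_two]
    have e3 : y⁻¹ * C = c⁻¹ • C := by
      rw [hc, Matrix.inv_eq_left_inv (B := c⁻¹ • 1) (by
        rw [Matrix.smul_mul, Matrix.one_mul, smul_smul, inv_mul_cancel₀ (fun e => hXd (by simp [d, e2, e]))]
        simp), Matrix.smul_mul, Matrix.one_mul]
    rw [e3, Matrix.trace_smul, hCd, Matrix.trace_fin_two_of] at ht'
    have hc0 : c ≠ 0 := fun e => hXd (by simp [d, e2, e])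
    refine hR (c * ρ) ?_
    simp only [smul_eq_mul, zero_add] at ht'
    field_simp at ht'
    show (c * ρ) ^ 2 - B * (c * ρ) + D = 0
    rw [hdR, ht']
    linear_combination c ^ 2 * hρ + d * e2
  have hy'n : ∀ c : F, y⁻¹ * C ≠ c • 1 := by
    intro c hc
    have e : C = c • y := by
      rw [← mul_nonsing_inv_cancel_left y C hu, hc, Matrix.mul_smul, Matrix.mul_one]
    refine hR (c * ρ) ?_
    have e1 : B = c * τ := by
      rw [← hyt, ← smul_eq_mul, ← Matrix.trace_smul, ← e, hCd]
      simp [Matrix.trace_fin_two]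
    have e2 : D = c ^ 2 * d := by
      rw [← hyd]
      have := congrArg Matrix.det e
      rw [hCd, Matrix.det_fin_two_of, Matrix.det_smul, Fintype.card_fin] at this
      linear_combination this
    show (c * ρ) ^ 2 - B * (c * ρ) + D = 0
    rw [e1, e2]
    linear_combination c ^ 2 * hρ
  have g1 : GC X y := gc_two hX hyn hyt hyd
  have g2 : GC X (y⁻¹ * C) := gc_two hX hy'n ht' hd'
  obtain ⟨g, hg, he⟩ := hC.symm
  have hgu := Ne.isUnit hg
  refine ⟨g * y * g⁻¹, g * (y⁻¹ * C) * g⁻¹, g1.trans ⟨g, hg, by rw [nonsing_inv_mul_cancel_right _ _ hgu]⟩,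
    g2.trans ⟨g, hg, by rw [nonsing_inv_mul_cancel_right _ _ hgu]⟩, ?_⟩
  calc g * y * g⁻¹ * (g * (y⁻¹ * C) * g⁻¹) = g * (y * (g⁻¹ * g) * (y⁻¹ * C)) * g⁻¹ := by
        simp only [Matrix.mul_assoc]
    _ = g * C * g⁻¹ := by rw [nonsing_inv_mul _ hgu, Matrix.mul_one, mul_nonsing_inv_cancel_left _ _ hu]
    _ = R := by rw [he, mul_nonsing_inv_cancel_right _ _ hgu]

end Cfsg.Agent.CovNum
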