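import Cfsg.Agent.Lib.CovNum.Select
import Cfsg.Agent.Lib.CovNum.TwoDim

/-!
# Covering number of `PSL(n, q)`: matrices with an eigenvalue and a large part away from it

* `PG n` : every nonscalar matrix of the right determinant is a product of `n` conjugates;
* `Tx lam x` : `lam` is an eigenvalue and `x` is nonscalar on an invariant subspace free of it;
* `tLemma` : then products of `n - 1` conjugates give every nonscalar matrix;
* `tx_full` : and products of `n` conjugates give every matrix.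
-/

set_option autoImplicit false
set_option linter.unusedSectionVars false

namespace Cfsg.Agent.CovNum

open Matrix Submodule

variable {F : Type*} [Field F] {n m : ℕ}

/-- Products of `n` conjugates reach every nonscalar matrix. -/
def PG (F : Type*) [Field F] (n : ℕ) : Prop :=
  ∀ x G : Matrix (Fin n) (Fin n) F, (∀ c : F, x ≠ c • 1) → x.det ≠ 0 → (∀ c : F, G ≠ c • 1) →
    G.det = x.det ^ n → Prd GC x n G

/-- An eigenvalue and an invariant subspace free of it on which the action is nonscalar. -/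
def Tx (lam : F) (x : Matrix (Fin n) (Fin n) F) : Prop :=
  (∃ v : Fin n → F, v ≠ 0 ∧ x *ᵥ v = lam • v) ∧ ∃ W : Submodule F (Fin n → F),
    (∀ w ∈ W, x *ᵥ w ∈ W) ∧ (∀ w ∈ W, x *ᵥ w = lam • w → w = 0) ∧ ∀ c : F, ∃ w ∈ W, x *ᵥ w ≠ c • w

/-- The statement of the lemma in dimension `n`. -/
def TS (F : Type*) [Field F] (n : ℕ) : Prop :=
  ∀ (x z : Matrix (Fin n) (Fin n) F) (lam : F), Tx lam x → x.det ≠ 0 → (∀ c : F, z ≠ c • 1) →
    z.det = x.det ^ (n - 1) → ∃ l : List (Matrix (Fin n) (Fin n) F),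
      l.length = n - 1 ∧ (∀ y ∈ l, SC x y) ∧ l.prod = z ∧ NC lam l

theorem Tx.nonscalar {lam : F} {x : Matrix (Fin n) (Fin n) F} (h : Tx lam x) : ∀ c : F, x ≠ c • 1 := by
  rintro c rfl
  obtain ⟨-, W, -, -, hW⟩ := h
  obtain ⟨w, -, hw⟩ := hW c
  exact hw (by rw [smul_mulVec, one_mulVec])

theorem Tx.two_le {lam : F} {x : Matrix (Fin n) (Fin n) F} (h : Tx lam x) : 3 ≤ n := by
  obtain ⟨⟨v, hv, he⟩, W, hinv, hfree, hW⟩ := h
  have h2 : 2 ≤ Module.finrank F W := by
    by_contra hlt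
    obtain ⟨w, hwW, hw⟩ := hW 0
    have hw0 : w ≠ 0 := fun e => hw (by simp [e])
    have hWle : span F ({w} : Set (Fin n → F)) = W := by
      refine Submodule.eq_of_le_of_finrank_le ((span_singleton_le_iff_mem _ _).2 hwW) ?_
      rw [finrank_span_singleton hw0]
      omega
    obtain ⟨c, hc⟩ := mem_span_singleton.1 (hWle.symm ▸ hinv w hwW : x *ᵥ w ∈ span F ({w} : Set (Fin n → F)))
    obtain ⟨w', hw'W, hw'⟩ := hW c
    obtain ⟨k, rfl⟩ := mem_span_singleton.1 (hWle.symm ▸ hw'W : w' ∈ span F ({w} : Set (Fin n → F)))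
    exact hw' (by rw [mulVec_smul, ← hc, smul_comm])
  have hne : W ≠ ⊤ := fun e => hv (hfree v (e ▸ mem_top) he)
  have := Submodule.finrank_lt hne
  rw [Module.finrank_fin_fun] at this
  omega

theorem det_upper {x : Matrix (Fin (m + 1)) (Fin (m + 1)) F} {lam : F} {b : Fin m → F}
    {X : Matrix (Fin m) (Fin m) F} (h : GC x (bl lam 0 b X)) : x.det = lam * X.det := by
  rw [← h.det_eq, det_bl_upper]

theorem det_lower {x : Matrix (Fin (m + 1)) (Fin (m + 1)) F} {lam : F} {c : Fin m → F}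
    {X : Matrix (Fin m) (Fin m) F} (h : GC x (bl lam c 0 X)) : x.det = lam * X.det := by
  rw [← h.det_eq, det_bl_lower]

theorem mulVec_surj {M : Matrix (Fin n) (Fin n) F} (h : ∀ w, M *ᵥ w = 0 → w = 0) (c : Fin n → F) :
    ∃ z, M *ᵥ z = c := by
  have hd : M.det ≠ 0 := fun h0 => by
    obtain ⟨w, hw, he⟩ := Matrix.exists_mulVec_eq_zero_iff.2 h0
    exact hw (h w he)
  exact ⟨M⁻¹ *ᵥ c, by rw [mulVec_mulVec, mul_nonsing_inv _ (Ne.isUnit hd), one_mulVec]⟩

theorem exists_lower {x : Matrix (Fin (m + 1)) (Fin (m + 1)) F} (hx : ∀ c : F, x ≠ c • 1) {lam : F}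
    (h : ∃ v : Fin (m + 1) → F, v ≠ 0 ∧ x *ᵥ v = lam • v) :
    ∃ (c : Fin m → F) (Y : Matrix (Fin m) (Fin m) F), c ≠ 0 ∧ SC x (bl lam c 0 Y) := by
  obtain ⟨c, Y, hY⟩ := lower_of_eig x h
  obtain ⟨t, ht, hflex⟩ := lower_flex hY (g := 1) (Y := Y) (by simp) (by simp)
  simp only [one_mulVec] at hflex
  by_contra! hno
  have h0 : ∀ z, t • c + (Y *ᵥ z - lam • z) = 0 := fun z => by
    by_contra hne
    exact hno _ Y hne (hflex z)
  have hc : c = 0 := by simpa [ht] using h0 0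
  have hYs : Y = lam • 1 := Matrix.ext_of_mulVec_single fun i => by
    have := h0 (Pi.single i 1)
    rw [hc, smul_zero, zero_add, sub_eq_zero] at this
    rw [this, smul_mulVec, one_mulVec]
  rw [hc, hYs] at hY
  rw [← smul_one_bl] at hY
  exact hx lam (hY.symm.scalar rfl)

theorem exists_conj_not_prop {x : Matrix (Fin (m + 1)) (Fin (m + 1)) F} (hx : ∀ c : F, x ≠ c • 1) :
    ∃ y, SC x y ∧ ∀ c : F, y ≠ c • x := by
  obtain ⟨v, hv, hne⟩ := exists_noneig hx
  obtain ⟨r, hrv, hrw⟩ := exists_dual2 hv hne 0 1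
  set g : Matrix (Fin (m + 1)) (Fin (m + 1)) F := 1 + vecMulVec v r with hg
  have hgd : g.det = 1 := by
    rw [hg, vecMulVec_eq Unit, det_one_add_replicateCol_mul_replicateRow, hrv, add_zero]
  have hu : IsUnit g.det := by rw [hgd]; exact isUnit_one
  refine ⟨g * x * g⁻¹, ⟨g, hgd, by rw [nonsing_inv_mul_cancel_right _ _ hu]⟩, fun c hc => hne ?_⟩
  have h1 : g *ᵥ v = v := by rw [hg, add_mulVec, one_mulVec, vecMulVec_mulVec', hrv, zero_smul, add_zero]
  have h2 : g *ᵥ (x *ᵥ v) = x *ᵥ v + v := by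
    rw [hg, add_mulVec, one_mulVec, vecMulVec_mulVec', hrw, one_smul]
  have h3 : g⁻¹ *ᵥ v = v := by
    conv_lhs => rw [← h1]
    rw [mulVec_mulVec, nonsing_inv_mul _ hu, one_mulVec]
  have h4 := congrArg (· *ᵥ v) hc
  simp only [smul_mulVec] at h4
  rw [← mulVec_mulVec, h3, ← mulVec_mulVec, h2] at h4
  have hc1 : c - 1 ≠ 0 := fun e => hv (by rw [sub_eq_zero.1 e, one_smul] at h4; simpa using h4)
  refine mem_span_singleton.2 ⟨(c - 1)⁻¹, ?_⟩
  rw [inv_smul_eq_iff₀ hc1]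
  linear_combination (norm := module) h4

theorem absorb {k : ℕ} {x G : Matrix (Fin (m + 1)) (Fin (m + 1)) F} (hx : ∀ c : F, x ≠ c • 1) (hxd : x.det ≠ 0)
    (hG : G.det = x.det ^ (k + 1))
    (h : ∀ z : Matrix (Fin (m + 1)) (Fin (m + 1)) F, (∀ c : F, z ≠ c • 1) → z.det = x.det ^ k → Prd SC x k z) :
    Prd SC x (k + 1) G := by
  obtain ⟨y', hy', hne⟩ := exists_conj_not_prop hx
  have hG0 : G.det ≠ 0 := by rw [hG]; exact pow_ne_zero _ hxd
  obtain ⟨y, hy, hns⟩ : ∃ y, SC x y ∧ ∀ c : F, y⁻¹ * G ≠ c • 1 := by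
    by_contra! hall
    have key : ∀ y, SC x y → ∃ c : F, c ≠ 0 ∧ G = c • y := fun y hy => by
      obtain ⟨c, hc⟩ := hall y hy
      have hu : IsUnit y.det := by rw [hy.gc.det_eq]; exact Ne.isUnit hxd
      have e : G = c • y := by
        rw [← mul_nonsing_inv_cancel_left y G hu, hc, Matrix.mul_smul, Matrix.mul_one]
      exact ⟨c, fun e0 => hG0 (by simp [e, e0]), e⟩
    obtain ⟨c, hc0, hc⟩ := key x (SC.refl x)
    obtain ⟨c', hc0', hc'⟩ := key y' hy'
    exact hne (c'⁻¹ * c) (by rw [mul_smul, ← hc, hc', smul_smul, inv_mul_cancel₀ hc0', one_smul])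
  have hu : IsUnit y.det := by rw [hy.gc.det_eq]; exact Ne.isUnit hxd
  have := (Prd.one hy).mul (h _ hns (by
    rw [det_mul, det_nonsing_inv, hy.gc.det_eq, hG, Ring.inverse_eq_inv', pow_succ']
    field_simp))
  rw [mul_nonsing_inv_cancel_left _ _ hu] at this
  exact Nat.add_comm 1 k ▸ this

variable [Fintype F]

theorem t_two {x G : Matrix (Fin 3) (Fin 3) F} (h4 : 4 ≤ Fintype.card F) {lam : F} {X : Matrix (Fin 2) (Fin 2) F}
    (hxs : GC x (bl lam 0 0 X)) (hX : ∀ c : F, X ≠ c • 1) (hfree : ∀ u, X *ᵥ u = lam • u → u = 0)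
    (hlam : lam ≠ 0) (hXd : X.det ≠ 0) (hG : ∀ c : F, G ≠ c • 1) (hdet : G.det = x.det ^ 2) :
    ∃ l : List (Matrix (Fin 3) (Fin 3) F), l.length = 2 ∧ (∀ y ∈ l, SC x y) ∧ l.prod = G ∧ NC lam l := by
  classical
  have hxd : x.det = lam * X.det := det_upper hxs
  have hGd : G.det ≠ 0 := by rw [hdet, hxd]; exact pow_ne_zero _ (mul_ne_zero hlam hXd)
  have hβ : lam * lam ^ 1 ≠ 0 := mul_ne_zero hlam (pow_ne_zero _ hlam)
  set c : Fin 2 → F := Pi.single 0 1 with hc
  have hc0 : c ≠ 0 := by simp [hc]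
  set a : Fin 2 → F := lam ^ 1 • c with ha
  have ha0 : a ≠ 0 := smul_ne_zero (pow_ne_zero _ hlam) hc0
  obtain ⟨b, D, hGD⟩ := exists_Gform hG (lam * lam ^ 1) ha0
  have hSd := schur_det_ne hβ hGD.gc hGd
  set S := schur (lam * lam ^ 1) a b D with hS
  set p := S⁻¹ *ᵥ a with hp
  obtain ⟨q, hq, hqp⟩ : ∃ q : Fin 2 → F, q ∉ span F ({a} : Set (Fin 2 → F)) ∧
      (q = p ∨ p ∈ span F ({a} : Set (Fin 2 → F))) := by
    by_cases hpa : p ∈ span F ({a} : Set (Fin 2 → F))
    · obtain ⟨q, -, hq⟩ := exists_notMem_span (S := (⊤ : Submodule F (Fin 2 → F)))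
        (by rw [finrank_top, Module.finrank_fin_fun]) a
      exact ⟨q, hq, Or.inr hpa⟩
    · exact ⟨p, hpa, Or.inl rfl⟩
  obtain ⟨k, hk0, hk⟩ : ∃ k : F, k ≠ 0 ∧ ∀ s : F, s ≠ 0 → X.det = s ^ 2 → X.trace = 2 * s →
      s • (k • q + (X.trace + 1) • a) - S *ᵥ a ∉ span F ({a} : Set (Fin 2 → F)) := by
    obtain ⟨k2, hk21, hk20⟩ : ∃ k2 : F, k2 ≠ 1 ∧ k2 ≠ 0 := by
      obtain ⟨k2, h1, h0, -⟩ := exists_avoid_three h4 1 0 0
      exact ⟨k2, h1, h0⟩
    by_cases h1 : ∀ s : F, s ≠ 0 → X.det = s ^ 2 → X.trace = 2 * s →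
        s • ((1 : F) • q + (X.trace + 1) • a) - S *ᵥ a ∉ span F ({a} : Set (Fin 2 → F))
    · exact ⟨1, one_ne_zero, h1⟩
    push Not at h1
    obtain ⟨s, hs0, hsd, hst, hs⟩ := h1
    refine ⟨k2, hk20, fun s' hs0' hsd' hst' hs' => hq ?_⟩
    have hss : s' = s := by
      rcases sq_eq_sq_iff_eq_or_eq_neg.1 (hsd'.symm.trans hsd) with e | e
      · exact e
      · have : (2 : F) * (2 * s) = 0 := by linear_combination hst' - hst + 2 * e
        rcases mul_eq_zero.1 this with h2 | h2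
        · linear_combination e + (-s) * h2
        · rcases mul_eq_zero.1 h2 with h2 | h2
          · linear_combination e + (-s) * h2
          · exact absurd h2 hs0
    subst hss
    have := sub_mem hs' hs
    rw [show s' • (k2 • q + (X.trace + 1) • a) - S *ᵥ a - (s' • ((1 : F) • q + (X.trace + 1) • a) - S *ᵥ a) =
      (s' * (k2 - 1)) • q by module] at this
    exact (Submodule.smul_mem_iff _ (mul_ne_zero hs0 (sub_ne_zero.2 hk21))).1 this
  set u := k • q + (X.trace + 1) • a with hu'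
  have hua : u ∉ span F ({a} : Set (Fin 2 → F)) := fun h => hq ((Submodule.smul_mem_iff _ hk0).1 (by
    have := sub_mem h (smul_mem _ (X.trace + 1) (mem_span_singleton_self a))
    rwa [hu', add_sub_cancel_right] at this))
  obtain ⟨Y, hY, hYa⟩ := exists_conj_map hX ha0 hua
  have hYd : Y.det = X.det := hY.det_eq
  have hYd0 : Y.det ≠ 0 := hYd ▸ hXd
  have hYt : Y.trace = X.trace := by
    obtain ⟨g, hg, he⟩ := hY
    rw [show Y = g * X * g⁻¹ by rw [he, mul_nonsing_inv_cancel_right _ _ (Ne.isUnit hg)], Matrix.trace_mul_comm,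
      ← Matrix.mul_assoc, nonsing_inv_mul _ (Ne.isUnit hg), Matrix.one_mul]
  have hne : Y⁻¹ *ᵥ a ∉ span F ({p} : Set (Fin 2 → F)) := by
    intro h
    have e : Y *ᵥ (X.trace • a - u) = X.det • a := by
      have := cayley_two Y a
      rw [hYa, hYt, hYd] at this
      rw [mulVec_sub, mulVec_smul, hYa, this, sub_sub_cancel]
    have e2 : X.trace • a - u = X.det • (Y⁻¹ *ᵥ a) := by
      rw [← mulVec_smul, ← e, mulVec_mulVec, nonsing_inv_mul _ (Ne.isUnit hYd0), one_mulVec]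
    have h1 : X.trace • a - u ∈ span F ({p} : Set (Fin 2 → F)) := by rw [e2]; exact smul_mem _ _ h
    rw [hu', show X.trace • a - (k • q + (X.trace + 1) • a) = -(a + k • q) by module, neg_mem_iff] at h1
    rcases hqp with rfl | hpa
    · have h2 := sub_mem h1 (smul_mem _ k (mem_span_singleton_self p))
      rw [add_sub_cancel_right] at h2
      obtain ⟨j, hj⟩ := mem_span_singleton.1 h2
      have hj0 : j ≠ 0 := fun e0 => ha0 (by rw [← hj, e0, zero_smul])
      exact hq (mem_span_singleton.2 ⟨j⁻¹, by rw [← hj, smul_smul, inv_mul_cancel₀ hj0, one_smul]⟩)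
    · have h2 : a + k • q ∈ span F ({a} : Set (Fin 2 → F)) :=
        (span_singleton_le_iff_mem _ _).2 hpa h1
      have h3 := sub_mem h2 (mem_span_singleton_self a)
      rw [add_sub_cancel_left] at h3
      exact hq ((Submodule.smul_mem_iff _ hk0).1 h3)
  obtain ⟨b', D', hGD', htr, f, hf⟩ := exists_R3 hβ hGD hGd hne X.trace
  set S' := schur (lam * lam ^ 1) a b' D' with hS'
  have hS'd : (lam * lam ^ 1) * S'.det = G.det := schur_det hβ hGD'.gc
  have hRd : (Y⁻¹ * S').det = X.det := by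
    rw [det_mul, det_nonsing_inv, hYd, Ring.inverse_eq_inv']
    rw [hdet, hxd] at hS'd
    field_simp at hS'd ⊢
    linear_combination hS'd
  have hSS : S' *ᵥ a - S *ᵥ a ∈ span F ({a} : Set (Fin 2 → F)) := by
    rw [hf, ← hS, sub_mulVec, sub_sub_cancel_left]
    exact neg_mem (mem_span_of_vecMulVec _)
  have hRn : ∀ s : F, Y⁻¹ * S' ≠ s • 1 := by
    intro s hs
    have e1 : X.det = s ^ 2 := by rw [← hRd, hs]; simp
    have e2 : X.trace = 2 * s := by rw [← htr, hs]; simp [Matrix.trace_fin_two]; ring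
    have hs0 : s ≠ 0 := fun e => hXd (by rw [e1, e]; ring)
    refine hk s hs0 e1 e2 ?_
    have e3 : S' = s • Y := by
      rw [← mul_nonsing_inv_cancel_left Y S' (Ne.isUnit hYd0), hs, Matrix.mul_smul, Matrix.mul_one]
    rw [← hYa, ← smul_mulVec, ← e3]
    exact hSS
  have hR : GC X (Y⁻¹ * S') := gc_two hX hRn htr hRd
  have hnc : NC lam [Y⁻¹ * S'] := fun w hw => by
    have hw1 := hw _ List.mem_cons_self
    obtain ⟨g, hg, he⟩ := hR.symm
    refine mulVec_inj hg ((hfree _ ?_).trans (mulVec_zero g).symm)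
    rw [mulVec_mulVec, ← he, ← mulVec_mulVec, hw1, mulVec_smul]
  obtain ⟨g, hg, he⟩ := hY
  obtain ⟨t, ht, hflex⟩ := lower_flex hxs hg he
  obtain ⟨z, hz⟩ := mulVec_surj (M := Y - lam • 1) (fun w hw => by
    rw [sub_mulVec, smul_mulVec, one_mulVec, sub_eq_zero] at hw
    obtain ⟨g', hg', he'⟩ := (GC.symm ⟨g, hg, he⟩ : GC Y X)
    refine mulVec_inj hg' ((hfree _ ?_).trans (mulVec_zero g').symm)
    rw [mulVec_mulVec, ← he', ← mulVec_mulVec, hw, mulVec_smul]) c
  have hL : SC x (bl lam c 0 Y) := by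
    have := hflex z
    rwa [mulVec_zero, smul_zero, zero_add, ← one_mulVec (lam • z), Matrix.mulVec_smul, ← Matrix.smul_mulVec,
      ← sub_mulVec, hz] at this
  obtain ⟨l, hl1, hl2, hl3, hl4⟩ := glue hlam hlam hxs hL (Ys := [Y⁻¹ * S']) (by simpa using hR) hnc hGD'
    (by simp) (by simp [ha]) (by simp [hS', mul_nonsing_inv_cancel_left _ _ (Ne.isUnit hYd0)])
  exact ⟨l, by simpa using hl1, hl2, hl3, hl4 lam hnc hc0⟩

theorem tLemma (h4 : 4 ≤ Fintype.card F) : ∀ n : ℕ, (∀ k, 3 ≤ k → k < n → PG F k) → TS F n := by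
  intro n
  induction n using Nat.strong_induction_on with
  | _ n ih =>
    intro hPG x z lam hT hxd hz hdet
    obtain ⟨m, rfl⟩ : ∃ m, n = m + 3 := ⟨n - 3, by have := hT.two_le; omega⟩
    have hxns := hT.nonscalar
    obtain ⟨⟨v, hv, he⟩, W, hinv, hfree, hW⟩ := hT
    obtain ⟨b, X, hX⟩ := upper_of_eig x hv he
    have hlam : lam ≠ 0 := fun e => hxd (by rw [det_upper hX, e, zero_mul])
    have hXd : X.det ≠ 0 := fun e => hxd (by rw [det_upper hX, e, mul_zero])
    obtain ⟨g, hg, hge⟩ := hX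
    -- the image of `W` in the quotient
    set W2 : Submodule F (Fin (m + 2) → F) :=
      W.map ((LinearMap.funLeft F F Fin.succ).comp g.mulVecLin) with hW2
    have htail : ∀ w : Fin (m + 3) → F, Fin.tail (g *ᵥ (x *ᵥ w)) = X *ᵥ Fin.tail (g *ᵥ w) := fun w => by
      rw [mulVec_mulVec, hge, ← mulVec_mulVec]
      conv_lhs => rw [← Fin.cons_self_tail (g *ᵥ w), bl_mulVec]
      simp
    have hker : ∀ w ∈ W, Fin.tail (g *ᵥ w) = 0 → w = 0 := fun w hw h0 => by
      refine hfree w hw (mulVec_inj hg ?_)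
      rw [mulVec_mulVec, hge, ← mulVec_mulVec, mulVec_smul]
      conv_lhs => rw [← Fin.cons_self_tail (g *ᵥ w), bl_mulVec, h0]
      conv_rhs => rw [← Fin.cons_self_tail (g *ᵥ w), h0]
      ext i; induction i using Fin.cases <;> simp
    have hinv2 : ∀ u ∈ W2, X *ᵥ u ∈ W2 := by
      rintro _ ⟨w, hw, rfl⟩
      exact ⟨x *ᵥ w, hinv w hw, htail w⟩
    have hfree2 : ∀ u ∈ W2, X *ᵥ u = lam • u → u = 0 := by
      rintro _ ⟨w, hw, rfl⟩ hu
      have h0 : x *ᵥ w - lam • w = 0 := hker _ (sub_mem (hinv w hw) (W.smul_mem _ hw)) (by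
        have h1 : X *ᵥ Fin.tail (g *ᵥ w) = lam • Fin.tail (g *ᵥ w) := hu
        rw [← htail] at h1
        rw [mulVec_sub, mulVec_smul]
        exact funext fun i => sub_eq_zero.2 (congrFun h1 i))
      have := hfree w hw (sub_eq_zero.1 h0)
      simp [this]
    have hns2 : ∀ c : F, ∃ u ∈ W2, X *ᵥ u ≠ c • u := fun c => by
      obtain ⟨w, hw, hwc⟩ := hW c
      refine ⟨_, ⟨w, hw, rfl⟩, fun hu => hwc (sub_eq_zero.1 (hker _ (sub_mem (hinv w hw) (W.smul_mem _ hw)) ?_))⟩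
      have h1 : X *ᵥ Fin.tail (g *ᵥ w) = c • Fin.tail (g *ᵥ w) := hu
      rw [← htail] at h1
      rw [mulVec_sub, mulVec_smul]
      exact funext fun i => sub_eq_zero.2 (congrFun h1 i)
    have hXns : ∀ c : F, X ≠ c • 1 := fun c e => by
      obtain ⟨u, -, hu⟩ := hns2 c
      exact hu (by rw [e, smul_mulVec, one_mulVec])
    have hX' : GC x (bl lam 0 b X) := ⟨g, hg, hge⟩
    have hzd : z.det ≠ 0 := by rw [hdet]; exact pow_ne_zero _ hxd
    by_cases heig : ∀ u, X *ᵥ u = lam • u → u = 0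
    · -- `lam` is not an eigenvalue of the quotient
      obtain ⟨d, hd⟩ := mulVec_surj (M := (X - lam • 1)ᵀ) (fun w hw => by
        by_contra hw0
        have h0 := Matrix.exists_mulVec_eq_zero_iff.1 ⟨w, hw0, hw⟩
        rw [det_transpose] at h0
        obtain ⟨u, hu0, hu⟩ := Matrix.exists_mulVec_eq_zero_iff.2 h0
        exact hu0 (heig u (by rwa [sub_mulVec, smul_mulVec, one_mulVec, sub_eq_zero] at hu))) (-b)
      have hxs : GC x (bl lam 0 0 X) := by
        refine hX'.trans ?_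
        have := (sc_shear lam (0 : Fin (m + 2) → F) b d X).gc
        rw [mulVec_transpose, vecMul_sub, vecMul_smul, vecMul_one] at hd
        simpa [add_sub_assoc, hd] using this
      rcases Nat.eq_zero_or_pos m with rfl | hm
      · exact t_two h4 hxs hXns heig hlam hXd hz hdet
      have hβ : lam * lam ^ (m + 1) ≠ 0 := mul_ne_zero hlam (pow_ne_zero _ hlam)
      set c : Fin (m + 2) → F := Pi.single 0 1 with hc
      have hc0 : c ≠ 0 := by simp [hc]
      obtain ⟨b', D', hGD, hSns⟩ := exists_R1 hz hzd hβ (smul_ne_zero (pow_ne_zero (m + 1) hlam) hc0)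
        (Y := 1) (by simp)
      rw [show ((1 : Matrix (Fin (m + 2)) (Fin (m + 2)) F)⁻¹) = 1 by simp] at hSns
      simp only [Matrix.one_mul] at hSns
      have hSd := schur_det hβ hGD.gc
      obtain ⟨l, hl1, hl2, hl3⟩ := hPG (m + 2) (by omega) (by omega) X _ hXns hXd hSns (by
        rw [hdet, det_upper hX', mul_pow] at hSd
        rw [← pow_succ', show m + 3 - 1 = m + 2 by omega] at hSd
        rw [← pow_succ']
        exact mul_left_cancel₀ (pow_ne_zero _ hlam) hSd)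
      obtain ⟨Y, Ys, rfl⟩ : ∃ Y Ys, l = Y :: Ys := by
        cases l with
        | nil => simp at hl1
        | cons Y Ys => exact ⟨Y, Ys, rfl⟩
      have hYs : ∀ Z ∈ Ys, GC X Z := fun Z hZ => hl2 Z (List.mem_cons_of_mem _ hZ)
      have hnc : NC lam Ys := fun w hw => by
        obtain ⟨Z, hZ⟩ : ∃ Z, Z ∈ Ys := List.exists_mem_of_length_pos (by simp at hl1; omega)
        obtain ⟨g', hg', he'⟩ := (hYs Z hZ).symm
        refine mulVec_inj hg' ((heig _ ?_).trans (mulVec_zero g').symm)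
        rw [mulVec_mulVec, ← he', ← mulVec_mulVec, hw Z hZ, mulVec_smul]
      obtain ⟨g', hg', he'⟩ := hl2 Y List.mem_cons_self
      obtain ⟨t, ht, hflex⟩ := lower_flex hxs hg' he'
      obtain ⟨w, hw⟩ := mulVec_surj (M := Y - lam • 1) (fun w hw => by
        rw [sub_mulVec, smul_mulVec, one_mulVec, sub_eq_zero] at hw
        obtain ⟨g'', hg'', he''⟩ := (hl2 Y List.mem_cons_self).symm
        refine mulVec_inj hg'' ((heig _ ?_).trans (mulVec_zero g'').symm)
        rw [mulVec_mulVec, ← he'', ← mulVec_mulVec, hw, mulVec_smul]) c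
      have hL : SC x (bl lam c 0 Y) := by
        have := hflex w
        rwa [mulVec_zero, smul_zero, zero_add, ← one_mulVec (lam • w), Matrix.mulVec_smul, ← Matrix.smul_mulVec,
          ← sub_mulVec, hw] at this
      have hlen : Ys.length = m + 1 := by simp at hl1; omega
      obtain ⟨l', hl'1, hl'2, hl'3, hl'4⟩ := glue hlam hlam hX' hL hYs hnc hGD (by rw [hlen]) (by rw [hlen])
        (by rw [← hl3, List.prod_cons])
      exact ⟨l', by rw [hl'1, hlen]; omega, hl'2, hl'3, hl'4 lam hnc hc0⟩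
    · push Not at heig
      obtain ⟨u, hu, hu0⟩ := heig
      obtain ⟨c, Y, hc0, hL⟩ := exists_lower hxns ⟨v, hv, he⟩
      have hYd : Y.det = X.det := mul_left_cancel₀ hlam ((det_lower hL.gc).symm.trans (det_upper hX'))
      have hβ : lam * lam ^ (m + 1) ≠ 0 := mul_ne_zero hlam (pow_ne_zero _ hlam)
      obtain ⟨b', D', hGD, hRns⟩ := exists_R1 hz hzd hβ (smul_ne_zero (pow_ne_zero (m + 1) hlam) hc0)
        (Y := Y) (by rw [hYd]; exact hXd)
      have hSd := schur_det hβ hGD.gc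
      rw [hdet, det_upper hX', mul_pow, ← pow_succ', show m + 3 - 1 = m + 2 by omega] at hSd
      have hRd := mul_left_cancel₀ (pow_ne_zero _ hlam) hSd
      obtain ⟨Ys, hl1, hl2, hl3, hl4⟩ := ih (m + 2) (by omega) (fun k h1 h2 => hPG k h1 (by omega)) X _ lam
        ⟨⟨u, hu0, hu⟩, W2, hinv2, hfree2, hns2⟩ hXd hRns (by
          rw [← pow_succ', det_mul, det_nonsing_inv, hYd, hRd, Ring.inverse_eq_inv',
            show m + 2 - 1 = m + 1 by omega, pow_succ' _ (m + 1)]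
          field_simp)
      have hlen : Ys.length = m + 1 := by omega
      obtain ⟨l', hl'1, hl'2, hl'3, hl'4⟩ := glue hlam hlam hX' hL (fun Z hZ => (hl2 Z hZ).gc) hl4 hGD
        (by rw [hlen]) (by rw [hlen]) (by rw [hl3, mul_nonsing_inv_cancel_left _ _ (Ne.isUnit (hYd ▸ hXd))])
      exact ⟨l', by rw [hl'1, hlen]; omega, hl'2, hl'3, hl'4 lam hl4 hc0⟩

theorem tx_full (h4 : 4 ≤ Fintype.card F) {n : ℕ} (hPG : ∀ k, 3 ≤ k → k < n → PG F k)
    {x G : Matrix (Fin n) (Fin n) F} {lam : F} (hT : Tx lam x) (hxd : x.det ≠ 0) (hG : G.det = x.det ^ n) :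
    Prd SC x n G := by
  obtain ⟨m, rfl⟩ : ∃ m, n = m + 1 := ⟨n - 1, by have := hT.two_le; omega⟩
  refine absorb hT.nonscalar hxd hG fun z hz hzd => ?_
  obtain ⟨l, h1, h2, h3, -⟩ := tLemma h4 (m + 1) hPG x z lam hT hxd hz hzd
  exact ⟨l, h1, h2, h3⟩

end Cfsg.Agent.CovNum
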