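import Cfsg.Agent.Lib.CovNum.Cyclic
import Cfsg.Agent.Lib.CovNum.TLemma

/-!
# Covering number of `PSL(n, q)`: from classes in two factors to everything in `n` factors

* `absorb'`, `absorb_up` : extra factors;
* `lu_route` : four factors through triangular matrices;
* `c_route` : six factors through three matrices of one class;
* `GoodBlocks`, `merge_quad` : normal forms of the blocks of a matrix without eigenvalues.
-/

set_option autoImplicit false
set_option linter.unusedSectionVars false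

namespace Cfsg.Agent.CovNum

open Matrix Polynomial Cfsg.Agent.SLComm

variable {F : Type*} [Field F] {n m : ℕ}

theorem absorb' {R : Matrix (Fin (m + 1)) (Fin (m + 1)) F → Matrix (Fin (m + 1)) (Fin (m + 1)) F → Prop} {k : ℕ}
    {x G : Matrix (Fin (m + 1)) (Fin (m + 1)) F} (hR : ∀ y, SC x y → R x y) (hx : ∀ c : F, x ≠ c • 1)
    (hxd : x.det ≠ 0) (hG : G.det = x.det ^ (k + 1))
    (h : ∀ z : Matrix (Fin (m + 1)) (Fin (m + 1)) F, (∀ c : F, z ≠ c • 1) → z.det = x.det ^ k → Prd R x k z) :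
    Prd R x (k + 1) G := by
  obtain ⟨y', hy', hne⟩ := exists_conj_not_prop hx
  have hG0 : G.det ≠ 0 := by rw [hG]; exact pow_ne_zero _ hxd
  obtain ⟨y, hy, hns⟩ : ∃ y, SC x y ∧ ∀ c : F, y⁻¹ * G ≠ c • 1 := by
    by_contra! hall
    have key : ∀ y, SC x y → ∃ c : F, c ≠ 0 ∧ G = c • y := fun y hy => by
      obtain ⟨c, hc⟩ := hall y hy
      have hu : IsUnit y.det := by rw [hy.gc.det_eq]; exact Ne.isUnit hxd
      have e : G = c • y := by
        rw [← mul_nonsing_inv_cancel_left y G hu, hc, Matrix.mul_smul, Matrix.mul_one]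
      exact ⟨c, fun e0 => hG0 (by simp [e, e0]), e⟩
    obtain ⟨c, hc0, hc⟩ := key x (SC.refl x)
    obtain ⟨c', hc0', hc'⟩ := key y' hy'
    exact hne (c'⁻¹ * c) (by rw [mul_smul, ← hc, hc', smul_smul, inv_mul_cancel₀ hc0', one_smul])
  have hu : IsUnit y.det := by rw [hy.gc.det_eq]; exact Ne.isUnit hxd
  have := (Prd.one (hR y hy)).mul (h _ hns (by
    rw [det_mul, det_nonsing_inv, hy.gc.det_eq, hG, Ring.inverse_eq_inv', pow_succ']
    field_simp))
  rw [mul_nonsing_inv_cancel_left _ _ hu] at this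
  exact Nat.add_comm 1 k ▸ this

theorem absorb_up {R : Matrix (Fin (m + 1)) (Fin (m + 1)) F → Matrix (Fin (m + 1)) (Fin (m + 1)) F → Prop} {k : ℕ}
    {x : Matrix (Fin (m + 1)) (Fin (m + 1)) F} (hR : ∀ y, SC x y → R x y) (hx : ∀ c : F, x ≠ c • 1)
    (hxd : x.det ≠ 0)
    (h : ∀ z : Matrix (Fin (m + 1)) (Fin (m + 1)) F, (∀ c : F, z ≠ c • 1) → z.det = x.det ^ k → Prd R x k z) :
    ∀ (j : ℕ) (G : Matrix (Fin (m + 1)) (Fin (m + 1)) F), G.det = x.det ^ (k + j) →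
      ((∀ c : F, G ≠ c • 1) ∨ 0 < j) → Prd R x (k + j) G
  | 0, G, hG, hns => h G (hns.resolve_right (by omega)) hG
  | j + 1, G, hG, _ => absorb' (k := k + j) hR hx hxd hG fun z hz hzd =>
      absorb_up hR hx hxd h j z hzd (Or.inl hz)

theorem NoEig.nonscalar {x : Matrix (Fin (m + 1)) (Fin (m + 1)) F} (h : NoEig x) : ∀ c : F, x ≠ c • 1 := fun c e => by
  have := h c (Pi.single 0 1) (by rw [e, smul_mulVec, one_mulVec])
  simpa using congrFun this 0

theorem NoEig.det_ne {x : Matrix (Fin n) (Fin n) F} (h : NoEig x) : x.det ≠ 0 := fun e => by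
  obtain ⟨v, hv, hve⟩ := Matrix.exists_mulVec_eq_zero_iff.2 e
  exact hv (h 0 v (by rw [hve, zero_smul]))

theorem Ach.card {x : Matrix (Fin n) (Fin n) F} {s : Multiset F} {δ : F} (h : Ach x s δ) :
    Multiset.card s = n := by
  obtain ⟨-, G1, y, -, -, hc⟩ := h
  rw [← rp_natDegree s]; exact hc.natDegree (rp_monic s)

theorem Ach.prod {x : Matrix (Fin n) (Fin n) F} {s : Multiset F} {δ : F} (h : Ach x s δ) :
    s.prod = x.det ^ 2 := by
  obtain ⟨hδ, G1, y, hG, he, hc⟩ := h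
  rw [← cdet_rp, ← hc.det (rp_monic s), det_mul, GC.det_eq (x := x) (y := y) ⟨G1, by rw [hG]; exact hδ, he⟩, sq]

theorem lu_route [Fintype F] (h4 : 4 ≤ Fintype.card F)
    {R : Matrix (Fin (m + 4)) (Fin (m + 4)) F → Matrix (Fin (m + 4)) (Fin (m + 4)) F → Prop}
    {x : Matrix (Fin (m + 4)) (Fin (m + 4)) F} (hR : ∀ y, SC x y → R x y) (hx : ∀ c : F, x ≠ c • 1)
    (hxd : x.det ≠ 0) {s : Multiset F} (hprod : s.prod = x.det ^ 2) (hs : (0 : F) ∉ s)
    (h2 : ∀ M, Cls (rp s) M → Prd R x 2 M) {lam mu : Fin (m + 4) → F} {β : F} (hβ : β ≠ 0)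
    (hlam : Finset.univ.val.map lam = s) (hmu : Finset.univ.val.map mu = s)
    (hrel : ∀ i, i ≠ 0 → lam i * mu i = β) (hl : Contig lam) (hmc : Contig mu)
    (hone : x.det = 1 → m = 0 → s.map (fun a => a⁻¹) = s) {G : Matrix (Fin (m + 4)) (Fin (m + 4)) F}
    (hdet : G.det = x.det ^ (m + 4)) (hG : (∀ c : F, G ≠ c • 1) ∨ x.det = 1 ∧ G = 1) : Prd R x (m + 4) G := by
  have hne : ∀ (f : Fin (m + 4) → F), Finset.univ.val.map f = s → ∀ i, f i ≠ 0 := fun f hf i e =>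
    hs (e ▸ hf ▸ Multiset.mem_map.2 ⟨i, Finset.mem_univ_val i, rfl⟩)
  have four : ∀ z : Matrix (Fin (m + 4)) (Fin (m + 4)) F, (∀ c : F, z ≠ c • 1) → z.det = x.det ^ 4 →
      Prd R x 4 z := by
    intro z hz hzd
    obtain ⟨M, M', hM, hM', rfl⟩ := lu_pair h4 hβ (hne lam hlam) hrel (hne mu hmu 0) hl hmc hz (by
      rw [hzd, Finset.prod_eq_multiset_prod, Finset.prod_eq_multiset_prod, hlam, hmu, hprod]; ring)
    rw [hlam] at hM
    rw [hmu] at hM'
    exact (h2 M hM).mul (h2 M' hM')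
  by_cases hm : (∀ c : F, G ≠ c • 1) ∨ 0 < m
  · have := absorb_up hR hx hxd four m G (by rw [hdet]; ring) hm
    convert this using 1
    omega
  push Not at hm
  obtain ⟨⟨c, hc⟩, hm⟩ := hm
  obtain rfl : m = 0 := by omega
  obtain ⟨hx1, rfl⟩ := hG.resolve_left fun h => h c hc
  have hM := cls_cm (m := 3) (rp_monic s) (by rw [rp_natDegree, ← hlam]; simp)
  have hMi := hM.inv (rp_monic s) (rp_coeff_zero hs)
  rw [invPoly_rp hs, hone hx1 rfl] at hMi
  have := (h2 _ hM).mul (h2 _ hMi)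
  rwa [mul_nonsing_inv] at this
  rw [hM.det (rp_monic s), cdet_rp]
  exact Ne.isUnit (Multiset.prod_ne_zero hs)

theorem c_route [Fintype F] [DecidableEq F]
    {R : Matrix (Fin (m + 6)) (Fin (m + 6)) F → Matrix (Fin (m + 6)) (Fin (m + 6)) F → Prop}
    {x : Matrix (Fin (m + 6)) (Fin (m + 6)) F} (hR : ∀ y, SC x y → R x y) (hx : ∀ c : F, x ≠ c • 1)
    (hxd : x.det ≠ 0) {s : Multiset F} (hprod : s.prod = x.det ^ 2) (hs : (0 : F) ∉ s)
    (hcard : Multiset.card s = m + 6) {w : F} (hw : s.count w = 1) (h2 : ∀ M, Cls (rp s) M → Prd R x 2 M)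
    {G : Matrix (Fin (m + 6)) (Fin (m + 6)) F} (hdet : G.det = x.det ^ (m + 6)) : Prd R x (m + 6) G := by
  have six : ∀ z : Matrix (Fin (m + 6)) (Fin (m + 6)) F, z.det = x.det ^ 6 → Prd R x 6 z := by
    intro z hzd
    obtain ⟨M1, M2, M3, h1, h2', h3, rfl⟩ := triple (m := m + 5) hcard hs hw (G := z) (by rw [hzd, hprod]; ring)
    exact ((h2 _ h1).mul (h2 _ h2')).mul (h2 _ h3)
  rcases Nat.eq_zero_or_pos m with hm | hm
  · subst hm; exact six G hdet
  have := absorb_up hR hx hxd (fun z _ hz => six z hz) m G (by rw [hdet]; ring) (Or.inr hm)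
  convert this using 1
  omega

/-! ### Blocks -/

/-- Monic, without roots, of degree at least two. -/
def GoodBlocks (L : List F[X]) : Prop := ∀ h ∈ L, h.Monic ∧ (∀ c : F, h.eval c ≠ 0) ∧ 2 ≤ h.natDegree

theorem GoodBlocks.monic {L : List F[X]} (h : GoodBlocks L) : ∀ g ∈ L, g.Monic := fun g hg => (h g hg).1

theorem eval_zero_ne {h : F[X]} (hr : ∀ c : F, h.eval c ≠ 0) : h.coeff 0 ≠ 0 := by
  rw [coeff_zero_eq_eval_zero]; exact hr 0

theorem cdet_ne {h : F[X]} (hr : ∀ c : F, h.eval c ≠ 0) : cdet h ≠ 0 :=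
  mul_ne_zero (pow_ne_zero _ (neg_ne_zero.2 one_ne_zero)) (eval_zero_ne hr)

theorem dim_dcyc : ∀ {L : List F[X]}, (∀ h ∈ L, h.Monic) →
    Module.finrank F (∀ i : Fin L.length, AdjoinRoot (L.get i)) = (L.map natDegree).sum
  | [], _ => by
    haveI : Subsingleton (∀ i : Fin ([] : List F[X]).length, AdjoinRoot (([] : List F[X]).get i)) :=
      ⟨fun v w => funext fun i => absurd i.isLt (by simp)⟩
    rw [Module.finrank_zero_of_subsingleton]
    rfl
  | h :: L, hL => by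
    have hm := hL h List.mem_cons_self
    have hL' : ∀ g ∈ L, g.Monic := fun g hg => hL g (List.mem_cons_of_mem _ hg)
    haveI := hm.finite_adjoinRoot
    haveI := finite_dcyc hL'
    obtain ⟨e, -⟩ := dcyc_cons h L
    rw [e.finrank_eq, Module.finrank_prod, finrank_adjoinRoot hm, dim_dcyc hL', List.map_cons, List.sum_cons]

theorem sum_deg {x : Matrix (Fin n) (Fin n) F} {L : List F[X]} (hL : ∀ h ∈ L, h.Monic)
    (hs : Sim (Matrix.toLin' x) (dcyc L)) : (L.map natDegree).sum = n := by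
  obtain ⟨e, -⟩ := hs
  have := e.finrank_eq
  rw [Module.finrank_fin_fun, dim_dcyc hL] at this
  exact this.symm

theorem exists_good [Finite F] {x : Matrix (Fin n) (Fin n) F} (hx : NoEig x) :
    ∃ L : List F[X], (∀ h ∈ L, ∃ (P : F[X]) (e : ℕ), Irreducible P ∧ P.Monic ∧ 0 < e ∧ h = P ^ e ∧ 2 ≤ P.natDegree) ∧
      GoodBlocks L ∧ Sim (Matrix.toLin' x) (dcyc L) := by
  classical
  obtain ⟨L, hL, hsim⟩ := exists_dcyc (Matrix.toLin' x)
  have hmon : ∀ h ∈ L, h.Monic := fun h hh => by obtain ⟨P, e, -, hP, -, rfl⟩ := hL h hh; exact hP.pow e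
  have hroot : ∀ h ∈ L, ∀ c : F, h.eval c ≠ 0 := by
    intro h hh c hc
    obtain ⟨e, he⟩ := id hsim
    obtain ⟨i, rfl⟩ := List.get_of_mem hh
    have h1 := Sim.aeval_apply e he (Matrix.toLin' x).charpoly (e.symm (Pi.single i 1))
    rw [LinearMap.aeval_self_charpoly, LinearMap.zero_apply, map_zero, e.apply_symm_apply] at h1
    have h2 := congrFun h1.symm i
    rw [aeval_dcyc_apply, Pi.single_eq_same, aeval_Cyc_one, Pi.zero_apply, AdjoinRoot.mk_eq_zero] at h2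
    have h3 : (Matrix.toLin' x).charpoly.eval c = 0 := eval_eq_zero_of_dvd_of_eval_eq_zero h2 hc
    rw [Matrix.charpoly_toLin', Matrix.eval_charpoly] at h3
    obtain ⟨v, hv, hve⟩ := Matrix.exists_mulVec_eq_zero_iff.2 h3
    refine hv (hx c v ?_)
    rw [sub_mulVec, Matrix.scalar_apply, ← smul_one_eq_diagonal, smul_mulVec, one_mulVec, sub_eq_zero] at hve
    exact hve.symm
  have hP2 : ∀ P : F[X], ∀ e : ℕ, Irreducible P → P.Monic → P ^ e ∈ L → 0 < e → 2 ≤ P.natDegree := by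
    intro P e hP hPm hh he
    by_contra hlt
    have h1 : P.natDegree = 1 := by have := hP.natDegree_pos; omega
    refine hroot _ hh (-P.coeff 0) ?_
    rw [eval_pow]
    conv_lhs => arg 1; rw [hPm.eq_X_add_C h1]
    simp [he.ne']
  refine ⟨L, fun h hh => ?_, fun h hh => ⟨hmon h hh, hroot h hh, ?_⟩, hsim⟩
  · obtain ⟨P, e, hP, hPm, he, rfl⟩ := hL h hh
    exact ⟨P, e, hP, hPm, he, rfl, hP2 P e hP hPm hh he⟩
  · obtain ⟨P, e, hP, hPm, he, rfl⟩ := hL h hh
    rw [hPm.natDegree_pow]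
    exact le_trans (hP2 P e hP hPm hh he) (Nat.le_mul_of_pos_left _ he)

theorem irreducible_small {h : F[X]} (hm : h.Monic) (hr : ∀ c : F, h.eval c ≠ 0) (h2 : 2 ≤ h.natDegree)
    (h3 : h.natDegree ≤ 3) : Irreducible h := by
  rw [hm.irreducible_iff_roots_eq_zero_of_degree_le_three h2 h3]
  exact Multiset.eq_zero_of_forall_notMem fun c hc => hr c (mem_roots'.1 hc).2

theorem merge_two {L : List F[X]} (hL : GoodBlocks L) {f g : F[X]} (hf : f ∈ L) (hg : g ∈ L) (hne : g ≠ f)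
    (hc : IsCoprime f g) :
    ∃ L' : List F[X], GoodBlocks L' ∧ L'.length < L.length ∧ Sim (dcyc L) (dcyc L') := by
  classical
  have hg' : g ∈ L.erase f := (List.mem_erase_of_ne hne).2 hg
  have hp : L.Perm (f :: g :: (L.erase f).erase g) :=
    (List.perm_cons_erase hf).trans ((List.perm_cons_erase hg').cons f)
  obtain ⟨hfm, hfr, hfd⟩ := hL f hf
  obtain ⟨hgm, hgr, hgd⟩ := hL g hg
  refine ⟨f * g :: (L.erase f).erase g, fun p hp' => ?_, ?_, (dcyc_perm hp).trans (dcyc_merge hfm hgm hc _)⟩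
  · rcases List.mem_cons.1 hp' with rfl | hp'
    · refine ⟨hfm.mul hgm, fun c => by rw [eval_mul]; exact mul_ne_zero (hfr c) (hgr c), ?_⟩
      rw [hfm.natDegree_mul hgm]; omega
    · exact hL p (List.mem_of_mem_erase (List.mem_of_mem_erase hp'))
  · rw [hp.length_eq]; simp

theorem merge_quad [Finite F] : ∀ (L : List F[X]), GoodBlocks L → ∃ L' : List F[X], GoodBlocks L' ∧ Sim (dcyc L) (dcyc L') ∧
    ∀ f ∈ L', ∀ g ∈ L', f.natDegree = 2 → g.natDegree = 2 → cdet f = cdet g := by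
  suffices H : ∀ (k : ℕ) (L : List F[X]), L.length = k → GoodBlocks L → ∃ L' : List F[X], GoodBlocks L' ∧
      Sim (dcyc L) (dcyc L') ∧ ∀ f ∈ L', ∀ g ∈ L', f.natDegree = 2 → g.natDegree = 2 → cdet f = cdet g from
    fun L hL => H _ L rfl hL
  intro k
  induction k using Nat.strong_induction_on with
  | _ k ih =>
    intro L hk hL
    by_cases h : ∀ f ∈ L, ∀ g ∈ L, f.natDegree = 2 → g.natDegree = 2 → cdet f = cdet g
    · exact ⟨L, hL, Sim.refl _, h⟩
    push Not at h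
    obtain ⟨f, hf, g, hg, hf2, hg2, hne⟩ := h
    have hfg : f ≠ g := fun e => hne (by rw [e])
    obtain ⟨hfm, hfr, -⟩ := hL f hf
    obtain ⟨hgm, hgr, -⟩ := hL g hg
    obtain ⟨L', hL', hlen, hsim⟩ := merge_two hL hf hg hfg.symm
      (coprime_of_primes (irreducible_small hfm hfr (by omega) (by omega))
        (irreducible_small hgm hgr (by omega) (by omega)) hfm hgm hfg)
    obtain ⟨L'', h1, h2, h3⟩ := ih L'.length (hk ▸ hlen) L' rfl hL'
    exact ⟨L'', h1, hsim.trans h2, h3⟩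

/-- A block achieves a multiset of roots. -/
def AchB (h : F[X]) (s : Multiset F) : Prop :=
  ∃ δ : F, ∀ m, h.natDegree = m + 1 → Ach (cm (m := m) h) s δ

theorem achB_big [Fintype F] (h4 : 4 ≤ Fintype.card F) {h : F[X]} (hm : h.Monic) (hr : ∀ c : F, h.eval c ≠ 0)
    (h3 : 3 ≤ h.natDegree) {s : Multiset F} (hcard : Multiset.card s = h.natDegree) (hs : (0 : F) ∉ s)
    (hprod : s.prod = cdet h ^ 2) : AchB h s := by
  obtain ⟨k, hk⟩ : ∃ k, h.natDegree = k + 2 := ⟨h.natDegree - 2, by omega⟩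
  obtain ⟨δh, -, hb⟩ := base h4 hm hk (eval_zero_ne hr)
  obtain ⟨rs, hct, hrs⟩ := exists_contig (s := s) (k := k + 2) (hcard.trans hk)
  refine ⟨δh * ∏ j : Fin (k + 2), ∏ l ∈ Finset.Iio j, (rs l)⁻¹, fun m hm' => ?_⟩
  obtain rfl : m = k + 1 := by omega
  have := hb rs (fun i e => hs (e ▸ hrs ▸ Multiset.mem_map.2 ⟨i, Finset.mem_univ_val i, rfl⟩))
    (by rw [Finset.prod_eq_multiset_prod, hrs, hprod]) (Or.inl ⟨by omega, hct⟩)
  rwa [hrs] at this

theorem achB_quad [Fintype F] (h4 : 4 ≤ Fintype.card F) {h : F[X]} (hm : h.Monic) (hr : ∀ c : F, h.eval c ≠ 0)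
    (h2 : h.natDegree = 2) {a b : F} (ha : a ≠ 0) (hne : a ≠ b) (hab : a * b = cdet h ^ 2) :
    AchB h {a, b} := by
  obtain ⟨δh, -, hbase⟩ := base (m := 0) h4 hm h2 (eval_zero_ne hr)
  have hb : b ≠ 0 := fun e => pow_ne_zero 2 (cdet_ne hr) (by rw [← hab, e, mul_zero])
  refine ⟨δh * ∏ j : Fin 2, ∏ l ∈ Finset.Iio j, (![a, b] l)⁻¹, fun m hm' => ?_⟩
  obtain rfl : m = 1 := by omega
  have := hbase ![a, b] (fun i => by fin_cases i <;> simpa) (by simpa [Fin.prod_univ_two] using hab)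
    (Or.inr fun i hi => by fin_cases i <;> simp_all)
  have e : Finset.univ.val.map ![a, b] = ({a, b} : Multiset F) := by
    rw [Fin.univ_val_map]; simp [List.ofFn_succ]; rfl
  rwa [e] at this

theorem achL_cons_B [Fintype F] {h : F[X]} {L : List F[X]} {s s' : Multiset F} (hm : h.Monic)
    (hr : ∀ c : F, h.eval c ≠ 0) (hpos : 0 < h.natDegree) (hs : (0 : F) ∉ s) (hA : AchB h s)
    (hL : ∀ g ∈ L, g.Monic) (h' : ∃ δ, AchL L s' δ) : ∃ δ, AchL (h :: L) (s + s') δ := by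
  obtain ⟨δ, hA⟩ := hA
  obtain ⟨δ', h'⟩ := h'
  obtain ⟨k, hk⟩ : ∃ k, h.natDegree = k + 1 := ⟨h.natDegree - 1, by omega⟩
  exact ⟨δ * δ', achL_cons hm hk hr hs (hA k hk) hL h'⟩

theorem AchL.perm {L L' : List F[X]} {s : Multiset F} {δ : F} (h : AchL L s δ) (hp : L'.Perm L) :
    AchL L' s δ := fun n x hx => h n x (hx.trans (dcyc_perm hp))

end Cfsg.Agent.CovNum
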