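import Cfsg.Agent.Lib.CovNum.Eigen
import Mathlib.LinearAlgebra.Matrix.Trace

/-!
# Covering number of `PSL(n, q)`: the freedom in the Schur complement of the target

* `form_shear`, `form_stab` : changes of `S = schur β a b D` fixing `β` and `a`;
* `exists_R1` : `Y⁻¹ S` can be made nonscalar;
* `exists_R2` : `Y⁻¹ S - σ` can be made of rank at least two;
* `exists_R3` : in block size two, `Y⁻¹ S` can be given any trace.
-/

set_option autoImplicit false
set_option linter.unusedSectionVars false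

namespace Cfsg.Agent.CovNum

open Matrix Submodule

variable {F : Type*} [Field F] {n m : ℕ}

theorem schur_det_ne {β : F} (hβ : β ≠ 0) {a b : Fin m → F} {D : Matrix (Fin m) (Fin m) F}
    {G : Matrix (Fin (m + 1)) (Fin (m + 1)) F} (h : GC G (bl β a b D)) (hG : G.det ≠ 0) :
    (schur β a b D).det ≠ 0 := by
  intro h0
  have := h.det_eq
  rw [det_bl hβ, h0, mul_zero] at this
  exact hG this.symm

theorem schur_det {β : F} (hβ : β ≠ 0) {a b : Fin m → F} {D : Matrix (Fin m) (Fin m) F}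
    {G : Matrix (Fin (m + 1)) (Fin (m + 1)) F} (h : GC G (bl β a b D)) :
    β * (schur β a b D).det = G.det := by rw [← det_bl hβ, h.det_eq]

theorem form_shear {β : F} (hβ : β ≠ 0) {a b : Fin m → F} {D : Matrix (Fin m) (Fin m) F}
    (hS : (schur β a b D).det ≠ 0) {f : Fin m → F} (hf : f ⬝ᵥ ((schur β a b D)⁻¹ *ᵥ a) = 0) :
    ∃ (b' : Fin m → F) (D' : Matrix (Fin m) (Fin m) F), SC (bl β a b D) (bl β a b' D') ∧
      schur β a b' D' = schur β a b D - vecMulVec a f := by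
  set S := schur β a b D with hSd
  set δ := β • (f ᵥ* S⁻¹) with hδd
  have hδ : δ ⬝ᵥ a = 0 := by rw [hδd, smul_dotProduct, ← dotProduct_mulVec, hf, smul_zero]
  have hδS : δ ᵥ* S = β • f := by
    rw [hδd, smul_vecMul, vecMul_vecMul, nonsing_inv_mul _ (Ne.isUnit hS), vecMul_one]
  have hδD : δ ᵥ* D = β • f := by
    have : D = S + β⁻¹ • vecMulVec a b := by simp [hSd, schur]
    rw [this, vecMul_add, hδS, vecMul_smul, vecMul_vecMulVec, hδ, zero_smul, smul_zero, add_zero]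
  refine ⟨b + δ ᵥ* D - (β + δ ⬝ᵥ a) • δ, D - vecMulVec a δ, ?_, ?_⟩
  · have := sc_shear β a b δ D
    simpa [hδ] using this
  · rw [hδ, add_zero, hδD, hSd]
    unfold schur
    ext i j
    simp only [Matrix.sub_apply, Matrix.smul_apply, vecMulVec_apply, Pi.add_apply, Pi.sub_apply, Pi.smul_apply, smul_eq_mul]
    field_simp
    ring

theorem form_stab {β : F} {a b : Fin m → F} {D g : Matrix (Fin m) (Fin m) F} (hg : g.det = 1) (ha : g *ᵥ a = a) :
    ∃ (b' : Fin m → F) (D' : Matrix (Fin m) (Fin m) F), SC (bl β a b D) (bl β a b' D') ∧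
      g * schur β a b D = schur β a b' D' * g := by
  have hu : IsUnit g.det := by rw [hg]; exact isUnit_one
  refine ⟨b ᵥ* g⁻¹, g * D * g⁻¹, sc_diag (g := g) ?_ ?_ ?_ ?_, ?_⟩
  · rw [hg]; exact one_ne_zero
  · rw [nonsing_inv_mul_cancel_right _ _ hu]
  · rw [hg, one_smul, ha]
  · rw [hg, inv_one, one_smul, vecMul_vecMul, nonsing_inv_mul _ hu, vecMul_one]
  · unfold schur
    rw [Matrix.mul_sub, Matrix.sub_mul, nonsing_inv_mul_cancel_right _ _ hu, Matrix.mul_smul, Matrix.smul_mul,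
      mul_vecMulVec, ha, vecMulVec_mul, vecMul_vecMul, nonsing_inv_mul _ hu, vecMul_one]

theorem finrank_line_le (f : Fin n → F) : Module.finrank F (span F ({f} : Set (Fin n → F))) ≤ 1 :=
  (finrank_span_le_card _).trans (by simp)

theorem exists_orth (hn : 2 ≤ n) (f : Fin n → F) : ∃ w : Fin n → F, w ≠ 0 ∧ f ⬝ᵥ w = 0 := by
  obtain ⟨w, hw0, hw⟩ := exists_annih (S := span F ({f} : Set (Fin n → F))) (fun h => by
    have h1 := finrank_line_le (F := F) f
    rw [h, finrank_top, Module.finrank_fin_fun] at h1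
    omega)
  exact ⟨w, hw0, by rw [dotProduct_comm]; exact hw f (mem_span_singleton_self f)⟩

theorem vecMulVec_eq_smul (hn : 2 ≤ n) {Y : Matrix (Fin n) (Fin n) F} (hY : Y.det ≠ 0) {a f : Fin n → F} {c : F}
    (h : c • Y = vecMulVec a f) : c = 0 := by
  obtain ⟨w, hw0, hw⟩ := exists_orth hn f
  have := congrArg (· *ᵥ w) h
  simp only [smul_mulVec, vecMulVec_mulVec', hw, zero_smul, smul_eq_zero] at this
  exact this.resolve_right fun e => hw0 (mulVec_inj hY (e.trans (mulVec_zero Y).symm))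

theorem exists_R1 {G : Matrix (Fin (m + 3)) (Fin (m + 3)) F} (hG : ∀ c : F, G ≠ c • 1) (hGd : G.det ≠ 0)
    {β : F} (hβ : β ≠ 0) {a : Fin (m + 2) → F} (ha : a ≠ 0) {Y : Matrix (Fin (m + 2)) (Fin (m + 2)) F}
    (hY : Y.det ≠ 0) :
    ∃ (b : Fin (m + 2) → F) (D : Matrix (Fin (m + 2)) (Fin (m + 2)) F), SC G (bl β a b D) ∧
      ∀ c : F, Y⁻¹ * schur β a b D ≠ c • 1 := by
  obtain ⟨b, D, hGD⟩ := exists_Gform hG β ha
  by_cases h : ∀ c : F, Y⁻¹ * schur β a b D ≠ c • 1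
  · exact ⟨b, D, hGD, h⟩
  push Not at h
  obtain ⟨c, hc⟩ := h
  have hu := Ne.isUnit hY
  have hS : schur β a b D = c • Y := by
    rw [← mul_nonsing_inv_cancel_left Y (schur β a b D) hu, hc, Matrix.mul_smul, Matrix.mul_one]
  have hSd := schur_det_ne hβ hGD.gc hGd
  obtain ⟨f, hf0, hf⟩ := exists_orth (by omega) ((schur β a b D)⁻¹ *ᵥ a)
  obtain ⟨b', D', hsc, he⟩ := form_shear hβ hSd (f := f) (by rw [dotProduct_comm]; exact hf)
  refine ⟨b', D', hGD.trans hsc, fun c' hc' => ?_⟩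
  have h2 : schur β a b' D' = c' • Y := by
    rw [← mul_nonsing_inv_cancel_left Y (schur β a b' D') hu, hc', Matrix.mul_smul, Matrix.mul_one]
  rw [he, hS, sub_eq_iff_eq_add, ← sub_eq_iff_eq_add', ← sub_smul] at h2
  have hcc := vecMulVec_eq_smul (by omega) hY h2
  rw [hcc, zero_smul] at h2
  rcases vecMulVec_eq_zero' h2.symm with h3 | h3
  exacts [ha h3, hf0 h3]

theorem exists_notMem_span {S : Submodule F (Fin n → F)} (hS : 2 ≤ Module.finrank F S) (g : Fin n → F) :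
    ∃ f ∈ S, f ∉ span F ({g} : Set (Fin n → F)) := by
  by_contra! h
  have h1 := Submodule.finrank_mono (show S ≤ span F ({g} : Set (Fin n → F)) from h)
  have h2 := finrank_line_le (F := F) g
  omega

theorem finrank_orth (p : Fin n → F) :
    n ≤ Module.finrank F (LinearMap.ker (dotProductBilin F F p)) + 1 := by
  have h1 := (dotProductBilin F F p).finrank_range_add_finrank_ker
  have h2 := (LinearMap.range (dotProductBilin F F p)).finrank_le
  rw [Module.finrank_fin_fun] at h1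
  rw [Module.finrank_self] at h2
  omega

theorem exists_orth_notMem (hn : 3 ≤ n) (p g : Fin n → F) :
    ∃ f : Fin n → F, p ⬝ᵥ f = 0 ∧ f ∉ span F ({g} : Set (Fin n → F)) := by
  obtain ⟨f, hf, hfg⟩ := exists_notMem_span (S := LinearMap.ker (dotProductBilin F F p))
    (by have := finrank_orth (F := F) p; omega) g
  exact ⟨f, hf, hfg⟩

theorem mem_span_of_annih {a z : Fin n → F} (h : ∀ f : Fin n → F, f ⬝ᵥ a = 0 → f ⬝ᵥ z = 0) :
    z ∈ span F ({a} : Set (Fin n → F)) := by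
  by_contra hz
  obtain ⟨r, h1, h2⟩ := exists_sep hz
  exact one_ne_zero (h1.symm.trans (h r (h2 a (mem_span_singleton_self a))))

theorem exists_R2_step {G : Matrix (Fin (m + 4)) (Fin (m + 4)) F} (hGd : G.det ≠ 0) {β σ : F} (hβ : β ≠ 0)
    {a b : Fin (m + 3) → F} (ha : a ≠ 0) {D : Matrix (Fin (m + 3)) (Fin (m + 3)) F}
    {Y : Matrix (Fin (m + 3)) (Fin (m + 3)) F} (hY : Y.det ≠ 0) (hGD : SC G (bl β a b D))
    (hw : ∃ w, (schur β a b D - σ • Y) *ᵥ w ∉ span F ({a} : Set (Fin (m + 3) → F))) :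
    ∃ (b : Fin (m + 3) → F) (D : Matrix (Fin (m + 3)) (Fin (m + 3)) F), SC G (bl β a b D) ∧
      ¬ R1 σ (Y⁻¹ * schur β a b D) := by
  have hu := Ne.isUnit hY
  have key : ∀ (b : Fin (m + 3) → F) (D : Matrix (Fin (m + 3)) (Fin (m + 3)) F), SC G (bl β a b D) →
      R1 σ (Y⁻¹ * schur β a b D) → ∃ u g, schur β a b D - σ • Y = vecMulVec u g := by
    rintro b D - ⟨u, g, he⟩
    refine ⟨Y *ᵥ u, g, ?_⟩
    rw [← mul_vecMulVec, ← he, Matrix.mul_sub, mul_nonsing_inv_cancel_left _ _ hu, Matrix.mul_smul, Matrix.mul_one]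
  obtain ⟨w, hw⟩ := hw
  by_contra! hall
  obtain ⟨u, g, he⟩ := key b D hGD (hall b D hGD)
  rw [he, vecMulVec_mulVec'] at hw
  have hgw : g ⬝ᵥ w ≠ 0 := fun e => hw (by rw [e, zero_smul]; exact zero_mem _)
  have hua : u ∉ span F ({a} : Set (Fin (m + 3) → F)) := fun e => hw (smul_mem _ _ e)
  have hSd := schur_det_ne hβ hGD.gc hGd
  obtain ⟨f, hf, hfg⟩ := exists_orth_notMem (by omega) ((schur β a b D)⁻¹ *ᵥ a) g
  obtain ⟨b', D', hsc, he'⟩ := form_shear hβ hSd (f := f) (by rw [dotProduct_comm]; exact hf)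
  obtain ⟨u', g', he''⟩ := key b' D' (hGD.trans hsc) (hall b' D' (hGD.trans hsc))
  rw [he', sub_right_comm, he] at he''
  have hg0 : g ≠ 0 := fun e => hgw (by rw [e, zero_dotProduct])
  obtain ⟨w1, hw11, hw12⟩ := exists_dual2 hg0 hfg 0 1
  obtain ⟨w2, hw21, hw22⟩ := exists_dual2 hg0 hfg 1 0
  have e1 := congrArg (· *ᵥ w1) he''
  have e2 := congrArg (· *ᵥ w2) he''
  simp only [sub_mulVec, vecMulVec_mulVec', dotProduct_comm g w1, hw11, dotProduct_comm f w1, hw12, one_smul,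
    zero_smul, zero_sub] at e1
  simp only [sub_mulVec, vecMulVec_mulVec', dotProduct_comm g w2, hw21, dotProduct_comm f w2, hw22, one_smul,
    zero_smul, sub_zero] at e2
  have hk : g' ⬝ᵥ w1 ≠ 0 := fun e => ha (by rw [e, zero_smul, neg_eq_zero] at e1; exact e1)
  refine hua (mem_span_singleton.2 ⟨-((g' ⬝ᵥ w2) / (g' ⬝ᵥ w1)), ?_⟩)
  rw [neg_smul, ← smul_neg, e1, smul_smul, div_mul_cancel₀ _ hk, ← e2]

theorem exists_R2 {G : Matrix (Fin (m + 4)) (Fin (m + 4)) F} (hG : ∀ c : F, G ≠ c • 1) (hGd : G.det ≠ 0)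
    {β σ : F} (hβ : β ≠ 0) (hσ : σ ≠ 0) {a : Fin (m + 3) → F} (ha : a ≠ 0)
    {Y : Matrix (Fin (m + 3)) (Fin (m + 3)) F} (hY : Y.det ≠ 0)
    (hYa : ∀ s : F, ∃ w, (Y - s • 1) *ᵥ w ∉ span F ({a} : Set (Fin (m + 3) → F))) :
    ∃ (b : Fin (m + 3) → F) (D : Matrix (Fin (m + 3)) (Fin (m + 3)) F), SC G (bl β a b D) ∧
      ¬ R1 σ (Y⁻¹ * schur β a b D) := by
  have step := fun (b : Fin (m + 3) → F) (D : Matrix (Fin (m + 3)) (Fin (m + 3)) F) (h : SC G (bl β a b D)) hw =>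
    exists_R2_step (σ := σ) (Y := Y) hGd hβ ha hY h hw
  obtain ⟨b, D, hGD⟩ := exists_Gform hG β ha
  by_cases hout : ∃ w, (schur β a b D - σ • Y) *ᵥ w ∉ span F ({a} : Set (Fin (m + 3) → F))
  · exact step b D hGD hout
  push Not at hout
  -- otherwise move `S` by the stabiliser of `a`
  by_contra hfail
  have comm : ∀ f w : Fin (m + 3) → F, f ⬝ᵥ a = 0 → f ⬝ᵥ w = 0 → ∀ z,
      (f ⬝ᵥ (Y *ᵥ z)) • w - (f ⬝ᵥ z) • (Y *ᵥ w) ∈ span F ({a} : Set (Fin (m + 3) → F)) := by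
    intro f w hfa hfw z
    set g : Matrix (Fin (m + 3)) (Fin (m + 3)) F := 1 + vecMulVec w f with hg
    have hgd : g.det = 1 := by
      rw [hg, vecMulVec_eq Unit, det_one_add_replicateCol_mul_replicateRow, hfw, add_zero]
    have hga : g *ᵥ a = a := by
      rw [hg, add_mulVec, one_mulVec, vecMulVec_mulVec', hfa, zero_smul, add_zero]
    obtain ⟨b', D', hsc, he⟩ := form_stab (D := D) (b := b) (β := β) hgd hga
    have hin : ∀ w', (schur β a b' D' - σ • Y) *ᵥ w' ∈ span F ({a} : Set (Fin (m + 3) → F)) := fun w' => by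
      by_contra hh
      exact hfail (step b' D' (hGD.trans hsc) ⟨w', hh⟩)
    obtain ⟨h', hh'⟩ := exists_vecMulVec hout
    have e : (schur β a b' D' - σ • Y) * g = σ • (g * Y - Y * g) + vecMulVec a h' := by
      rw [Matrix.sub_mul, ← he, ← sub_add_cancel (schur β a b D) (σ • Y), hh', Matrix.mul_add, mul_vecMulVec, hga,
        Matrix.mul_smul, Matrix.smul_mul, smul_sub]
      abel
    have e2 : g * Y - Y * g = vecMulVec w (f ᵥ* Y) - vecMulVec (Y *ᵥ w) f := by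
      rw [hg, Matrix.add_mul, Matrix.mul_add, Matrix.one_mul, Matrix.mul_one, add_sub_add_left_eq_sub,
        vecMulVec_mul, mul_vecMulVec]
    have := hin (g *ᵥ z)
    rw [mulVec_mulVec, e, add_mulVec] at this
    have h3 := sub_mem this (mem_span_of_vecMulVec (a := a) (f := h') z)
    rw [add_sub_cancel_right, smul_mulVec, Submodule.smul_mem_iff _ hσ, e2, sub_mulVec, vecMulVec_mulVec',
      vecMulVec_mulVec', ← dotProduct_mulVec] at h3
    exact h3
  have eig : ∀ f : Fin (m + 3) → F, f ⬝ᵥ a = 0 → ∃ s : F, f ᵥ* Y = s • f := by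
    intro f hfa
    by_cases hf : f = 0
    · exact ⟨0, by simp [hf]⟩
    obtain ⟨w, hw, hwa⟩ := exists_orth_notMem (by omega) f a
    have h1 : ∀ z, f ⬝ᵥ z = 0 → f ⬝ᵥ (Y *ᵥ z) = 0 := fun z hz => by
      by_contra hne
      have := comm f w hfa hw z
      rw [hz, zero_smul, sub_zero] at this
      exact hwa ((Submodule.smul_mem_iff _ hne).1 this)
    obtain ⟨s, hs⟩ := mem_span_singleton.1 (mem_span_of_annih (a := f) (z := f ᵥ* Y) fun z hz => by
      rw [dotProduct_comm, ← dotProduct_mulVec]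
      exact h1 z (by rw [dotProduct_comm]; exact hz))
    exact ⟨s, hs.symm⟩
  obtain ⟨f0, hf0a, hf0n⟩ := exists_orth_notMem (by omega : 3 ≤ m + 3) a (0 : Fin (m + 3) → F)
  rw [dotProduct_comm] at hf0a
  have hf0 : f0 ≠ 0 := fun e => hf0n (by rw [e]; exact zero_mem _)
  obtain ⟨s, hs⟩ := eig f0 hf0a
  obtain ⟨w, hw⟩ := hYa s
  refine hw (mem_span_of_annih fun f hfa => ?_)
  obtain ⟨t, ht⟩ := eig f hfa
  rw [dotProduct_mulVec]
  by_cases hmem : f ∈ span F ({f0} : Set (Fin (m + 3) → F))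
  · obtain ⟨k, rfl⟩ := mem_span_singleton.1 hmem
    simp [smul_vecMul, vecMul_sub, hs, vecMul_smul]
    ring
  · obtain ⟨r, hr⟩ := eig (f + f0) (by rw [add_dotProduct, hfa, hf0a, add_zero])
    rw [add_vecMul, ht, hs, smul_add] at hr
    have e : (t - r) • f + (s - r) • f0 = 0 := by linear_combination (norm := module) hr
    obtain ⟨h2, h1⟩ := SLComm.indep_pair hf0 hmem (s - r) (t - r) ((add_comm _ _).trans e)
    rw [vecMul_sub, ht, vecMul_smul, vecMul_one, show t = s by linear_combination h1 - h2]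
    simp

theorem exists_R3 {G : Matrix (Fin 3) (Fin 3) F} {β : F} (hβ : β ≠ 0) {a b : Fin 2 → F}
    {D : Matrix (Fin 2) (Fin 2) F} (hGD : SC G (bl β a b D)) (hGd : G.det ≠ 0)
    {Y : Matrix (Fin 2) (Fin 2) F}
    (hne : Y⁻¹ *ᵥ a ∉ span F ({(schur β a b D)⁻¹ *ᵥ a} : Set (Fin 2 → F))) (τ : F) :
    ∃ (b' : Fin 2 → F) (D' : Matrix (Fin 2) (Fin 2) F), SC G (bl β a b' D') ∧
      (Y⁻¹ * schur β a b' D').trace = τ ∧ ∃ f, schur β a b' D' = schur β a b D - vecMulVec a f := by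
  have hSd := schur_det_ne hβ hGD.gc hGd
  have ha : a ≠ 0 := fun e => hne (by simp [e])
  have hp : (schur β a b D)⁻¹ *ᵥ a ≠ 0 := fun e => ha (mulVec_inj (M := (schur β a b D)⁻¹)
    (by rw [det_nonsing_inv]; simpa using hSd) (e.trans (mulVec_zero _).symm))
  obtain ⟨f, hf1, hf2⟩ := exists_dual2 hp hne 0 ((Y⁻¹ * schur β a b D).trace - τ)
  obtain ⟨b', D', hsc, he⟩ := form_shear hβ hSd (f := f) hf1
  refine ⟨b', D', hGD.trans hsc, ?_, f, he⟩
  rw [he, Matrix.mul_sub, trace_sub, mul_vecMulVec, trace_vecMulVec, dotProduct_comm, hf2, sub_sub_cancel]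

theorem exists_R3' {G : Matrix (Fin 3) (Fin 3) F} (hG : ∀ c : F, G ≠ c • 1) (hGd : G.det ≠ 0) {β : F}
    (hβ : β ≠ 0) {a : Fin 2 → F} (ha : a ≠ 0) {Y : Matrix (Fin 2) (Fin 2) F} (hY : Y.det ≠ 0)
    (hYa : Y *ᵥ a ∉ span F ({a} : Set (Fin 2 → F))) (τ : F) :
    ∃ (b' : Fin 2 → F) (D' : Matrix (Fin 2) (Fin 2) F), SC G (bl β a b' D') ∧
      (Y⁻¹ * schur β a b' D').trace = τ := by
  obtain ⟨b, D, hGD⟩ := exists_Gform hG β ha
  have hu := Ne.isUnit hY
  have hq : Y⁻¹ *ᵥ a ∉ span F ({a} : Set (Fin 2 → F)) := by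
    intro h
    obtain ⟨k, hk⟩ := mem_span_singleton.1 h
    have := congrArg (Y *ᵥ ·) hk
    simp only [mulVec_smul, mulVec_mulVec, mul_nonsing_inv _ hu, one_mulVec] at this
    have hk0 : k ≠ 0 := fun e => ha (by rw [← this, e, zero_smul])
    exact hYa (mem_span_singleton.2 ⟨k⁻¹, by
      conv_lhs => rw [← this]
      rw [smul_smul, inv_mul_cancel₀ hk0, one_smul]⟩)
  by_cases hne : Y⁻¹ *ᵥ a ∉ span F ({(schur β a b D)⁻¹ *ᵥ a} : Set (Fin 2 → F))
  · obtain ⟨b', D', h1, h2, -⟩ := exists_R3 hβ hGD hGd hne τ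
    exact ⟨b', D', h1, h2⟩
  push Not at hne
  set p := (schur β a b D)⁻¹ *ᵥ a with hp
  obtain ⟨k, hk⟩ := mem_span_singleton.1 hne
  have hpa : p ∉ span F ({a} : Set (Fin 2 → F)) := fun h => hq (hk ▸ smul_mem _ k h)
  obtain ⟨f, hfa, hfp⟩ := exists_dual2 ha hpa 0 1
  have hgd : (1 + vecMulVec a f).det = 1 := by
    rw [vecMulVec_eq Unit, det_one_add_replicateCol_mul_replicateRow, hfa, add_zero]
  have hga : (1 + vecMulVec a f) *ᵥ a = a := by
    rw [add_mulVec, one_mulVec, vecMulVec_mulVec', hfa, zero_smul, add_zero]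
  obtain ⟨b1, D1, hsc, he⟩ := form_stab (D := D) (b := b) (β := β) hgd hga
  have hGD1 := hGD.trans hsc
  have hS1 := Ne.isUnit (schur_det_ne hβ hGD1.gc hGd)
  have hp1 : (schur β a b1 D1)⁻¹ *ᵥ a = p + a := by
    refine mulVec_inj (schur_det_ne hβ hGD1.gc hGd) ?_
    rw [mulVec_mulVec, mul_nonsing_inv _ hS1, one_mulVec,
      show p + a = (1 + vecMulVec a f) *ᵥ p by rw [add_mulVec, one_mulVec, vecMulVec_mulVec', hfp, one_smul],
      mulVec_mulVec, ← he, hp, mulVec_mulVec, Matrix.mul_assoc,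
      mul_nonsing_inv _ (Ne.isUnit (schur_det_ne hβ hGD.gc hGd)), Matrix.mul_one, hga]
  have hne1 : Y⁻¹ *ᵥ a ∉ span F ({(schur β a b1 D1)⁻¹ *ᵥ a} : Set (Fin 2 → F)) := by
    intro h
    rw [hp1] at h
    obtain ⟨k', hk'⟩ := mem_span_singleton.1 h
    rw [← hk, smul_add] at hk'
    have e : k' • a + (k' - k) • p = 0 := by linear_combination (norm := module) hk'
    obtain ⟨h1, h2⟩ := SLComm.indep_pair ha hpa k' (k' - k) e
    rw [h1, zero_sub, neg_eq_zero] at h2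
    exact hq (by rw [← hk, h2, zero_smul]; exact zero_mem _)
  obtain ⟨b', D', h1, h2, -⟩ := exists_R3 hβ hGD1 hGd hne1 τ
  exact ⟨b', D', h1, h2⟩

end Cfsg.Agent.CovNum
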